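import Cfsg.Agent.H663.PpdScott
import Cfsg.Agent.H921.SporLe
import Cfsg.Agent.H921.SporSuz
import Cfsg.Agent.H806.LsFiLe
import Cfsg.Agent.H489.DegHe
import Cfsg.Agent.H489.DegHN
import Cfsg.Agent.SporadicRecognition.SuzOrder
import Cfsg.Agent.SporadicB.HePerm.Simple
import Cfsg.Agent.SporadicB.HePerm.Final
import Cfsg.Agent.SporadicB.HeUpper
import Cfsg.Agent.S0399
import Cfsg.Agent.S1696
import Cfsg.Agent.S1697
import Cfsg.Agent.S1701
import Cfsg.Agent.S2048
import Cfsg.Agent.S2065
import Cfsg.Agent.S2069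
import Cfsg.Agent.S2074
import Cfsg.Agent.S2075
import Cfsg.Agent.S2079
import Cfsg.Agent.S2080
import Cfsg.Agent.S2082

/-!
# TEAM PPD (S5948): the rows `J₁`, `Suz`, `He`, `Co₁`, `Fi₂₂`, `Fi₂₃`, `HN` (every characteristic; helper663)

`row_j1`, `row_suz`, `row_he`, `row_co1`, `row_fi22`, `row_fi23`, `row_hn` :
`Row k m P` and `Spor.IsoX (Soc P)` give `False`.
-/

set_option autoImplicit false
set_option linter.unusedSectionVars false

namespace Cfsg.Agent.H663.Ppd

open Cfsg Cfsg.Geo Matrix
open Cfsg.Agent.H915.LD Cfsg.Agent.H100.Ppd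

universe u v

/-- `|Aut T|` divides `|T| |Out T|` -/
theorem card_mulAut_dvd {T : Type v} [Group T] {a b N : ℕ} (ha : Nat.card T = a) (hb : Nat.card (Cfsg.Out T) = b)
    (hN : a * b = N) : Nat.card (MulAut T) ∣ N := by
  rw [← hN, ← ha, ← hb, Subgroup.card_eq_card_quotient_mul_card_subgroup (Inn T), mul_comm]
  exact mul_dvd_mul_right (Subgroup.card_range_dvd _) _

section

variable {n : ℕ} {F : Type u} [Field F] [Finite F] {k m : ℕ} {P : Subgroup (GL (Fin n) F)}

/-- **The numeric criterion** for the orders below. -/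
theorem kill_large (h : Row k m P) {T : Type v} [Group T] (e : Soc P ≃* T) {N : ℕ}
    (hN : Nat.card (MulAut T) ∣ N) (hk : 7 ≤ k)
    (hpr : ∀ r : ℕ, r.Prime → r ∣ N → r ≤ 7 ∨ r = 11 ∨ r = 13 ∨ r = 17 ∨ r = 19 ∨ r = 23)
    (hsq : ∀ r ∈ ({11, 13, 17, 19, 23} : Finset ℕ), ¬ r ^ 2 ∣ N) : False := by
  obtain ⟨r, hr, hrm⟩ := h.num.exists_prime
  have hmN : m ∣ N := (h.dvd_card e).trans hN
  have key : ∀ s : ℕ, s.Prime → s ∣ m → k ∣ s - 1 ∧ (s = 11 ∨ s = 13 ∨ s = 17 ∨ s = 19 ∨ s = 23) := by
    intro s hs hsm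
    have h1 := h.num.succ_le hs hsm
    refine ⟨h.num.dvd_sub_one hs hsm, ?_⟩
    rcases hpr s hs (hsm.trans hmN) with h2 | h2
    · omega
    · exact h2
  obtain ⟨hk1, hr1⟩ := key r hr hrm
  have hk2 : k ≤ 22 := by
    have h1 := h.num.succ_le hr hrm
    omega
  refine h.num.kill (r₀ := r) ?_ ?_ ?_
  · rcases hr1 with rfl | rfl | rfl | rfl | rfl <;> interval_cases k <;> omega
  · intro s hs hsm
    obtain ⟨hk3, hs1⟩ := key s hs hsm
    rcases hr1 with rfl | rfl | rfl | rfl | rfl <;> rcases hs1 with rfl | rfl | rfl | rfl | rfl <;>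
      first | rfl | (exfalso; interval_cases k <;> omega)
  · intro h1
    refine hsq r ?_ (h1.trans hmN)
    simp only [Finset.mem_insert, Finset.mem_singleton]
    exact hr1

/-- primes of a product of prime powers -/
theorem prime_dvd {r : ℕ} (hr : r.Prime) {a : List (ℕ × ℕ)} (ha : ∀ x ∈ a, x.1.Prime)
    (h : r ∣ (a.map fun x => x.1 ^ x.2).prod) : r ∈ a.map Prod.fst := by
  rw [Prime.dvd_prod_iff hr.prime] at h
  obtain ⟨y, hy, hry⟩ := h
  obtain ⟨x, hx, rfl⟩ := List.mem_map.1 hy
  have h1 := (Nat.prime_dvd_prime_iff_eq hr (ha x hx)).1 (hr.dvd_of_dvd_pow hry)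
  exact List.mem_map.2 ⟨x, hx, h1.symm⟩

theorem seven_le_of (h : Row k m P) (hn : 12 ≤ n) : 7 ≤ k := by
  have := h.num.nlt
  omega

/-- **The row `Co₁`.** -/
theorem row_co1 (h : Row k m P) (hT : Spor.IsoCo1 (Soc P)) : False := by
  obtain ⟨e⟩ := hT
  obtain ⟨p, hp⟩ := CharP.exists F
  have hpp : p.Prime := CharP.char_is_prime F p
  have hn := H921.Spor.Le.co1_le hpp h.core e
  refine kill_large h e (card_mulAut_dvd S0399.result.2 S2069.result rfl) (seven_le_of h (by omega)) ?_ ?_
  · intro r hr hrN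
    have h1 := prime_dvd hr (a := [(2, 21), (3, 9), (5, 4), (7, 2), (11, 1), (13, 1), (23, 1)]) (by decide +kernel)
      (by simpa using hrN)
    simp only [List.map_cons, List.map_nil, List.mem_cons, List.not_mem_nil, or_false] at h1
    omega
  · decide +kernel

/-- **The row `Fi₂₂`.** -/
theorem row_fi22 (h : Row k m P) (hT : Spor.IsoFi22 (Soc P)) : False := by
  obtain ⟨e⟩ := hT
  obtain ⟨p, hp⟩ := CharP.exists F
  have hpp : p.Prime := CharP.char_is_prime F p
  have hn := H806.Ls.fi22_le hpp h.core e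
  refine kill_large h e (card_mulAut_dvd S1696.result.2 S2079.result rfl) (seven_le_of h (by omega)) ?_ ?_
  · intro r hr hrN
    have h1 := prime_dvd hr (a := [(2, 18), (3, 9), (5, 2), (7, 1), (11, 1), (13, 1)]) (by decide +kernel)
      (by simpa using hrN)
    simp only [List.map_cons, List.map_nil, List.mem_cons, List.not_mem_nil, or_false] at h1
    omega
  · decide +kernel

/-- **The row `Fi₂₃`.** -/
theorem row_fi23 (h : Row k m P) (hT : Spor.IsoFi23 (Soc P)) : False := by
  obtain ⟨e⟩ := hT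
  obtain ⟨p, hp⟩ := CharP.exists F
  have hpp : p.Prime := CharP.char_is_prime F p
  have hn := H806.Ls.fi23_le hpp h.core e
  refine kill_large h e (card_mulAut_dvd S1697.result.2 S2080.result rfl) (seven_le_of h (by omega)) ?_ ?_
  · intro r hr hrN
    have h1 := prime_dvd hr (a := [(2, 18), (3, 13), (5, 2), (7, 1), (11, 1), (13, 1), (17, 1), (23, 1)])
      (by decide +kernel) (by simpa using hrN)
    simp only [List.map_cons, List.map_nil, List.mem_cons, List.not_mem_nil, or_false] at h1
    omega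
  · decide +kernel

/-- **The row `HN`.** -/
theorem row_hn (h : Row k m P) (hT : Spor.IsoHN (Soc P)) : False := by
  obtain ⟨e⟩ := hT
  obtain ⟨p, hp⟩ := CharP.exists F
  have hpp : p.Prime := CharP.char_is_prime F p
  have hn := H489.Deg.HN.hn_le hpp h.core e
  refine kill_large h e (card_mulAut_dvd S1701.result.2 S2082.result rfl) (seven_le_of h (by omega)) ?_ ?_
  · intro r hr hrN
    have h1 := prime_dvd hr (a := [(2, 15), (3, 6), (5, 6), (7, 1), (11, 1), (19, 1)])
      (by decide +kernel) (by simpa using hrN)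
    simp only [List.map_cons, List.map_nil, List.mem_cons, List.not_mem_nil, or_false] at h1
    omega
  · decide +kernel

theorem card_he : Nat.card Cfsg.Spor.He = 4030387200 := by
  obtain ⟨-, h2⟩ := Cfsg.Agent.SporadicB.HeUpper.card_he_le
  exact (Cfsg.Agent.SporadicB.HePerm.injective_of_card_le h2).2.1

/-- **The row `He`.** -/
theorem row_he (h : Row k m P) (hT : Spor.IsoHe (Soc P)) : False := by
  obtain ⟨e⟩ := hT
  obtain ⟨p, hp⟩ := CharP.exists F
  have hpp : p.Prime := CharP.char_is_prime F p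
  have hn := H489.Deg.He.he_le hpp h.core e
  refine kill_large h e (card_mulAut_dvd card_he S2075.result rfl) (seven_le_of h (by omega)) ?_ ?_
  · intro r hr hrN
    have h1 := prime_dvd hr (a := [(2, 11), (3, 3), (5, 2), (7, 3), (17, 1)])
      (by decide +kernel) (by simpa using hrN)
    simp only [List.map_cons, List.map_nil, List.mem_cons, List.not_mem_nil, or_false] at h1
    omega
  · decide +kernel

/-- The order of the group of scalars is prime to `r` if `r` does not divide the degree. -/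
theorem core_coprime (hC : Core P) {r : ℕ} (hr : r.Prime) (hn : ¬ r ∣ n) :
    (Nat.card ((scalars (Fin n) F).subgroupOf P)).Coprime r := by
  rw [Nat.coprime_comm, hr.coprime_iff_not_dvd]
  intro h
  have : Fact r.Prime := ⟨hr⟩
  obtain ⟨z, hz⟩ := exists_prime_orderOf_dvd_card' (G := ((scalars (Fin n) F).subgroupOf P)) r h
  have h1 := hC.pow_card z.2
  have h2 : z ^ Fintype.card (Fin n) = 1 := Subtype.ext h1
  rw [Fintype.card_fin, ← orderOf_dvd_iff_pow_eq_one, hz] at h2
  exact hn h2

/-- `Suz`: degree at least 12 -/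
theorem suz_le (h : Row k m P) (e : Soc P ≃* Spor.Suz) : 12 ≤ n := by
  obtain ⟨p, hp⟩ := CharP.exists F
  have hpp : p.Prime := CharP.char_is_prime F p
  by_cases h5 : p = 5
  · by_contra hn
    have h10 := h.num.ten
    have h1 : 36 ≤ n := by
      refine h.le_of_bd e (r := 3) ?_ (H921.Spor.Suz.Suz_three.bd (F := F) (by norm_num)
        (H489.Deg.cast_ne (F := F) hpp Nat.prime_three (by omega)))
      exact core_coprime h.core Nat.prime_three (by omega)
    omega
  · exact H489.Deg.le_of_bd h.core e Cfsg.Agent.S2048.result (r := 5) (by norm_num)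
      (H921.Spor.Suz.Suz_five.bd (F := F) (by norm_num)
        (H489.Deg.cast_ne (F := F) hpp (by norm_num : (5 : ℕ).Prime) h5))

/-- **The row `Suz`.** -/
theorem row_suz (h : Row k m P) (hT : Spor.IsoSuz (Soc P)) : False := by
  obtain ⟨e⟩ := hT
  have hn := suz_le h e
  refine kill_large h e (card_mulAut_dvd Cfsg.Agent.SporadicRecognition.SuzOrder.card_Suz S2074.result rfl)
    (seven_le_of h (by omega)) ?_ ?_
  · intro r hr hrN
    have h1 := prime_dvd hr (a := [(2, 14), (3, 7), (5, 2), (7, 1), (11, 1), (13, 1)])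
      (by decide +kernel) (by simpa using hrN)
    simp only [List.map_cons, List.map_nil, List.mem_cons, List.not_mem_nil, or_false] at h1
    omega
  · decide +kernel

/-- **The row `J₁`.** -/
theorem row_j1 (h : Row k m P) (hT : Spor.IsoJ1 (Soc P)) : False := by
  obtain ⟨e⟩ := hT
  have hN : Nat.card (MulAut Spor.J1) ∣ 175560 :=
    card_mulAut_dvd SporadicB.J1.Main.isJ1.2 S2065.result rfl
  have hpr : ∀ r : ℕ, r.Prime → r ∣ 175560 → r ≤ 7 ∨ r = 11 ∨ r = 19 := by
    intro r hr hrN
    have h1 := prime_dvd hr (a := [(2, 3), (3, 1), (5, 1), (7, 1), (11, 1), (19, 1)])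
      (by decide +kernel) (by simpa using hrN)
    simp only [List.map_cons, List.map_nil, List.mem_cons, List.not_mem_nil, or_false] at h1
    omega
  have h6 := h.num.six_le
  by_cases hk : k = 6
  · subst hk
    by_cases h19 : 19 ∣ m
    · exact j1_six h e h19
    · have hmN : m ∣ 175560 := (h.dvd_card e).trans hN
      refine h.num.kill (r₀ := 7) (by norm_num) ?_ ?_
      · intro r hr hrm
        have h1 := h.num.seven_le hr hrm
        have h2 := h.num.dvd_sub_one hr hrm
        rcases hpr r hr (hrm.trans hmN) with h3 | rfl | rfl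
        · omega
        · omega
        · exact absurd hrm h19
      · intro h1
        have h2 := h1.trans hmN
        revert h2
        decide +kernel
  · refine kill_large h e hN (by omega) ?_ (by decide +kernel)
    intro r hr hrN
    have := hpr r hr hrN
    omega

end

end Cfsg.Agent.H663.Ppd
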