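import Mathlib
import Cfsg.Agent.H663.GmnStep
import Cfsg.Agent.S4444
import Cfsg.Agent.H681.DegBasic
import Cfsg.Agent.Classification.BGIsometry

/-!
# Linear constituents over a self-normalizing Sylow subgroup: `p'`-groups, `p`-groups, induction
-/

set_option autoImplicit false
set_option linter.style.haveILetI false
set_option linter.unusedSectionVars false
open Cfsg

namespace Cfsg.Agent.H663.GmnStep

open Cfsg.Agent.Characters.Core Cfsg.Agent.Characters.Clifford Cfsg.Agent.H672
open scoped ComplexConjugate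

universe u v w

section base
variable {p : ℕ} {P : Type w} [Group P] [Finite P] {G : Type u} [Group G] [Finite G]
variable [hp : Fact p.Prime] {j : P →* G}

theorem eq_of_over_irr {H : Type w} [Group H] [Finite H] {G' : Type u} [Group G'] (f : H →* G')
    {χ : G' → ℂ} {θ : H → ℂ} (hχ : IsIrrCharacter H (χ ∘ f)) (hθ : IsIrrCharacter H θ)
    (h : Over f χ θ) : χ ∘ f = θ ∧ mult f χ θ = 1 := by
  classical
  letI := Fintype.ofFinite H
  have h1 : χ ∘ f = θ := by
    by_contra hne
    rw [over_iff] at h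
    exact h (classInner_irr_ne hχ hθ hne)
  refine ⟨h1, ?_⟩
  rw [mult_eq, h1, classInner_irr_self hθ]

/-- A linear character trivial on the kernel factors through the range. -/
theorem exists_factor (l : P →* ℂˣ) (hker : ∀ x : P, j x = 1 → l x = 1) :
    ∃ l' : j.range →* ℂˣ, ∀ (x : P) (h : j x ∈ j.range), l' ⟨j x, h⟩ = l x := by
  refine ⟨(QuotientGroup.lift j.ker l (fun x hx => hker x hx)).comp
      (QuotientGroup.quotientKerEquivRange j).symm.toMonoidHom, fun x h => ?_⟩
  have h2 : (QuotientGroup.quotientKerEquivRange j).symm ⟨j x, h⟩ = (x : P ⧸ j.ker) := by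
    rw [MulEquiv.symm_apply_eq]
    rfl
  show QuotientGroup.lift j.ker l (fun x hx => hker x hx)
    ((QuotientGroup.quotientKerEquivRange j).symm ⟨j x, h⟩) = l x
  rw [h2]
  rfl

/-- A linear constituent is trivial on the kernel. -/
theorem lin_eq_one_of_over {χ : G → ℂ} {l : P →* ℂˣ} (ho : Over j χ (lf l)) (k : P) (hk : j k = 1) :
    l k = 1 := by
  classical
  letI := Fintype.ofFinite P
  rw [over_iff, classInner_def] at ho
  have h1 : ∑ x : P, (χ ∘ j) x * conj (lf l x) = conj (l k : ℂ) * ∑ x : P, (χ ∘ j) x * conj (lf l x) := by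
    rw [Finset.mul_sum]
    refine Fintype.sum_equiv (Equiv.mulRight k⁻¹) _ _ fun x => ?_
    simp only [Function.comp, Equiv.coe_mulRight, map_mul, map_inv, hk, lf, inv_one, mul_one,
      Units.val_mul, Units.val_inv_eq_inv_val, map_inv₀]
    have h4 : (l k : ℂ) * conj (l k : ℂ) = 1 := lf_mul_conj l k
    have h5 : conj (l k : ℂ) ≠ 0 := right_ne_zero_of_mul_eq_one h4
    field_simp
  have h2 : ∑ x : P, (χ ∘ j) x * conj (lf l x) ≠ 0 := right_ne_zero_of_mul ho
  have h3 : conj (l k : ℂ) = 1 := by
    have h4 : (conj (l k : ℂ) - 1) * ∑ x : P, (χ ∘ j) x * conj (lf l x) = 0 := by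
      rw [sub_mul, ← h1]; ring
    rcases mul_eq_zero.1 h4 with h5 | h5
    · exact sub_eq_zero.1 h5
    · exact absurd h5 h2
  have h4 : (l k : ℂ) = 1 := by
    have := congrArg conj h3
    simpa using this
  exact Units.ext h4

/-- The statement only depends on the range. -/
theorem Good.of_range (h : Good p j.range.subtype) : Good p j := by
  classical
  letI := Fintype.ofFinite P
  letI := Fintype.ofFinite j.range
  have key : ∀ (χ : G → ℂ) (l : P →* ℂˣ), Over j χ (lf l) → ∃ l' : j.range →* ℂˣ,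
      l = l'.comp j.rangeRestrict ∧ mult j χ (lf l) = mult j.range.subtype χ (lf l') := by
    intro χ l ho
    obtain ⟨l', hl'⟩ := exists_factor (j := j) l (lin_eq_one_of_over ho)
    have e1 : l = l'.comp j.rangeRestrict := by
      ext x
      exact congrArg _ (hl' x ⟨x, rfl⟩).symm
    refine ⟨l', e1, ?_⟩
    rw [mult_eq, mult_eq, ← Classification.BGIsometry.classInner_comp' j.rangeRestrict
      j.rangeRestrict_surjective, e1]
    rfl
  refine ⟨fun χ hχ hd l l' hl hl' => ?_, fun χ hχ hd l hl => ?_,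
    fun χ χ' hχ hχ' hd hd' l hl hl' => ?_⟩
  · obtain ⟨m, rfl, hm⟩ := key χ l hl
    obtain ⟨m', rfl, hm'⟩ := key χ l' hl'
    rw [over_iff_mult, hm] at hl
    rw [over_iff_mult, hm'] at hl'
    rw [h.unique χ hχ hd m m' hl hl']
  · obtain ⟨m, rfl, hm⟩ := key χ l hl
    rw [over_iff_mult, hm] at hl
    rw [hm]
    exact h.mult_one χ hχ hd m hl
  · obtain ⟨m, rfl, hm⟩ := key χ l hl
    have hm' : mult j χ' (lf (m.comp j.rangeRestrict)) = mult j.range.subtype χ' (lf m) := by
      rw [mult_eq, mult_eq, ← Classification.BGIsometry.classInner_comp' j.rangeRestrict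
        j.rangeRestrict_surjective]
      rfl
    rw [over_iff_mult, hm] at hl
    rw [over_iff_mult, hm'] at hl'
    exact h.inj χ χ' hχ hχ' hd hd' m hl hl'

theorem SelfNorm.range (h : SelfNorm p j) : SelfNorm p j.range.subtype := by
  have e : j.range.subtype.range = j.range := Subgroup.range_subtype _
  exact ⟨by rw [e]; exact h.pgroup, by rw [e]; exact h.index, by rw [e]; exact h.self⟩

/-- In a normal `p'`-subgroup only the trivial character is invariant. -/
theorem eq_one_of_coprime (hj : SelfNorm p j) (N : Subgroup G) [hN : N.Normal]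
    (h : ¬ p ∣ Nat.card N) {θ : N → ℂ} (hθ : IsIrrCharacter N θ) (hi : j.range ≤ inertia N θ) :
    θ = 1 := by
  classical
  letI := Fintype.ofFinite G
  letI := Fintype.ofFinite N
  set C : Subgroup G := N ⊓ Subgroup.centralizer (j.range : Set G) with hC
  letI := Fintype.ofFinite C
  have hcop : (Nat.card N).Coprime (Nat.card j.range) := by
    obtain ⟨k, hk⟩ := IsPGroup.iff_card.1 hj.pgroup
    rw [hk]
    exact Nat.Coprime.pow_right _ ((Nat.Prime.coprime_iff_not_dvd hp.out).2 h).symm
  have hCbot : C = ⊥ := by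
    rw [eq_bot_iff]
    rintro x ⟨hxN, hxC⟩
    have h1 : x ∈ Subgroup.normalizer (j.range : Set G) := Subgroup.centralizer_le_normalizer _ hxC
    rw [hj.self] at h1
    have h2 : N ⊓ j.range = ⊥ := (Subgroup.disjoint_of_coprime_natCard hcop).eq_bot
    rw [← h2]
    exact ⟨hxN, h1⟩
  have hinv : ∀ χ : N → ℂ, j.range ≤ inertia N χ → ∀ s ∈ j.range, ∀ g g' : N,
      (g' : G) = s * g * s⁻¹ → χ g' = χ g := by
    intro χ hχ s hs g g' hg
    have h1 := mem_inertia_iff.1 (hχ hs) g
    rw [← h1]
    congr 1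
    exact Subtype.ext hg
  have key := S4444.result N j.range (fun s _ g hg => hN.conj_mem g hg s) hcop p hp.out hj.pgroup C
    hC inf_le_left
  have hone : j.range ≤ inertia N (1 : N → ℂ) := by
    intro g _
    rw [mem_inertia]
    funext n; rfl
  obtain ⟨β, ⟨m, hm, hpm⟩, -⟩ := key.1 ⟨θ, hθ⟩ (hinv θ hi)
  obtain ⟨β', ⟨m', hm', hpm'⟩, -⟩ := key.1 ⟨1, isIrr_one⟩ (hinv 1 hone)
  have hβ : β = β' := by
    by_contra hne
    have h1 := classInner_irr_ne β.2 β'.2 (fun h => hne (Subtype.ext h))
    rw [classInner_def] at h1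
    haveI : Subsingleton C := by
      rw [hCbot]; infer_instance
    rw [Fintype.sum_subsingleton _ (1 : C)] at h1
    rcases mul_eq_zero.1 h1 with h2 | h2
    · exact (inv_ne_zero (Nat.cast_ne_zero.2 Nat.card_pos.ne')) h2
    · rcases mul_eq_zero.1 h2 with h3 | h3
      · exact isIrr_apply_one_ne_zero β.2 h3
      · exact isIrr_apply_one_ne_zero β'.2 ((map_eq_zero _).1 h3)
  subst hβ
  have h1 := key.2.2.1 ⟨θ, hθ⟩ ⟨1, isIrr_one⟩ (hinv θ hi) (hinv 1 hone) β m m' hm hpm hm' hpm'
  exact congrArg Subtype.val h1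

/-- Normal `p'`-subgroups satisfy the hypotheses of the step. -/
theorem sec_of_coprime (hj : SelfNorm p j) (N : Subgroup G) [hN : N.Normal]
    (h : ¬ p ∣ Nat.card N) : Sec p j N := by
  have hone : ∀ ν : N.comap j →* ℂˣ, Over (jQ j N) (1 : N → ℂ) (lf ν) →
      (1 : N.comap j → ℂ) = lf ν ∧ mult (jQ j N) (1 : N → ℂ) (lf ν) = 1 := fun ν hν =>
    eq_of_over_irr (jQ j N) (χ := (1 : N → ℂ)) (isIrr_one (G := N.comap j)) (isIrr_lf ν) hν
  refine ⟨fun θ hθ hd hi ν _ ho => ?_, fun θ hθ hd hi ν ν' _ _ ho ho' => ?_,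
    fun θ θ' hθ hθ' _ _ hi hi' _ _ _ _ => ?_, fun θ hθ hd hi g ν _ _ => ?_,
    fun θ hθ hd hi l _ => ?_⟩
  · have h1 := eq_one_of_coprime hj N h hθ hi
    subst h1
    exact (hone ν ho).2
  · have h1 := eq_one_of_coprime hj N h hθ hi
    subst h1
    exact lf_injective ((hone ν' ho').1.symm.trans (hone ν ho).1)
  · rw [eq_one_of_coprime hj N h hθ hi, eq_one_of_coprime hj N h hθ' hi']
  · have h1 := eq_one_of_coprime hj N h hθ hi
    subst h1
    exact hi
  · have h1 := eq_one_of_coprime hj N h hθ (by rw [hi]; exact le_top)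
    subst h1
    exact ⟨1, isIrr_one, rfl⟩

/-- A normal `p`-subgroup lies in the Sylow subgroup. -/
theorem le_range_of_isPGroup (hj : SelfNorm p j) (N : Subgroup G) [hN : N.Normal]
    (h : IsPGroup p N) : N ≤ j.range := by
  obtain ⟨S, hS⟩ := h.exists_le_sylow
  obtain ⟨g, hg⟩ := MulAction.exists_smul_eq G S hj.sylow
  have h1 : (hj.sylow : Subgroup G) = j.range := rfl
  rw [← h1, ← hg, Sylow.coe_subgroup_smul]
  intro n hn
  rw [Subgroup.mem_pointwise_smul_iff_inv_smul_mem]
  refine hS ?_
  have h2 : ((MulAut.conj g)⁻¹ • n) = g⁻¹ * n * g := by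
    rw [← map_inv, MulAut.smul_def, MulAut.conj_apply, inv_inv]
  rw [h2]
  have := hN.conj_mem n hn g⁻¹
  rwa [inv_inv] at this

/-- Normal `p`-subgroups satisfy the hypotheses of the step. -/
theorem sec_of_isPGroup (hj : SelfNorm p j) (N : Subgroup G) [hN : N.Normal]
    (h : IsPGroup p N) : Sec p j N := by
  classical
  obtain ⟨k, hk⟩ := IsPGroup.iff_card.1 h
  have hNR := le_range_of_isPGroup hj N h
  have hsurj : Function.Surjective (jQ j N) := by
    intro n
    obtain ⟨x, hx⟩ := hNR n.2
    refine ⟨⟨x, ?_⟩, Subtype.ext hx⟩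
    show j x ∈ N
    rw [hx]; exact n.2
  have hlin : ∀ θ : N → ℂ, IsIrrCharacter N θ → ¬ p ∣ charDegree θ → ∃ t : N →* ℂˣ, θ = lf t := by
    intro θ hθ hd
    refine exists_hom_of_degree_one hθ ?_
    have h1 : charDegree θ ∣ Nat.card N := H681.DegBasic.dvd_card ⟨⟨θ, hθ⟩, rfl⟩
    rw [hk] at h1
    obtain ⟨i, -, hi⟩ := (Nat.dvd_prime_pow hp.out).1 h1
    rcases Nat.eq_zero_or_pos i with h0 | h0
    · rw [hi, h0, pow_zero]
    · exact absurd (hi ▸ dvd_pow_self p h0.ne') hd
  have hov : ∀ (t : N →* ℂˣ) (ν : N.comap j →* ℂˣ), Over (jQ j N) (lf t) (lf ν) →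
      t.comp (jQ j N) = ν ∧ mult (jQ j N) (lf t) (lf ν) = 1 := by
    intro t ν ho
    have h1 := eq_of_over_irr (jQ j N) (χ := lf t) (isIrr_lf (t.comp (jQ j N))) (isIrr_lf ν) ho
    exact ⟨lf_injective h1.1, h1.2⟩
  refine ⟨fun θ hθ hd hi ν _ ho => ?_, fun θ hθ hd hi ν ν' _ _ ho ho' => ?_,
    fun θ θ' hθ hθ' hd hd' hi hi' ν _ ho ho' => ?_, fun θ hθ hd hi g ν hν ho => ?_,
    fun θ hθ hd hi l ho => ?_⟩
  · obtain ⟨t, rfl⟩ := hlin θ hθ hd
    exact (hov t ν ho).2
  · obtain ⟨t, rfl⟩ := hlin θ hθ hd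
    exact (hov t ν' ho').1.symm.trans (hov t ν ho).1
  · obtain ⟨t, rfl⟩ := hlin θ hθ hd
    obtain ⟨t', rfl⟩ := hlin θ' hθ' hd'
    have h1 := (hov t ν ho).1.trans (hov t' ν ho').1.symm
    congr 1
    ext n
    obtain ⟨q, rfl⟩ := hsurj n
    exact congrArg _ (DFunLike.congr_fun h1 q)
  · obtain ⟨t, rfl⟩ := hlin θ hθ hd
    set t' : N →* ℂˣ := t.comp (MulAut.conjNormal g : MulAut N).toMonoidHom with ht'
    have e1 : lf t ∘ (MulAut.conjNormal g : MulAut N) = lf t' := rfl
    rw [e1] at ho ⊢
    have h1 := (hov t' ν ho).1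
    rintro _ ⟨x, rfl⟩
    rw [mem_inertia_lf]
    intro n
    obtain ⟨q, rfl⟩ := hsurj n
    have h2 : MulAut.conjNormal (j x) (jQ j N q) = jQ j N (MulAut.conjNormal x q) := by
      apply Subtype.ext
      show j x * j q * (j x)⁻¹ = j (x * q * x⁻¹)
      rw [map_mul, map_mul, map_inv]
    have h3 := hν x q
    rw [← h1] at h3
    rw [h2]
    exact h3
  · obtain ⟨t, rfl⟩ := hlin θ hθ hd
    have h1 := (hov t _ ho).1
    have hker : ∀ x : P, j x = 1 → l x = 1 := by
      intro x hx
      have hxQ : x ∈ N.comap j := by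
        show j x ∈ N
        rw [hx]; exact N.one_mem
      have h2 := DFunLike.congr_fun h1 ⟨x, hxQ⟩
      have h3 : jQ j N ⟨x, hxQ⟩ = 1 := Subtype.ext hx
      rw [MonoidHom.comp_apply, h3, map_one] at h2
      exact h2.symm
    obtain ⟨l', hl'⟩ := exists_factor (j := j) l hker
    obtain ⟨m, hm⟩ := lin_extends_to (p := p) (k := k) N hj.sylow j.range ⊤ hNR (le_refl _) le_top t
      (fun n => by
        rw [← map_pow]
        have : n ^ p ^ k = 1 := by rw [← hk]; exact pow_card_eq_one'
        rw [this, map_one])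
      (by rw [hi]) l' (fun n => by
        obtain ⟨q, rfl⟩ := hsurj n
        have h2 := DFunLike.congr_fun h1 q
        rw [MonoidHom.comp_apply] at h2
        rw [h2]
        exact hl' q _)
    refine ⟨lf (m.comp Subgroup.topEquiv.symm.toMonoidHom), isIrr_lf _, ?_⟩
    funext n
    exact congrArg _ (hm n)

end base

section induct
variable {p : ℕ} {P : Type w} [Group P] [Finite P] {G : Type u} [Group G] [Finite G]
variable [hp : Fact p.Prime] {j : P →* G}

theorem SelfNorm.codRestrict (hj : SelfNorm p j) (T : Subgroup G) (h : ∀ x, j x ∈ T) :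
    SelfNorm p (j.codRestrict T h) := by
  have hle : j.range ≤ T := by
    rintro _ ⟨x, rfl⟩
    exact h x
  have hr : (j.codRestrict T h).range = j.range.subgroupOf T := by
    ext y
    constructor
    · rintro ⟨x, rfl⟩
      exact ⟨x, rfl⟩
    · rintro ⟨x, hx⟩
      exact ⟨x, Subtype.ext hx⟩
  refine ⟨?_, ?_, ?_⟩
  · rw [hr]
    exact hj.pgroup.comap_subtype
  · rw [hr]
    intro hd
    exact hj.index (hd.trans (Subgroup.relIndex_dvd_index_of_le hle))
  · rw [hr]
    apply le_antisymm _ Subgroup.le_normalizer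
    intro y hy
    rw [Subgroup.mem_normalizer_iff] at hy
    have h1 : (y : G) ∈ Subgroup.normalizer (j.range : Set G) := by
      rw [Subgroup.mem_normalizer_iff]
      intro z
      constructor
      · intro hz
        exact (hy ⟨z, hle hz⟩).1 hz
      · intro hz
        have h2 : z ∈ T := by
          have := T.mul_mem (T.mul_mem (T.inv_mem y.2) (hle hz)) y.2
          simpa [mul_assoc] using this
        exact (hy ⟨z, h2⟩).2 hz
    rw [hj.self] at h1
    exact h1

theorem SelfNorm.mk' (hj : SelfNorm p j) (N : Subgroup G) [hN : N.Normal] :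
    SelfNorm p ((QuotientGroup.mk' N).comp j) := by
  have hr : ((QuotientGroup.mk' N).comp j).range = j.range.map (QuotientGroup.mk' N) := by
    rw [MonoidHom.range_eq_map, MonoidHom.range_eq_map, Subgroup.map_map]
  refine ⟨?_, ?_, ?_⟩
  · rw [hr]
    exact hj.pgroup.map _
  · rw [hr]
    intro hd
    exact hj.index (hd.trans (Subgroup.index_map_dvd _ (QuotientGroup.mk'_surjective N)))
  · rw [hr]
    apply le_antisymm _ Subgroup.le_normalizer
    intro y hy
    obtain ⟨g, rfl⟩ := QuotientGroup.mk'_surjective N y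
    rw [Subgroup.mem_normalizer_iff] at hy
    have h1 : g ∈ j.range ⊔ N := by
      refine hj.mem_of_conj le_sup_left fun x => ?_
      have h2 := (hy (QuotientGroup.mk' N (j x))).1 ⟨j x, ⟨x, rfl⟩, rfl⟩
      obtain ⟨z, hz, hz'⟩ := h2
      rw [← map_inv, ← map_mul, ← map_mul] at hz'
      have h3 : z⁻¹ * (g * j x * g⁻¹) ∈ N := by
        rw [← QuotientGroup.eq_one_iff]
        have : (QuotientGroup.mk' N) (z⁻¹ * (g * j x * g⁻¹)) = 1 := by
          rw [map_mul, map_inv, hz', inv_mul_cancel]
        exact this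
      have h4 : g * j x * g⁻¹ = z * (z⁻¹ * (g * j x * g⁻¹)) := by group
      rw [h4]
      exact Subgroup.mul_mem _ (Subgroup.mem_sup_left hz) (Subgroup.mem_sup_right h3)
    have h5 : QuotientGroup.mk' N g ∈ (j.range ⊔ N).map (QuotientGroup.mk' N) := ⟨g, h1, rfl⟩
    rw [Subgroup.map_sup] at h5
    have h6 : N.map (QuotientGroup.mk' N) = ⊥ := by
      rw [Subgroup.map_eq_bot_iff, QuotientGroup.ker_mk']
    rwa [h6, sup_bot_eq] at h5

/-- The induction: it is enough to treat non-abelian minimal normal subgroups of order divisible by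
`p`, and a subgroup `R` of `G`. -/
theorem good_of_sec
    (hC : ∀ (G : Type u) [Group G] [Finite G] (R N : Subgroup G) [N.Normal],
      SelfNorm p R.subtype → N ≠ ⊥ → (∀ M : Subgroup G, M.Normal → M ≤ N → M = ⊥ ∨ M = N) →
      (¬ ∀ x ∈ N, ∀ y ∈ N, Commute x y) → p ∣ Nat.card N → Sec p R.subtype N) :
    ∀ (n : ℕ) (G : Type u) [Group G] [Finite G] (R : Subgroup G), Nat.card G ≤ n →
      SelfNorm p R.subtype → Good p R.subtype := by
  intro n
  induction n with
  | zero =>
    intro G _ _ R hn
    have := Nat.card_pos (α := G)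
    omega
  | succ n ih =>
    intro G _ _ R hn hj
    have ih' : ∀ (G : Type u) [Group G] [Finite G] {P : Type u} [Group P] [Finite P] (j : P →* G),
        Nat.card G ≤ n → SelfNorm p j → Good p j := by
      intro G _ _ P _ _ j hn hj
      exact Good.of_range (ih G j.range hn hj.range)
    set P := R with hP
    set j := R.subtype with hj'
    classical
    by_cases htriv : Subsingleton G
    · -- the trivial group
      letI := Fintype.ofFinite P
      have hone : ∀ χ : G → ℂ, IsIrrCharacter G χ → χ = 1 := by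
        intro χ hχ
        letI := Fintype.ofFinite G
        by_contra hne
        have h1 := classInner_irr_ne hχ isIrr_one hne
        rw [classInner_def, Fintype.sum_subsingleton _ (1 : G)] at h1
        simp only [Pi.one_apply, map_one, mul_one] at h1
        rcases mul_eq_zero.1 h1 with h2 | h2
        · exact (inv_ne_zero (Nat.cast_ne_zero.2 Nat.card_pos.ne')) h2
        · exact isIrr_apply_one_ne_zero hχ h2
      have hov : ∀ l : P →* ℂˣ, Over j (1 : G → ℂ) (lf l) →
          (1 : P → ℂ) = lf l ∧ mult j (1 : G → ℂ) (lf l) = 1 := fun l hl =>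
        eq_of_over_irr j (χ := (1 : G → ℂ)) (isIrr_one (G := P)) (isIrr_lf l) hl
      refine ⟨fun χ hχ _ l l' hl hl' => ?_, fun χ hχ _ l hl => ?_, fun χ χ' hχ hχ' _ _ _ _ _ => ?_⟩
      · have := hone χ hχ
        subst this
        exact lf_injective ((hov l' hl').1.symm.trans (hov l hl).1)
      · have := hone χ hχ
        subst this
        exact (hov l hl).2
      · rw [hone χ hχ, hone χ' hχ']
    rw [not_subsingleton_iff_nontrivial] at htriv
    obtain ⟨N, hN, hNne, hNmin⟩ : ∃ N : Subgroup G, N.Normal ∧ N ≠ ⊥ ∧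
        ∀ M : Subgroup G, M.Normal → M ≤ N → M = ⊥ ∨ M = N := by
      have hfin : {T : Subgroup G | T.Normal ∧ T ≠ ⊥}.Finite := Set.toFinite _
      have hne : {T : Subgroup G | T.Normal ∧ T ≠ ⊥}.Nonempty := ⟨⊤, inferInstance, top_ne_bot⟩
      obtain ⟨T, ⟨hT0, hTn⟩, hTmin⟩ := hfin.exists_minimal hne
      refine ⟨T, hT0, hTn, fun S hS hST => ?_⟩
      by_cases hS0 : S = ⊥
      · exact Or.inl hS0
      · exact Or.inr (le_antisymm hST (hTmin ⟨hS, hS0⟩ hST))
    have hsec : Sec p j N := by
      by_cases hpN : p ∣ Nat.card N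
      · by_cases hab : ∀ x ∈ N, ∀ y ∈ N, Commute x y
        · -- abelian: the p-part is normal
          refine sec_of_isPGroup hj N ?_
          let M : Subgroup G :=
            { carrier := {v | v ∈ N ∧ v ^ p = 1}
              mul_mem' := by
                rintro a b ⟨ha, ha'⟩ ⟨hb, hb'⟩
                refine ⟨mul_mem ha hb, ?_⟩
                have hc : Commute a b := hab a ha b hb
                rw [hc.mul_pow, ha', hb', one_mul]
              one_mem' := ⟨one_mem _, one_pow _⟩
              inv_mem' := by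
                rintro a ⟨ha, ha'⟩
                exact ⟨inv_mem ha, by rw [inv_pow, ha', inv_one]⟩ }
          have hMn : M.Normal := by
            constructor
            rintro n ⟨hn, hn'⟩ g
            refine ⟨hN.conj_mem n hn g, ?_⟩
            rw [conj_pow, hn', mul_one, mul_inv_cancel]
          obtain ⟨x, hx⟩ := exists_prime_orderOf_dvd_card' (G := N) p hpN
          have hxM : (x : G) ∈ M := by
            refine ⟨x.2, ?_⟩
            have h2 : x ^ p = 1 := by rw [← hx]; exact pow_orderOf_eq_one x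
            exact congrArg Subtype.val h2
          rcases hNmin M hMn (fun v hv => hv.1) with h | h
          · exfalso
            rw [h, Subgroup.mem_bot] at hxM
            have : x = 1 := Subtype.ext hxM
            rw [this, orderOf_one] at hx
            exact hp.out.one_lt.ne hx
          · intro y
            refine ⟨1, ?_⟩
            have hy : (y : G) ∈ M := by rw [h]; exact y.2
            apply Subtype.ext
            rw [pow_one]
            exact hy.2
        · exact hC G R N hj hNne hNmin hab hpN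
      · exact sec_of_coprime hj N hpN
    refine step hj hsec (fun T hT hNT hT1 => ?_) ?_
    · refine ih' T _ ?_ (hj.codRestrict T hT)
      have h1 : Nat.card T < Nat.card G := by
        refine lt_of_le_of_ne (Subgroup.card_le_card_group T) fun h => hT1 ?_
        exact Subgroup.eq_top_of_card_eq T h
      omega
    · refine ih' (G ⧸ N) _ ?_ (hj.mk' N)
      have h1 := Subgroup.card_eq_card_quotient_mul_card_subgroup N
      have h2 : 1 < Nat.card N := by
        rw [Subgroup.one_lt_card_iff_ne_bot]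
        exact hNne
      have h3 := Nat.card_pos (α := G ⧸ N)
      have h4 : Nat.card (G ⧸ N) * 2 ≤ Nat.card (G ⧸ N) * Nat.card N := Nat.mul_le_mul_left _ h2
      omega

end induct

end Cfsg.Agent.H663.GmnStep
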