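import Mathlib
import Cfsg.Agent.H663.GmnBase
import Cfsg.Agent.CharactersDeep.DadeAux
import Cfsg.Agent.CharactersDeep.QuatSylow

/-!
# Extension of an invariant character from a linear constituent of multiplicity one

`ext_of_mult_one` : `N` normal in `G = N J`, `θ` an invariant irreducible character of `N` and `μ` a
linear character of `J` with `[θ, μ] = 1` on `N ∩ J`: then `θ` extends to `G`.

`ext_of_config` : the application with `J` the stabilizer of a linear constituent of `θ` on the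
intersection of `N` with a Sylow subgroup.
-/

set_option autoImplicit false
set_option linter.style.haveILetI false
set_option linter.unusedSectionVars false
open Cfsg

namespace Cfsg.Agent.H663.GmnStep

open Cfsg.Agent.Characters.Core Cfsg.Agent.Characters.Clifford Cfsg.Agent.H672
open scoped ComplexConjugate

universe u v w

section ext
variable {G : Type u} [Group G] [Finite G]

/-- Extension from multiplicity one. -/
theorem ext_of_mult_one (N J : Subgroup G) [hN : N.Normal] (hNJ : J ⊔ N = ⊤) {θ : N → ℂ}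
    (hθ : IsIrrCharacter N θ) (hinv : inertia N θ = ⊤) (μ : J →* ℂˣ)
    {D : Type w} [Group D] [Finite D] (a : D →* J) (b : D →* N) (hab : ∀ d, (a d : G) = b d)
    (hinj : Function.Injective b) (hsurj : ∀ x ∈ J, x ∈ N → ∃ d, (b d : G) = x)
    (h : mult b θ (lf (μ.comp a)) = 1) :
    ∃ ψ : G → ℂ, IsIrrCharacter G ψ ∧ ψ ∘ N.subtype = θ := by
  classical
  letI := Fintype.ofFinite G
  letI := Fintype.ofFinite N
  letI := Fintype.ofFinite J
  letI := Fintype.ofFinite ↥(J ⊓ N)
  letI := Fintype.ofFinite D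
  haveI := finite_irr (G := G)
  letI := Fintype.ofFinite (IrrCharacter G)
  have hinv' : ∀ (g : G) (n : N), θ ⟨g * n * g⁻¹, hN.conj_mem (n : G) n.2 g⟩ = θ n := by
    intro g
    have : g ∈ inertia N θ := by rw [hinv]; trivial
    exact mem_inertia_iff.1 this
  have havg := CharactersDeep.DadeAux.average_indFun J N (lf μ) (fun n => conj (θ n))
    (fun g n => by rw [hinv' g n])
  rw [hNJ, Subgroup.index_top, Nat.cast_one, one_mul] at havg
  -- the equivalence of `D` with the intersection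
  let E : D ≃ ↥(J ⊓ N) := Equiv.ofBijective
    (fun d => ⟨(b d : G), ⟨by rw [← hab]; exact (a d).2, (b d).2⟩⟩) (by
      constructor
      · intro d d' hd
        apply hinj
        apply Subtype.ext
        exact congrArg (fun z : ↥(J ⊓ N) => (z : G)) hd
      · rintro ⟨x, hxJ, hxN⟩
        obtain ⟨d, hd⟩ := hsurj x hxJ hxN
        exact ⟨d, Subtype.ext hd⟩)
  have hR : (Nat.card ↥(J ⊓ N) : ℂ)⁻¹ * ∑ m : ↥(J ⊓ N), lf μ ⟨m, m.2.1⟩ * conj (θ ⟨m, m.2.2⟩) = 1 := by
    rw [mult_eq, classInner_def] at h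
    have h1 := congrArg conj h
    rw [map_mul, map_one, map_sum, map_inv₀, Complex.conj_natCast] at h1
    rw [← h1, Nat.card_congr E.symm]
    congr 1
    refine (Fintype.sum_equiv E _ _ fun d => ?_).symm
    rw [map_mul, Complex.conj_conj, mul_comm]
    have e1 : (⟨(E d : G), (E d).2.1⟩ : J) = a d := Subtype.ext (hab d).symm
    have e2 : (⟨(E d : G), (E d).2.2⟩ : N) = b d := rfl
    rw [e1, e2]
    rfl
  rw [hR] at havg
  obtain ⟨c, hc, -⟩ := CharDeep.CliffordCorr.exists_nat_coeffs_indFun (G := G) J (isCharacter_lf μ)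
  choose m hm using fun χ : IrrCharacter G =>
    classInner_isNat (isCharacter_comp N.subtype (isIrr_isCharacter χ.2)) (isIrr_isCharacter hθ)
  have hsum : ((∑ χ : IrrCharacter G, c χ * m χ : ℕ) : ℂ) = 1 := by
    rw [← havg]
    have e3 : (Nat.card N : ℂ)⁻¹ * ∑ n : N, indFun J (lf μ) n * conj (θ n) =
        classInner (∑ χ : IrrCharacter G, (c χ : ℂ) • ((χ : G → ℂ) ∘ N.subtype)) θ := by
      rw [classInner_def, hc]
      congr 1
      refine Finset.sum_congr rfl fun n _ => ?_
      simp only [Finset.sum_apply, Pi.smul_apply, Function.comp, Subgroup.coe_subtype]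
    rw [e3, classInner_sum_left]
    push_cast
    refine Finset.sum_congr rfl fun χ _ => ?_
    rw [classInner_smul_left, hm]
  have hsum' : ∑ χ : IrrCharacter G, c χ * m χ = 1 := by exact_mod_cast hsum
  obtain ⟨χ, -, hχ⟩ := Finset.exists_ne_zero_of_sum_ne_zero (by rw [hsum']; exact one_ne_zero :
    ∑ χ : IrrCharacter G, c χ * m χ ≠ 0)
  have hle : c χ * m χ ≤ 1 := by
    rw [← hsum']
    exact Finset.single_le_sum (f := fun χ : IrrCharacter G => c χ * m χ)
      (fun _ _ => Nat.zero_le _) (Finset.mem_univ χ)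
  have hm1 : m χ = 1 := by
    have h3 : c χ * m χ = 1 := by omega
    exact Nat.dvd_one.1 (Dvd.intro_left (c χ) h3)
  have hmχ := hm χ
  rw [hm1, Nat.cast_one] at hmχ
  have key := CharDeep.CliffordCorr.restrict_eq_smul_of_invariant N χ.2 hθ (fun g => by
    have : g ∈ inertia N θ := by rw [hinv]; trivial
    exact mem_inertia.1 this) (by
      have : classInner (fun n : N => (χ : G → ℂ) n) θ = 1 := hmχ
      rw [this]; exact one_ne_zero)
  have h4 : classInner (fun n : N => (χ : G → ℂ) n) θ = 1 := hmχ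
  rw [h4, one_smul] at key
  exact ⟨χ, χ.2, key⟩

/-- A linear constituent from multiplicity one on a normal subgroup. -/
theorem exists_lin_of_mult_one {A : Type u} [Group A] [Finite A] {D : Type w} [Group D] [Finite D]
    (k : D →* A) (hk : Function.Injective k) (hn : k.range.Normal) {F : A → ℂ}
    (hF : IsCharacter A F) (ν : D →* ℂˣ)
    (hν : ∀ (x : A) (d d' : D), k d' = x * k d * x⁻¹ → ν d' = ν d) (h : mult k F (lf ν) = 1) :
    ∃ ε : A →* ℂˣ, ε.comp k = ν ∧ mult (MonoidHom.id A) F (lf ε) = 1 ∧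
      ∀ ε' : A →* ℂˣ, ε'.comp k = ν → mult (MonoidHom.id A) F (lf ε') ≠ 0 → ε' = ε := by
  classical
  letI := Fintype.ofFinite A
  letI := Fintype.ofFinite D
  haveI := finite_irr (G := A)
  letI := Fintype.ofFinite (IrrCharacter A)
  obtain ⟨a, ha1, ha2⟩ := CharDeep.CliffordCorr.exists_nat_coeffs hF
  choose b hb using fun η : IrrCharacter A =>
    classInner_isNat (isCharacter_comp k (isIrr_isCharacter η.2)) (isCharacter_lf ν)
  have hmult : mult k F (lf ν) = ((∑ η : IrrCharacter A, a η * b η : ℕ) : ℂ) := by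
    rw [mult_eq]
    have e3 : F ∘ k = ∑ η : IrrCharacter A, (a η : ℂ) • ((η : A → ℂ) ∘ k) := by
      funext x
      have := congrFun ha1 (k x)
      simp only [Finset.sum_apply, Pi.smul_apply] at this
      simp only [Function.comp, Finset.sum_apply, Pi.smul_apply]
      exact this
    rw [e3, classInner_sum_left]
    push_cast
    refine Finset.sum_congr rfl fun η _ => ?_
    rw [classInner_smul_left, hb]
  rw [hmult] at h
  have h1' : ∑ η : IrrCharacter A, a η * b η = 1 := by exact_mod_cast h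
  obtain ⟨η0, -, hη0⟩ := Finset.exists_ne_zero_of_sum_ne_zero (by rw [h1']; exact one_ne_zero :
    ∑ η : IrrCharacter A, a η * b η ≠ 0)
  have h2 : ∑ η : IrrCharacter A, a η * b η = a η0 * b η0 +
      ∑ η ∈ Finset.univ.erase η0, a η * b η :=
    (Finset.add_sum_erase Finset.univ (fun η : IrrCharacter A => a η * b η)
      (Finset.mem_univ _)).symm
  have h3 : a η0 * b η0 = 1 := by omega
  have h4 : ∑ η ∈ Finset.univ.erase η0, a η * b η = 0 := by omega
  have hrest : ∀ η : IrrCharacter A, η ≠ η0 → a η * b η = 0 := fun η hη =>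
    Finset.sum_eq_zero_iff.1 h4 η (Finset.mem_erase.2 ⟨hη, Finset.mem_univ _⟩)
  have ha0 : a η0 = 1 := Nat.dvd_one.1 (Dvd.intro _ h3)
  have hb0 : b η0 = 1 := Nat.dvd_one.1 (Dvd.intro_left _ h3)
  have hcl : classInner ((η0 : A → ℂ) ∘ k) (lf ν) = 1 := by
    rw [hb, hb0, Nat.cast_one]
  have key := comp_eq_smul_of_invariant_hom k hk hn η0.2 (isIrr_lf ν) (fun x d d' hd => by
      rw [lf_apply, lf_apply, hν x d d' hd]) (by rw [hcl]; exact one_ne_zero)
  rw [hcl, one_smul] at key
  have hdeg : charDegree (η0 : A → ℂ) = 1 := by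
    rw [← charDegree_comp_one k, key, charDegree_lf]
  obtain ⟨ε, hε⟩ := exists_hom_of_degree_one η0.2 hdeg
  refine ⟨ε, ?_, ?_, fun ε' hε' hne => ?_⟩
  · apply lf_injective
    rw [← key, hε]
    rfl
  · rw [mult_eq]
    have := ha2 η0
    rw [ha0, Nat.cast_one, hε] at this
    exact this
  · by_contra hcon
    have h5 : (⟨lf ε', isIrr_lf ε'⟩ : IrrCharacter A) ≠ η0 := by
      intro h6
      apply hcon
      apply lf_injective
      rw [← hε, ← h6]
    have h6 := hrest _ h5
    rcases mul_eq_zero.1 h6 with h7 | h7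
    · apply hne
      rw [mult_eq]
      have := ha2 ⟨lf ε', isIrr_lf ε'⟩
      rw [h7, Nat.cast_zero] at this
      exact this
    · have h8 := hb ⟨lf ε', isIrr_lf ε'⟩
      rw [h7, Nat.cast_zero] at h8
      have h9 : lf ε' ∘ k = lf ν := by
        rw [← hε']; rfl
      simp only [h9] at h8
      rw [classInner_irr_self (isIrr_lf ν)] at h8
      exact one_ne_zero h8

end ext

section config
variable {G : Type u} [Group G]

/-- The stabilizer of a linear character of a subgroup in its normalizer. -/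
def stabJ (D : Subgroup G) (ν : D →* ℂˣ) : Subgroup G where
  carrier := {x | (∀ y, y ∈ D ↔ x * y * x⁻¹ ∈ D) ∧ ∀ y z : D, (z : G) = x * y * x⁻¹ → ν z = ν y}
  one_mem' := by
    refine ⟨fun y => by rw [one_mul, inv_one, mul_one], fun y z h => ?_⟩
    rw [one_mul, inv_one, mul_one] at h
    rw [Subtype.ext h]
  mul_mem' := by
    rintro x x' ⟨h1, h2⟩ ⟨h1', h2'⟩
    have e : ∀ y, x * x' * y * (x * x')⁻¹ = x * (x' * y * x'⁻¹) * x⁻¹ := fun y => by group
    refine ⟨fun y => ?_, fun y z h => ?_⟩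
    · rw [e, ← h1, ← h1']
    · have hw : x' * y * x'⁻¹ ∈ D := (h1' y).1 y.2
      rw [← h2' y ⟨_, hw⟩ rfl]
      exact h2 ⟨_, hw⟩ z (by rw [h, e])
  inv_mem' := by
    rintro x ⟨h1, h2⟩
    refine ⟨fun y => ?_, fun y z h => ?_⟩
    · rw [inv_inv, h1 (x⁻¹ * y * x)]
      have : x * (x⁻¹ * y * x) * x⁻¹ = y := by group
      rw [this]
    · rw [inv_inv] at h
      refine (h2 z y ?_).symm
      rw [h]; group

theorem mem_stabJ {D : Subgroup G} {ν : D →* ℂˣ} {x : G} : x ∈ stabJ D ν ↔
    (∀ y, y ∈ D ↔ x * y * x⁻¹ ∈ D) ∧ ∀ y z : D, (z : G) = x * y * x⁻¹ → ν z = ν y := Iff.rfl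

variable [Finite G]

theorem mem_iff_of_conj_mem {D : Subgroup G} {x : G} (h : ∀ y ∈ D, x * y * x⁻¹ ∈ D) :
    ∀ y, y ∈ D ↔ x * y * x⁻¹ ∈ D := by
  have h1 : x ∈ Subgroup.normalizer (D : Set G) := by
    have h2 : D.map (MulAut.conj x).toMonoidHom ≤ D := by
      rintro _ ⟨y, hy, rfl⟩
      exact h y hy
    have h3 : D.map (MulAut.conj x).toMonoidHom = D := by
      refine Subgroup.eq_of_le_of_card_ge h2 ?_
      rw [Subgroup.card_map_of_injective (MulAut.conj x).injective]
    rw [Subgroup.mem_normalizer_iff]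
    intro y
    refine ⟨h y, fun hy => ?_⟩
    rw [← h3] at hy
    obtain ⟨z, hz, hz'⟩ := hy
    have : z = y := (MulAut.conj x).injective hz'
    rw [← this]; exact hz
  intro y
  exact Subgroup.mem_normalizer_iff.1 h1 y

/-- A linear constituent takes the value one at elements translating the character trivially. -/
theorem lin_apply_eq_one {A : Type u} [Group A] [Finite A] {F : A → ℂ} {ε : A →* ℂˣ}
    (h : mult (MonoidHom.id A) F (lf ε) ≠ 0) (s : A) (hs : ∀ x, F (s * x) = F x) : ε s = 1 := by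
  classical
  letI := Fintype.ofFinite A
  rw [mult_eq, classInner_def] at h
  have h0 : ∑ x : A, F x * conj (lf ε x) ≠ 0 := right_ne_zero_of_mul h
  have h1 : ∑ x : A, F x * conj (lf ε x) = conj (ε s : ℂ) * ∑ x : A, F x * conj (lf ε x) := by
    rw [Finset.mul_sum]
    refine Fintype.sum_equiv (Equiv.mulLeft s⁻¹) _ _ fun x => ?_
    simp only [Equiv.coe_mulLeft, lf, map_mul, map_inv, Units.val_mul, Units.val_inv_eq_inv_val,
      map_inv₀]
    have h4 : (ε s : ℂ) * conj (ε s : ℂ) = 1 := lf_mul_conj ε s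
    have h5 : conj (ε s : ℂ) ≠ 0 := right_ne_zero_of_mul_eq_one h4
    have h6 : F (s⁻¹ * x) = F x := by
      rw [← hs (s⁻¹ * x), mul_inv_cancel_left]
    rw [h6]
    field_simp
  have h3 : conj (ε s : ℂ) = 1 := by
    have h4 : (conj (ε s : ℂ) - 1) * ∑ x : A, F x * conj (lf ε x) = 0 := by
      rw [sub_mul, ← h1]; ring
    rcases mul_eq_zero.1 h4 with h5 | h5
    · exact sub_eq_zero.1 h5
    · exact absurd h5 h0
  have h4 : (ε s : ℂ) = 1 := by
    have := congrArg conj h3
    simpa using this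
  exact Units.ext h4

/-- Extension from the stabilizer of a linear constituent. -/
theorem ext_of_config {p : ℕ} [hp : Fact p.Prime] (S : Sylow p G) (N D : Subgroup G) [hN : N.Normal]
    (hD : D = (S : Subgroup G) ⊓ N) {θ : N → ℂ} (hθ : IsIrrCharacter N θ) (hinv : inertia N θ = ⊤)
    (l : (S : Subgroup G) →* ℂˣ) (ν : D →* ℂˣ) (hDS : D ≤ (S : Subgroup G)) (hDN : D ≤ N)
    (hν : ν = l.comp (Subgroup.inclusion hDS))
    (hm : mult (Subgroup.inclusion hDN) θ (lf ν) = 1)
    (h1 : ∀ x : G, (∀ y ∈ D, x * y * x⁻¹ ∈ D) → ∃ t ∈ N, (∀ y ∈ D, t * y * t⁻¹ ∈ D) ∧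
      ∀ y z w : D, (z : G) = x * y * x⁻¹ → (w : G) = t * y * t⁻¹ → ν z = ν w)
    (h2 : ∀ t : N, (∀ y ∈ D, (t : G) * y * (t : G)⁻¹ ∈ D) →
      (∀ y z : D, (z : G) = t * y * (t : G)⁻¹ → ν z = ν y) →
      ∃ t' : N, (t' : G) ∈ D ∧ ∀ n : N, θ (t'⁻¹ * t * n) = θ n) :
    ∃ ψ : G → ℂ, IsIrrCharacter G ψ ∧ ψ ∘ N.subtype = θ := by
  classical
  set J := stabJ D ν with hJ
  have hSJ : (S : Subgroup G) ≤ J := by
    intro x hx
    rw [hJ, mem_stabJ]
    refine ⟨mem_iff_of_conj_mem fun y hy => ?_, fun y z hz => ?_⟩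
    · rw [hD] at hy ⊢
      exact ⟨Subgroup.mul_mem _ (Subgroup.mul_mem _ hx hy.1) (Subgroup.inv_mem _ hx),
        hN.conj_mem y hy.2 x⟩
    · have e : Subgroup.inclusion hDS z = ⟨x, hx⟩ * Subgroup.inclusion hDS y * ⟨x, hx⟩⁻¹ :=
        Subtype.ext hz
      rw [hν, MonoidHom.comp_apply, MonoidHom.comp_apply, e, map_mul, map_mul, map_inv,
        mul_comm (l ⟨x, hx⟩), mul_assoc, mul_inv_cancel, mul_one]
  have hDJ : D ≤ J := hDS.trans hSJ
  set J0 : Subgroup J := N.subgroupOf J with hJ0
  let i0 : J0 →* N := (J.subtype.comp J0.subtype).codRestrict N fun x => x.2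
  have hi0 : ∀ x : J0, ((i0 x : N) : G) = ((x : J) : G) := fun x => rfl
  have hi0inj : Function.Injective i0 := by
    intro x y hxy
    apply Subtype.ext
    apply Subtype.ext
    rw [← hi0, ← hi0, hxy]
  let kJ : D →* J := Subgroup.inclusion hDJ
  let k0 : D →* J0 := kJ.codRestrict J0 fun y => hDN y.2
  have hk0 : ∀ y : D, (((k0 y : J0) : J) : G) = y := fun y => rfl
  have hk0inj : Function.Injective k0 := by
    intro x y hxy
    apply Subtype.ext
    rw [← hk0, ← hk0, hxy]
  have hik : i0.comp k0 = Subgroup.inclusion hDN := by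
    ext y; rfl
  have hk0n : k0.range.Normal := by
    constructor
    rintro _ ⟨y, rfl⟩ g
    have hg := (mem_stabJ.1 (g : J).2).1 y
    refine ⟨⟨_, hg.1 y.2⟩, ?_⟩
    apply Subtype.ext
    apply Subtype.ext
    rfl
  -- the linear constituent of `θ` on `J0`
  obtain ⟨ε, hε1, hε2, hε3⟩ := exists_lin_of_mult_one k0 hk0inj hk0n
    (isCharacter_comp i0 (isIrr_isCharacter hθ)) ν (fun x d d' hd => by
      refine (mem_stabJ.1 (x : J).2).2 d d' ?_
      rw [← hk0 d', hd]
      rfl) (by
      rw [← hm, ← hik]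
      letI := Fintype.ofFinite D
      rw [mult_eq, mult_eq]
      rfl)
  -- its invariance
  have hεinv : ∀ (x : J) (y : J0), ε (MulAut.conjNormal x y) = ε y := by
    intro x
    have h3 : ε.comp (MulAut.conjNormal x : MulAut J0).toMonoidHom = ε := by
      refine hε3 _ ?_ ?_
      · rw [← hε1]
        ext y
        have hg := (mem_stabJ.1 x.2).1 y
        have h4 : MulAut.conjNormal x (k0 y) = k0 ⟨_, hg.1 y.2⟩ := by
          apply Subtype.ext
          apply Subtype.ext
          rw [MulAut.conjNormal_apply]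
          rfl
        simp only [MonoidHom.comp_apply, MulEquiv.coe_toMonoidHom]
        rw [h4]
        have h5 := (mem_stabJ.1 x.2).2 y ⟨_, hg.1 y.2⟩ rfl
        rw [← hε1] at h5
        exact congrArg _ h5
      · have h4 : mult (MonoidHom.id J0) (θ ∘ i0) (lf (ε.comp (MulAut.conjNormal x : MulAut J0).toMonoidHom))
            = mult (MonoidHom.id J0) (θ ∘ i0) (lf ε) := by
          letI := Fintype.ofFinite J0
          rw [mult_eq, mult_eq, ← classInner_comp_mulEquiv (MulAut.conjNormal x : MulAut J0)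
            ((θ ∘ i0) ∘ MonoidHom.id J0) (lf ε)]
          have h5 : ((θ ∘ i0) ∘ MonoidHom.id J0) ∘ (MulAut.conjNormal x : MulAut J0) =
              (θ ∘ i0) ∘ MonoidHom.id J0 := by
            funext y
            have hx : (x : G) ∈ inertia N θ := by rw [hinv]; trivial
            exact mem_inertia_iff.1 hx (i0 y)
          rw [h5]
          rfl
        rw [h4, hε2]
        exact one_ne_zero
    intro y
    exact DFunLike.congr_fun h3 y
  -- its order
  obtain ⟨k, hk⟩ := IsPGroup.iff_card.1 (S.isPGroup'.to_le hDS)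
  have hεpow : ∀ y : J0, ε y ^ p ^ k = 1 := by
    intro y
    have hy := mem_stabJ.1 (y : J).2
    obtain ⟨t', ht', hθt⟩ := h2 (i0 y) (fun z hz => (hy.1 z).1 hz) (fun z w hw => hy.2 z w hw)
    set d : D := ⟨t', ht'⟩ with hd
    have e1 : ε ((k0 d)⁻¹ * y) = 1 := by
      refine lin_apply_eq_one (F := θ ∘ i0) (by rw [hε2]; exact one_ne_zero) _ fun x => ?_
      simp only [Function.comp, map_mul, map_inv]
      have e2 : i0 (k0 d) = t' := Subtype.ext rfl
      rw [e2]
      exact hθt (i0 x)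
    have e2 : ε y = ε (k0 d) := by
      rw [map_mul, map_inv, inv_mul_eq_one] at e1
      exact e1.symm
    have e3 : ε (k0 d) = ν d := DFunLike.congr_fun hε1 d
    rw [e2, e3, ← map_pow]
    have e4 : d ^ p ^ k = 1 := by rw [← hk]; exact pow_card_eq_one'
    rw [e4, map_one]
  -- extension to `K = J0 S`
  set SJ : Subgroup J := (S : Subgroup G).subgroupOf J with hSJ'
  set K : Subgroup J := J0 ⊔ SJ with hK
  have hJ0K : J0 ≤ K := le_sup_left
  have hSK : SJ ≤ K := le_sup_right
  obtain ⟨νK, hνK⟩ : ∃ νK : K →* ℂˣ, ∀ n : J0, νK ⟨n, hJ0K n.2⟩ = ε n := by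
    let e1 : J0.subgroupOf K ≃* J0 := Subgroup.subgroupOfEquivOfLe hJ0K
    let e2 : SJ.subgroupOf K ≃* SJ := Subgroup.subgroupOfEquivOfLe hSK
    let e3 : SJ ≃* (S : Subgroup G) := Subgroup.subgroupOfEquivOfLe hSJ
    let ε' : J0.subgroupOf K →* ℂˣ := ε.comp e1.toMonoidHom
    let l' : SJ.subgroupOf K →* ℂˣ := l.comp (e3.toMonoidHom.comp e2.toMonoidHom)
    let kK : D →* K := (Subgroup.inclusion hJ0K).comp k0
    let a : D →* SJ.subgroupOf K := kK.codRestrict _ fun y => hDS y.2
    let b : D →* J0.subgroupOf K := kK.codRestrict _ fun y => hDN y.2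
    obtain ⟨ψ, hψ, hψe⟩ := ext_of_mult_one (G := K) (J0.subgroupOf K) (SJ.subgroupOf K)
      (by
        rw [← Subgroup.subgroupOf_sup hSK hJ0K, sup_comm, ← hK, Subgroup.subgroupOf_self])
      (isIrr_lf ε') (by
        rw [eq_top_iff]
        intro x _
        rw [mem_inertia_lf]
        intro y
        exact hεinv (x : J) (e1 y)) l' a b (fun d => rfl) (by
          intro x y hxy
          apply Subtype.ext
          have := congrArg (fun z : J0.subgroupOf K => (((z : K) : J) : G)) hxy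
          exact this) (by
          rintro x hx hx'
          refine ⟨⟨((x : J) : G), ?_⟩, ?_⟩
          · rw [hD]; exact ⟨hx, hx'⟩
          · apply Subtype.ext
            rfl) (by
          letI := Fintype.ofFinite D
          rw [mult_eq]
          have e4 : lf ε' ∘ b = lf ν := by
            rw [← hε1]; rfl
          have e5 : l'.comp a = ν := by
            rw [hν]; rfl
          rw [e4, e5, classInner_irr_self (isIrr_lf ν)])
    have hdeg : charDegree ψ = 1 := by
      rw [← charDegree_comp_one (J0.subgroupOf K).subtype, hψe, charDegree_lf]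
    obtain ⟨νK, rfl⟩ := exists_hom_of_degree_one hψ hdeg
    refine ⟨νK, fun n => ?_⟩
    have := congrFun hψe ⟨⟨n, hJ0K n.2⟩, n.2⟩
    exact Units.ext this
  -- extension to `J`
  obtain ⟨m, hm'⟩ := lin_extends_to (p := p) (k := k) (G := J) J0 (S.subtype hSJ) K ⊤ hJ0K
    hSK le_top ε hεpow (by
      intro x _
      rw [mem_inertia_lf]
      exact hεinv x) νK hνK
  let μ : J →* ℂˣ := m.comp Subgroup.topEquiv.symm.toMonoidHom
  have hμ : μ.comp J0.subtype = ε := by
    ext n
    exact congrArg _ (hm' n)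
  -- the factorization `G = J N`
  have hJN : J ⊔ N = ⊤ := by
    rw [eq_top_iff]
    intro g _
    -- Frattini
    have hSN : ¬ p ∣ ((S : Subgroup G).subgroupOf N).index :=
      CharactersDeep.QuatSylow.not_dvd_relIndex_of_normal S N
    let SN : Sylow p N := IsPGroup.toSylow (S.isPGroup'.comap_subtype (K := N)) hSN
    have hF := Sylow.normalizer_sup_eq_top SN
    have hSNm : (SN : Subgroup N).map N.subtype = D := by
      rw [hD]
      show ((S : Subgroup G).subgroupOf N).map N.subtype = _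
      rw [Subgroup.subgroupOf_map_subtype]
    rw [hSNm] at hF
    have hg : g ∈ Subgroup.normalizer (D : Set G) ⊔ N := by rw [hF]; trivial
    obtain ⟨x, hx, n, hn, rfl⟩ := Subgroup.mem_sup_of_normal_right.1 hg
    have hx' : ∀ y ∈ D, x * y * x⁻¹ ∈ D := fun y hy => (Subgroup.mem_normalizer_iff.1 hx y).1 hy
    obtain ⟨t, ht, htD, htν⟩ := h1 x hx'
    have htD' := mem_iff_of_conj_mem htD
    have hxD' := mem_iff_of_conj_mem hx'
    have hj : x * t⁻¹ ∈ J := by
      rw [hJ, mem_stabJ]
      have e : ∀ y, x * t⁻¹ * y * (x * t⁻¹)⁻¹ = x * (t⁻¹ * y * t) * x⁻¹ := fun y => by group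
      have e' : ∀ y, t * (t⁻¹ * y * t) * t⁻¹ = y := fun y => by group
      refine ⟨fun y => ?_, fun y z hz => ?_⟩
      · rw [e, ← hxD', htD' (t⁻¹ * y * t), e']
      · have hw : t⁻¹ * y * t ∈ D := by rw [htD', e']; exact y.2
        exact htν ⟨_, hw⟩ z y (by rw [hz, e]) (by rw [e'])
    have : x * n = (x * t⁻¹) * (t * n) := by group
    rw [this]
    exact Subgroup.mul_mem _ (Subgroup.mem_sup_left hj)
      (Subgroup.mem_sup_right (N.mul_mem ht hn))
  exact ext_of_mult_one N J hJN hθ hinv μ J0.subtype i0 (fun d => rfl) hi0inj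
    (fun x hx hx' => ⟨⟨⟨x, hx⟩, hx'⟩, rfl⟩) (by
      rw [hμ, ← hε2]
      letI := Fintype.ofFinite J0
      rw [mult_eq, mult_eq]
      rfl)

end config

end Cfsg.Agent.H663.GmnStep
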