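import Mathlib
import Cfsg.Agent.H663.GmnExt
import Cfsg.Agent.S0188

/-!
# Characters of finite direct products
-/

set_option autoImplicit false
set_option linter.style.haveILetI false
set_option linter.unusedSectionVars false
open Cfsg

namespace Cfsg.Agent.H663.GmnStep

open Cfsg.Agent.Characters.Core Cfsg.Agent.Characters.Clifford Cfsg.Agent.H672
open scoped ComplexConjugate

universe u v w

/-- Irreducible characters of finite direct products are products. -/
theorem exists_pi_dep (n : ℕ) : ∀ (A : Fin n → Type u) [∀ i, Group (A i)] [∀ i, Finite (A i)]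
    (χ : (∀ i, A i) → ℂ), IsIrrCharacter (∀ i, A i) χ →
      ∃ f : ∀ i, A i → ℂ, (∀ i, IsIrrCharacter (A i) (f i)) ∧ ∀ a, χ a = ∏ i, f i (a i) := by
  induction n with
  | zero =>
    intro A _ _ χ hχ
    refine ⟨fun i => i.elim0, fun i => i.elim0, fun a => ?_⟩
    letI := Fintype.ofFinite (∀ i, A i)
    have h1 : χ = 1 := by
      by_contra hne
      have h1 := classInner_irr_ne hχ isIrr_one hne
      rw [classInner_def, Fintype.sum_subsingleton _ (1 : ∀ i, A i)] at h1
      simp only [Pi.one_apply, map_one, mul_one] at h1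
      rcases mul_eq_zero.1 h1 with h2 | h2
      · exact (inv_ne_zero (Nat.cast_ne_zero.2 Nat.card_pos.ne')) h2
      · exact isIrr_apply_one_ne_zero hχ h2
    rw [h1, Finset.univ_eq_empty, Finset.prod_empty, Pi.one_apply]
  | succ n ih =>
    intro A _ _ χ hχ
    let e : A 0 × (∀ i : Fin n, A i.succ) ≃* (∀ i, A i) :=
      { toFun := fun x => Fin.cons x.1 x.2
        invFun := fun a => (a 0, Fin.tail a)
        left_inv := fun x => by simp
        right_inv := fun a => by simp
        map_mul' := fun x y => by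
          funext i
          refine Fin.cases ?_ (fun j => ?_) i
          · simp
          · simp }
    have h1 : IsIrrCharacter (A 0 × (∀ i : Fin n, A i.succ)) (χ ∘ e.toMonoidHom) :=
      isIrr_comp e.toMonoidHom e.surjective hχ
    obtain ⟨φ, ψ, hφ, hψ, hφψ⟩ := (Cfsg.Agent.S0188.result _).1 h1
    obtain ⟨θ, hθ, hθ'⟩ := ih (fun i => A i.succ) ψ hψ
    refine ⟨Fin.cons φ θ, fun i => ?_, fun a => ?_⟩
    · refine Fin.cases ?_ (fun j => ?_) i
      · simpa using hφ
      · simpa using hθ j
    · have h2 := congrFun hφψ (a 0, Fin.tail a)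
      have h3 : (χ ∘ e.toMonoidHom) (a 0, Fin.tail a) = χ a := by
        show χ (Fin.cons (a 0) (Fin.tail a)) = χ a
        rw [Fin.cons_self_tail]
      rw [h3] at h2
      rw [h2, Fin.prod_univ_succ, hθ']
      simp [Fin.tail]

section pi
variable {ι : Type v} [Fintype ι] {A : ι → Type u} [∀ i, Group (A i)] [∀ i, Finite (A i)]

/-- The inner product of product functions. -/
theorem classInner_pi [∀ i, Fintype (A i)] [Fintype (∀ i, A i)] (f g : ∀ i, A i → ℂ) :
    classInner (fun x : ∀ i, A i => ∏ i, f i (x i)) (fun x => ∏ i, g i (x i)) =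
      ∏ i, classInner (f i) (g i) := by
  classical
  simp only [classInner_def]
  rw [Finset.prod_mul_distrib, Nat.card_pi, Finset.prod_inv_distrib, Nat.cast_prod]
  congr 1
  rw [Finset.prod_univ_sum, Fintype.piFinset_univ]
  have e : (Finset.univ : Finset (∀ i, A i)) = @Finset.univ _ (Fintype.ofFinite _) := by
    congr 1
    exact Subsingleton.elim _ _
  refine Finset.sum_congr (by congr 1; exact Subsingleton.elim _ _) fun x _ => ?_
  rw [map_prod, ← Finset.prod_mul_distrib]

/-- A homomorphism from a finite product to a commutative group. -/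
theorem hom_pi_apply [DecidableEq ι] {C : Type w} [CommGroup C] (f : (∀ i, A i) →* C)
    (x : ∀ i, A i) : f x = ∏ i, f (Pi.mulSingle i (x i)) := by
  let g : (∀ i, A i) →* C :=
    ∏ i, (f.comp (MonoidHom.mulSingle A i)).comp (Pi.evalMonoidHom A i)
  have hg : ∀ y, g y = ∏ i, f (Pi.mulSingle i (y i)) := by
    intro y
    rw [MonoidHom.finsetProd_apply]
    rfl
  have hfg : f = g := by
    refine MonoidHom.pi_ext fun i y => ?_
    rw [hg, Finset.prod_eq_single i]
    · rw [Pi.mulSingle_eq_same]
    · intro j _ hj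
      rw [Pi.mulSingle_eq_of_ne hj, Pi.mulSingle_one, map_one]
    · intro h; exact absurd (Finset.mem_univ _) h
  rw [hfg, hg]
  refine Finset.prod_congr rfl fun i _ => ?_
  rw [← hfg]

/-- The factors of a product of irreducible characters are unique. -/
theorem pi_unique [DecidableEq ι] {f g : ∀ i, A i → ℂ} (hf : ∀ i, IsIrrCharacter (A i) (f i))
    (hg : ∀ i, IsIrrCharacter (A i) (g i)) (h : ∀ x : ∀ i, A i, ∏ i, f i (x i) = ∏ i, g i (x i)) :
    f = g := by
  classical
  funext i
  by_contra hne
  letI := Fintype.ofFinite (A i)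
  have h1 := classInner_irr_ne (hf i) (hg i) hne
  -- `f i` is a multiple of `g i`
  have h2 : ∀ y : A i, f i y * ∏ j ∈ Finset.univ.erase i, f j 1 =
      g i y * ∏ j ∈ Finset.univ.erase i, g j 1 := by
    intro y
    have h3 := h (Pi.mulSingle i y)
    rw [← Finset.mul_prod_erase Finset.univ _ (Finset.mem_univ i),
      ← Finset.mul_prod_erase Finset.univ (fun j => g j (Pi.mulSingle i y j)) (Finset.mem_univ i),
      Pi.mulSingle_eq_same] at h3
    have e1 : ∏ j ∈ Finset.univ.erase i, f j (Pi.mulSingle i y j) =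
        ∏ j ∈ Finset.univ.erase i, f j 1 := Finset.prod_congr rfl fun j hj => by
      rw [Pi.mulSingle_eq_of_ne (Finset.ne_of_mem_erase hj)]
    have e2 : ∏ j ∈ Finset.univ.erase i, g j (Pi.mulSingle i y j) =
        ∏ j ∈ Finset.univ.erase i, g j 1 := Finset.prod_congr rfl fun j hj => by
      rw [Pi.mulSingle_eq_of_ne (Finset.ne_of_mem_erase hj)]
    rw [e1, e2] at h3
    exact h3
  have hc : ∏ j ∈ Finset.univ.erase i, f j 1 ≠ 0 :=
    Finset.prod_ne_zero_iff.2 fun j _ => isIrr_apply_one_ne_zero (hf j)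
  have hd : ∏ j ∈ Finset.univ.erase i, g j 1 ≠ 0 :=
    Finset.prod_ne_zero_iff.2 fun j _ => isIrr_apply_one_ne_zero (hg j)
  have h4 : f i = ((∏ j ∈ Finset.univ.erase i, g j 1) * (∏ j ∈ Finset.univ.erase i, f j 1)⁻¹) • g i := by
    funext y
    rw [Pi.smul_apply, smul_eq_mul]
    have := h2 y
    field_simp
    linear_combination this
  rw [h4, classInner_smul_left, classInner_irr_self (hg i), mul_one] at h1
  exact mul_ne_zero hd (inv_ne_zero hc) h1

end pi

end Cfsg.Agent.H663.GmnStep
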