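import Mathlib
import Cfsg.Agent.H663.GmnPi
import Cfsg.Agent.PermutationGroups.OnanScott

/-!
# Non-abelian minimal normal subgroups over a self-normalizing Sylow subgroup

`Exc p S d` : the properties of the set `{1} ∪ {θ ∈ Irr(S) | θ(1) = d}` of a simple group needed for
the inductive step.  `sec_of_exc` : if all the simple factors of the minimal normal subgroup `N` have
it, then `N` satisfies the hypotheses of the inductive step.
-/

set_option autoImplicit false
set_option linter.style.haveILetI false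
set_option linter.unusedSectionVars false
open Cfsg

namespace Cfsg.Agent.H663.GmnStep

open Cfsg.Agent.Characters.Core Cfsg.Agent.Characters.Clifford Cfsg.Agent.H672
open scoped ComplexConjugate

universe u v w

/-- An injective homomorphism onto a Sylow `p`-subgroup. -/
structure Syl (p : ℕ) {Q : Type v} {S : Type w} [Group Q] [Group S] (q : Q →* S) : Prop where
  inj : Function.Injective q
  pgroup : IsPGroup p Q
  index : ¬ p ∣ q.range.index

/-- A `p`-group of automorphisms containing a Sylow subgroup and not normalized by `p'`-elements. -/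
structure GoodA (p : ℕ) {Q : Type v} {S : Type w} [Group Q] [Group S] (q : Q →* S)
    (A : Subgroup (MulAut S)) : Prop where
  pgroup : IsPGroup p A
  conj_mem : ∀ x : Q, MulAut.conj (q x) ∈ A
  no : ∀ h : S, ¬ p ∣ orderOf h → (∀ a ∈ A, MulAut.conj h * a * (MulAut.conj h)⁻¹ ∈ A) → h = 1

/-- The set of irreducible characters: the trivial one and those of degree `d`. -/
def EE {S : Type u} [Group S] (d : ℕ) (θ : S → ℂ) : Prop :=
  IsIrrCharacter S θ ∧ (θ = 1 ∨ charDegree θ = d)

theorem EE.comp {S : Type u} [Group S] {S' : Type v} [Group S'] {d : ℕ} {θ : S → ℂ} (h : EE d θ)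
    (e : S' ≃* S) : EE d (θ ∘ e) := by
  refine ⟨isIrr_comp (e : S' →* S) e.surjective h.1, ?_⟩
  rcases h.2 with h | h
  · left; rw [h]; rfl
  · right
    rw [← h, Blocks.Basic.charDegree_def, Blocks.Basic.charDegree_def]
    simp

/-- The properties of the exceptional simple groups. -/
structure Exc (p : ℕ) (S : Type u) [Group S] [Finite S] (d : ℕ) : Prop where
  mem : ∀ (Q : Type u) [Group Q] [Finite Q] (q : Q →* S), Syl p q → ∀ A : Subgroup (MulAut S),
    GoodA p q A → ∀ θ : S → ℂ, IsIrrCharacter S θ → ¬ p ∣ charDegree θ →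
      (∀ a ∈ A, θ ∘ a = θ) → EE d θ
  mult_one : ∀ (Q : Type u) [Group Q] [Finite Q] (q : Q →* S), Syl p q → ∀ θ : S → ℂ, EE d θ →
    ∀ ν : Q →* ℂˣ, Over q θ (lf ν) → mult q θ (lf ν) = 1
  inj : ∀ (Q : Type u) [Group Q] [Finite Q] (q : Q →* S), Syl p q → ∀ θ θ' : S → ℂ, EE d θ →
    EE d θ' → ∀ ν : Q →* ℂˣ, Over q θ (lf ν) → Over q θ' (lf ν) → θ = θ'
  trans : ∀ (Q : Type u) [Group Q] [Finite Q] (q : Q →* S), Syl p q → ∀ θ : S → ℂ, EE d θ →
    ∀ ν ν' : Q →* ℂˣ, Over q θ (lf ν) → Over q θ (lf ν') → ∃ (t : S) (τ : Q ≃* Q),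
      ¬ p ∣ orderOf t ∧ (∀ y, q (τ y) = t * q y * t⁻¹) ∧ ∀ y, ν' y = ν (τ y)
  stab : ∀ (Q : Type u) [Group Q] [Finite Q] (q : Q →* S), Syl p q → ∀ θ : S → ℂ, EE d θ →
    ∀ ν : Q →* ℂˣ, Over q θ (lf ν) → ∀ (x : S) (τ : Q ≃* Q), (∀ y, q (τ y) = x * q y * x⁻¹) →
      (∀ y, ν (τ y) = ν y) → x ∈ q.range ∨ θ = 1

section coord
variable {G : Type u} [Group G] {N : Subgroup G} [hN : N.Normal] {m : ℕ} {T : Fin m → Subgroup G}

/-- Coordinates on a minimal normal subgroup. -/
structure IsCoord (e : N ≃* ∀ i, T i) : Prop where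
  inj : Function.Injective T
  le : ∀ i, T i ≤ N
  norm : ∀ i, N ≤ Subgroup.normalizer (T i : Set G)
  perm : ∀ (g : G) i, ∃ j, T j = (T i).map (MulAut.conj g).toMonoidHom
  single : ∀ i (t : T i), ((e.symm (Pi.mulSingle i t) : N) : G) = t
  comm : ∀ (n : N) i, e n i = 1 ↔ ∀ t ∈ T i, Commute (n : G) t

variable {e : N ≃* ∀ i, T i}

/-- Coordinates are equivariant. -/
theorem coord_conj (hc : IsCoord e) (g : G) (i j : Fin m)
    (hij : T j = (T i).map (MulAut.conj g).toMonoidHom) (n : N) :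
    (e (MulAut.conjNormal g n) j : G) = g * (e n i : G) * g⁻¹ := by
  classical
  -- a characterisation of coordinates
  have key : ∀ (n : N) (i : Fin m) (t : T i), (∀ s ∈ T i, Commute ((t : G)⁻¹ * n) s) → e n i = t := by
    intro n i t h
    have h1 : e (⟨t, hc.le i t.2⟩ : N) = Pi.mulSingle i t := by
      apply e.symm.injective
      rw [MulEquiv.symm_apply_apply]
      exact Subtype.ext (hc.single i t).symm
    have h2 : e ((⟨t, hc.le i t.2⟩ : N)⁻¹ * n) i = 1 := by
      rw [hc.comm]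
      intro s hs
      exact h s hs
    rw [map_mul, map_inv, h1, Pi.mul_apply, Pi.inv_apply, Pi.mulSingle_eq_same] at h2
    exact (inv_mul_eq_one.1 h2).symm
  have key2 : ∀ (n : N) (i : Fin m), ∀ s ∈ T i, Commute (((e n i : T i) : G)⁻¹ * n) s := by
    intro n i s hs
    have h1 : e (⟨e n i, hc.le i (e n i).2⟩ : N) = Pi.mulSingle i (e n i) := by
      apply e.symm.injective
      rw [MulEquiv.symm_apply_apply]
      exact Subtype.ext (hc.single i (e n i)).symm
    have h2 : e ((⟨e n i, hc.le i (e n i).2⟩ : N)⁻¹ * n) i = 1 := by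
      rw [map_mul, map_inv, h1, Pi.mul_apply, Pi.inv_apply, Pi.mulSingle_eq_same]
      simp
    exact (hc.comm _ i).1 h2 s hs
  have hmem : g * (e n i : G) * g⁻¹ ∈ T j := by
    rw [hij]
    exact ⟨e n i, (e n i).2, by simp⟩
  have := key (MulAut.conjNormal g n) j ⟨g * (e n i : G) * g⁻¹, hmem⟩ ?_
  · rw [this]
  · intro s hs
    rw [hij] at hs
    obtain ⟨t, ht, rfl⟩ := hs
    have h3 := key2 n i t ht
    simp only [MulAut.conjNormal_apply, MulEquiv.coe_toMonoidHom, MulAut.conj_apply]
    have h4 : (g * (e n i : G) * g⁻¹)⁻¹ * (g * (n : G) * g⁻¹) = g * ((e n i : G)⁻¹ * n) * g⁻¹ := by group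
    rw [h4]
    have h5 := h3.map (MulAut.conj g).toMonoidHom
    simpa using h5

/-- The isomorphism between two factors induced by conjugation. -/
noncomputable def conjIso {A B : Subgroup G} (g : G) (h : B = A.map (MulAut.conj g).toMonoidHom) :
    A ≃* B :=
  (A.equivMapOfInjective (MulAut.conj g).toMonoidHom (MulAut.conj g).injective).trans
    (MulEquiv.subgroupCongr h.symm)

theorem conjIso_apply {A B : Subgroup G} (g : G) (h : B = A.map (MulAut.conj g).toMonoidHom)
    (a : A) : (conjIso g h a : G) = g * a * g⁻¹ := rfl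

/-- The permutation of the factors. -/
noncomputable def IsCoord.sg (hc : IsCoord e) (g : G) (i : Fin m) : Fin m := (hc.perm g i).choose

theorem IsCoord.T_sg (hc : IsCoord e) (g : G) (i : Fin m) :
    T (hc.sg g i) = (T i).map (MulAut.conj g).toMonoidHom := (hc.perm g i).choose_spec

theorem IsCoord.sg_bij (hc : IsCoord e) (g : G) : Function.Bijective (hc.sg g) := by
  rw [Fintype.bijective_iff_injective_and_card]
  refine ⟨fun i j hij => ?_, rfl⟩
  apply hc.inj
  have h1 := hc.T_sg g i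
  rw [hij, hc.T_sg g j] at h1
  exact (Subgroup.map_injective (MulAut.conj g).injective h1).symm

/-- The isomorphism of the factors. -/
noncomputable def IsCoord.ci (hc : IsCoord e) (g : G) (i : Fin m) : T i ≃* T (hc.sg g i) :=
  conjIso g (hc.T_sg g i)

theorem IsCoord.ci_coe (hc : IsCoord e) (g : G) (i : Fin m) (t : T i) :
    (hc.ci g i t : G) = g * t * g⁻¹ := rfl

theorem IsCoord.coord (hc : IsCoord e) (g : G) (i : Fin m) (n : N) :
    e (MulAut.conjNormal g n) (hc.sg g i) = hc.ci g i (e n i) :=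
  Subtype.ext (coord_conj hc g i _ (hc.T_sg g i) n)

/-- `θ` is the product of the irreducible characters `f i` of the factors. -/
structure Dec (e : N ≃* ∀ i, T i) (θ : N → ℂ) (f : ∀ i, T i → ℂ) : Prop where
  irr : ∀ i, IsIrrCharacter (T i) (f i)
  eq : ∀ n, θ n = ∏ i, f i (e n i)

theorem exists_dec [Finite G] {θ : N → ℂ} (hθ : IsIrrCharacter N θ) : ∃ f, Dec e θ f := by
  obtain ⟨f, hf, hf'⟩ := exists_pi_dep m (fun i => T i) (θ ∘ e.symm)
    (isIrr_comp (e.symm : (∀ i, T i) →* N) e.symm.surjective hθ)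
  refine ⟨f, hf, fun n => ?_⟩
  have := hf' (e n)
  rw [Function.comp, e.symm_apply_apply] at this
  exact this

theorem Dec.conj' {θ : N → ℂ} {f : ∀ i, T i → ℂ} (hd : Dec e θ f) (hc : IsCoord e) (g : G) :
    Dec e (θ ∘ (MulAut.conjNormal g : MulAut N)) (fun i => f (hc.sg g i) ∘ hc.ci g i) := by
  refine ⟨fun i => isIrr_comp ((hc.ci g i : T i ≃* T (hc.sg g i)) : T i →* T (hc.sg g i))
    (hc.ci g i).surjective (hd.irr (hc.sg g i)), fun n => ?_⟩
  rw [Function.comp, hd.eq]
  refine ((hc.sg_bij g).prod_comp (fun j => f j (e (MulAut.conjNormal g n) j))).symm.trans ?_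
  refine Finset.prod_congr rfl fun i _ => ?_
  rw [hc.coord]
  rfl

theorem Dec.unique [Finite G] {θ : N → ℂ} {f f' : ∀ i, T i → ℂ} (h : Dec e θ f)
    (h' : Dec e θ f') : f = f' := by
  classical
  refine pi_unique h.irr h'.irr fun x => ?_
  have h1 := h.eq (e.symm x)
  rw [h'.eq (e.symm x), e.apply_symm_apply] at h1
  exact h1.symm

theorem Dec.degree [Finite G] {θ : N → ℂ} {f : ∀ i, T i → ℂ} (h : Dec e θ f) : charDegree θ = ∏ i, charDegree (f i) := by
  apply charDegree_of_eq
  rw [h.eq, map_one]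
  push_cast
  exact Finset.prod_congr rfl fun i _ => (coe_charDegree (h.irr i)).symm

end coord

section sylow
variable {G : Type u} [Group G] [Finite G] {N : Subgroup G} [hN : N.Normal] {m : ℕ}
  {T : Fin m → Subgroup G} {e : N ≃* ∀ i, T i} {p : ℕ} [hp : Fact p.Prime] {R : Subgroup G}

/-- The Sylow subgroup of `N` is the product of its intersections with the factors. -/
theorem mem_R (hc : IsCoord e) (hRp : IsPGroup p R) (hRi : ¬ p ∣ R.index) (n : N) :
    (n : G) ∈ R ↔ ∀ i, (e n i : G) ∈ R := by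
  classical
  let S : Sylow p G := hRp.toSylow hRi
  have hSN : ¬ p ∣ (R.subgroupOf N).index :=
    CharactersDeep.QuatSylow.not_dvd_relIndex_of_normal S N
  let SN : Sylow p N := IsPGroup.toSylow (hRp.comap_subtype (K := N)) hSN
  have hSNc : (SN : Subgroup N) = R.subgroupOf N := rfl
  constructor
  · let pr : ∀ i, N →* T i := fun i => (Pi.evalMonoidHom (fun i => T i) i).comp e.toMonoidHom
    let W : Subgroup N :=
      { carrier := {n | ∀ i, pr i n ∈ (R.subgroupOf N).map (pr i)}
        mul_mem' := by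
          intro a b ha hb i
          rw [map_mul]
          exact Subgroup.mul_mem _ (ha i) (hb i)
        one_mem' := by
          intro i
          rw [map_one]
          exact Subgroup.one_mem _
        inv_mem' := by
          intro a ha i
          rw [map_inv]
          exact Subgroup.inv_mem _ (ha i) }
    have hW : IsPGroup p W := by
      intro x
      have h1 : ∀ i, ∃ k : ℕ, (pr i x) ^ p ^ k = 1 := by
        intro i
        have h2 : IsPGroup p ((R.subgroupOf N).map (pr i)) := (hRp.comap_subtype (K := N)).map _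
        obtain ⟨k, hk⟩ := h2 ⟨_, x.2 i⟩
        exact ⟨k, congrArg Subtype.val hk⟩
      choose k hk using h1
      refine ⟨∑ i, k i, ?_⟩
      apply Subtype.ext
      apply e.injective
      rw [OneMemClass.coe_one, map_one]
      funext i
      have h3 : p ^ k i ∣ p ^ ∑ i, k i :=
        pow_dvd_pow _ (Finset.single_le_sum (f := k) (fun _ _ => Nat.zero_le _) (Finset.mem_univ i))
      obtain ⟨c, hc'⟩ := h3
      have h4 : (e ((x ^ p ^ ∑ i, k i : W) : N)) i = (pr i x) ^ p ^ ∑ i, k i := by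
        show pr i ((x ^ p ^ ∑ i, k i : W) : N) = _
        rw [← map_pow]
        rfl
      rw [h4, hc', pow_mul, hk i, one_pow]
      rfl
    have hle : (SN : Subgroup N) ≤ W := fun y hy i => ⟨y, hy, rfl⟩
    have hWe : W = SN := SN.is_maximal' hW hle
    intro hn i
    have h1 : e.symm (Pi.mulSingle i (e n i)) ∈ W := by
      intro j
      by_cases hj : j = i
      · subst hj
        refine ⟨n, hn, ?_⟩
        show e n j = e (e.symm (Pi.mulSingle j (e n j))) j
        rw [e.apply_symm_apply, Pi.mulSingle_eq_same]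
      · have h2 : pr j (e.symm (Pi.mulSingle i (e n i))) = 1 := by
          show e (e.symm (Pi.mulSingle i (e n i))) j = 1
          rw [e.apply_symm_apply, Pi.mulSingle_eq_of_ne hj]
        rw [h2]
        exact Subgroup.one_mem _
    rw [hWe] at h1
    have h2 : ((e.symm (Pi.mulSingle i (e n i)) : N) : G) ∈ R := h1
    rwa [hc.single] at h2
  · intro h
    have h1 : e n ∈ (R.subgroupOf N).map e.toMonoidHom := by
      refine Subgroup.pi_mem_of_mulSingle_mem _ fun i => ?_
      refine ⟨e.symm (Pi.mulSingle i (e n i)), ?_, ?_⟩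
      · show ((e.symm (Pi.mulSingle i (e n i)) : N) : G) ∈ R
        rw [hc.single]
        exact h i
      · exact e.apply_symm_apply _
    obtain ⟨y, hy, hye⟩ := h1
    have : y = n := e.injective hye
    rw [← this]
    exact hy

theorem syl_q (hc : IsCoord e) (hRp : IsPGroup p R) (hRi : ¬ p ∣ R.index) (i : Fin m) :
    Syl p (jQ R.subtype (T i)) := by
  let S : Sylow p G := hRp.toSylow hRi
  have hSN : ¬ p ∣ (R.subgroupOf N).index :=
    CharactersDeep.QuatSylow.not_dvd_relIndex_of_normal S N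
  let SN : Sylow p N := IsPGroup.toSylow (hRp.comap_subtype (K := N)) hSN
  refine ⟨fun x y hxy => ?_, hRp.to_subgroup _, ?_⟩
  · apply Subtype.ext
    apply Subtype.ext
    exact congrArg (fun z : T i => (z : G)) hxy
  · have hr : (jQ R.subtype (T i)).range = R.subgroupOf (T i) := by
      ext y
      constructor
      · rintro ⟨x, rfl⟩
        exact x.1.2
      · intro hy
        exact ⟨⟨⟨y, hy⟩, y.2⟩, rfl⟩
    rw [hr]
    have hn : ((T i).subgroupOf N).Normal := by
      rw [Subgroup.normal_subgroupOf_iff_le_normalizer (hc.le i)]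
      exact hc.norm i
    have h1 := CharactersDeep.QuatSylow.not_dvd_relIndex_of_normal SN ((T i).subgroupOf N)
    have h2 : (SN : Subgroup N).relIndex ((T i).subgroupOf N) = R.relIndex (T i) :=
      Subgroup.relIndex_subgroupOf (hc.le i)
    rw [h2] at h1
    exact h1

/-- The decomposition of the Sylow subgroup of `N`. -/
noncomputable def EQ (e : N ≃* ∀ i, T i) (hmem : ∀ n : N, (n : G) ∈ R ↔ ∀ i, (e n i : G) ∈ R) :
    N.comap R.subtype ≃* ∀ i, (T i).comap R.subtype where
  toFun x i := ⟨⟨(e (jQ R.subtype N x) i : G), (hmem _).1 x.1.2 i⟩, (e _ i).2⟩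
  invFun y := ⟨⟨(e.symm (fun i => jQ R.subtype (T i) (y i)) : N), (hmem _).2 (fun i => by
    rw [e.apply_symm_apply]; exact (y i).1.2)⟩, (e.symm _).2⟩
  left_inv x := by
    apply Subtype.ext
    apply Subtype.ext
    have : (fun i => jQ R.subtype (T i) (⟨⟨(e (jQ R.subtype N x) i : G), (hmem _).1 x.1.2 i⟩,
        (e _ i).2⟩ : (T i).comap R.subtype)) = e (jQ R.subtype N x) := by
      funext i; rfl
    show ((e.symm _ : N) : G) = x
    rw [this, e.symm_apply_apply]
    rfl
  right_inv y := by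
    funext i
    apply Subtype.ext
    apply Subtype.ext
    show ((e (jQ R.subtype N _) i : T i) : G) = y i
    have : jQ R.subtype N (⟨⟨(e.symm (fun i => jQ R.subtype (T i) (y i)) : N), (hmem _).2 (fun i => by
      rw [e.apply_symm_apply]; exact (y i).1.2)⟩, (e.symm _).2⟩ : N.comap R.subtype) =
        e.symm (fun i => jQ R.subtype (T i) (y i)) := rfl
    rw [this, e.apply_symm_apply]
    rfl
  map_mul' x y := by
    funext i
    apply Subtype.ext
    apply Subtype.ext
    show ((e (jQ R.subtype N (x * y)) i : T i) : G) = _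
    rw [map_mul, map_mul]
    rfl

theorem EQ_spec (hmem : ∀ n : N, (n : G) ∈ R ↔ ∀ i, (e n i : G) ∈ R) (x : N.comap R.subtype)
    (i : Fin m) : jQ R.subtype (T i) (EQ e hmem x i) = e (jQ R.subtype N x) i := rfl

/-- The components of a linear character. -/
noncomputable def nuc (hc : IsCoord e) (R : Subgroup G) (ν : N.comap R.subtype →* ℂˣ) (i : Fin m) :
    (T i).comap R.subtype →* ℂˣ :=
  ν.comp (Subgroup.inclusion (Subgroup.comap_mono (hc.le i)))

theorem lin_prod (hc : IsCoord e) (hmem : ∀ n : N, (n : G) ∈ R ↔ ∀ i, (e n i : G) ∈ R)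
    (ν : N.comap R.subtype →* ℂˣ) (x : N.comap R.subtype) :
    ν x = ∏ i, nuc hc R ν i (EQ e hmem x i) := by
  classical
  have h1 := hom_pi_apply (ν.comp (EQ e hmem).symm.toMonoidHom) (EQ e hmem x)
  have h2 : (ν.comp (EQ e hmem).symm.toMonoidHom) (EQ e hmem x) = ν x := by
    show ν ((EQ e hmem).symm (EQ e hmem x)) = ν x
    rw [MulEquiv.symm_apply_apply]
  rw [h2] at h1
  rw [h1]
  refine Finset.prod_congr rfl fun i _ => ?_
  show ν ((EQ e hmem).symm (Pi.mulSingle i (EQ e hmem x i))) =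
    ν (Subgroup.inclusion (Subgroup.comap_mono (hc.le i)) (EQ e hmem x i))
  congr 1
  apply Subtype.ext
  apply Subtype.ext
  show ((e.symm (fun j => jQ R.subtype (T j)
    ((Pi.mulSingle i (EQ e hmem x i) : ∀ i, (T i).comap R.subtype) j)) : N) : G) = _
  have h3 : (fun j => jQ R.subtype (T j)
      ((Pi.mulSingle i (EQ e hmem x i) : ∀ i, (T i).comap R.subtype) j)) =
      Pi.mulSingle i (jQ R.subtype (T i) (EQ e hmem x i)) := by
    funext j
    by_cases hj : j = i
    · subst hj
      rw [Pi.mulSingle_eq_same, Pi.mulSingle_eq_same]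
    · rw [Pi.mulSingle_eq_of_ne hj, Pi.mulSingle_eq_of_ne hj, map_one]
  rw [h3, hc.single]
  rfl

theorem mult_prod (hc : IsCoord e) (hmem : ∀ n : N, (n : G) ∈ R ↔ ∀ i, (e n i : G) ∈ R)
    {θ : N → ℂ} {f : ∀ i, T i → ℂ} (hd : Dec e θ f) (ν : N.comap R.subtype →* ℂˣ) :
    mult (jQ R.subtype N) θ (lf ν) =
      ∏ i, mult (jQ R.subtype (T i)) (f i) (lf (nuc hc R ν i)) := by
  classical
  letI := Fintype.ofFinite (N.comap R.subtype)
  letI : ∀ i, Fintype ((T i).comap R.subtype) := fun i => Fintype.ofFinite _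
  letI : Fintype (∀ i, (T i).comap R.subtype) := Fintype.ofFinite _
  rw [mult_eq]
  simp only [mult_eq]
  rw [← classInner_pi (fun i => f i ∘ jQ R.subtype (T i)) (fun i => lf (nuc hc R ν i)),
    ← classInner_comp_mulEquiv (EQ e hmem)]
  congr 1
  · funext x
    simp only [Function.comp]
    rw [hd.eq]
    rfl
  · funext x
    simp only [Function.comp, lf]
    rw [lin_prod hc hmem ν x, Units.coe_prod]

theorem over_comp_of_over (hc : IsCoord e) (hmem : ∀ n : N, (n : G) ∈ R ↔ ∀ i, (e n i : G) ∈ R)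
    {θ : N → ℂ} {f : ∀ i, T i → ℂ} (hd : Dec e θ f) {ν : N.comap R.subtype →* ℂˣ}
    (ho : Over (jQ R.subtype N) θ (lf ν)) (i : Fin m) :
    Over (jQ R.subtype (T i)) (f i) (lf (nuc hc R ν i)) := by
  rw [over_iff_mult, mult_prod hc hmem hd] at ho
  rw [over_iff_mult]
  exact Finset.prod_ne_zero_iff.1 ho i (Finset.mem_univ i)

/-- Two characters with all factors in `EE` over the same linear character are equal. -/
theorem eq_of_all (hc : IsCoord e) (hRp : IsPGroup p R) (hRi : ¬ p ∣ R.index) {d : ℕ}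
    (hE : ∀ i, Exc p (T i) d) {θ θ' : N → ℂ} {f f' : ∀ i, T i → ℂ} (hd : Dec e θ f)
    (hd' : Dec e θ' f') (hf : ∀ i, EE d (f i)) (hf' : ∀ i, EE d (f' i))
    {ν : N.comap R.subtype →* ℂˣ} (ho : Over (jQ R.subtype N) θ (lf ν))
    (ho' : Over (jQ R.subtype N) θ' (lf ν)) : θ = θ' := by
  have hmem := mem_R hc hRp hRi
  have h1 : f = f' := by
    funext i
    exact (hE i).inj _ _ (syl_q hc hRp hRi i) (f i) (f' i) (hf i) (hf' i) _
      (over_comp_of_over hc hmem hd ho i) (over_comp_of_over hc hmem hd' ho' i)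
  funext n
  rw [hd.eq, hd'.eq, h1]

/-- Conjugation on the intersection with a factor. -/
theorem exists_tau (i : Fin m) (x : G) (hx : ∀ y : (T i).comap R.subtype,
    x * ((y : R) : G) * x⁻¹ ∈ R ∧ x * ((y : R) : G) * x⁻¹ ∈ T i) :
    ∃ τ : (T i).comap R.subtype ≃* (T i).comap R.subtype,
      ∀ y, (((τ y : (T i).comap R.subtype) : R) : G) = x * ((y : R) : G) * x⁻¹ := by
  let f : (T i).comap R.subtype →* (T i).comap R.subtype :=
    { toFun := fun y => ⟨⟨x * ((y : R) : G) * x⁻¹, (hx y).1⟩, (hx y).2⟩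
      map_one' := by
        apply Subtype.ext
        apply Subtype.ext
        show x * 1 * x⁻¹ = 1
        rw [mul_one, mul_inv_cancel]
      map_mul' := fun y z => by
        apply Subtype.ext
        apply Subtype.ext
        show x * (((y : R) : G) * ((z : R) : G)) * x⁻¹ = x * ((y : R) : G) * x⁻¹ * (x * ((z : R) : G) * x⁻¹)
        group }
  have hf : Function.Injective f := by
    intro y z hyz
    apply Subtype.ext
    apply Subtype.ext
    have h1 : x * ((y : R) : G) * x⁻¹ = x * ((z : R) : G) * x⁻¹ :=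
      congrArg (fun w : (T i).comap R.subtype => ((w : R) : G)) hyz
    exact mul_left_cancel (mul_right_cancel h1)
  exact ⟨MulEquiv.ofBijective f (Finite.injective_iff_bijective.1 hf), fun y => rfl⟩

variable {A : ∀ i, Subgroup (MulAut (T i))}

/-- The factors of an invariant character are invariant. -/
theorem comp_invariant (hc : IsCoord e)
    (hA : ∀ i a, a ∈ A i → ∃ x ∈ R, ∀ t : T i, (a t : G) = x * t * x⁻¹) {θ : N → ℂ}
    {f : ∀ i, T i → ℂ} (hd : Dec e θ f) (hi : R ≤ inertia N θ) (i : Fin m) :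
    ∀ a ∈ A i, f i ∘ a = f i := by
  intro a ha
  obtain ⟨x, hx, hax⟩ := hA i a ha
  have h1 := hd.conj' hc x
  rw [mem_inertia.1 (hi hx)] at h1
  have h2 := h1.unique hd
  have h3 : hc.sg x i = i := by
    apply hc.inj
    rw [hc.T_sg]
    refine Subgroup.eq_of_le_of_card_ge ?_ ?_
    · rintro _ ⟨t, ht, rfl⟩
      have h4 := hax ⟨t, ht⟩
      show x * t * x⁻¹ ∈ T i
      rw [← h4]
      exact (a ⟨t, ht⟩).2
    · rw [Subgroup.card_map_of_injective (MulAut.conj x).injective]
  have h4 : ∀ (j : Fin m) (hj : j = i) (c : T i ≃* T j), (∀ t, (c t : G) = (a t : G)) →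
      f j ∘ c = f i ∘ a := by
    intro j hj c hct
    subst hj
    funext t
    simp only [Function.comp]
    rw [Subtype.ext (hct t)]
  rw [← h4 _ h3 (hc.ci x i) (fun t => by rw [hc.ci_coe, hax])]
  exact congrFun h2 i

theorem all_EE (hc : IsCoord e) (hRp : IsPGroup p R) (hRi : ¬ p ∣ R.index) {d : ℕ}
    (hE : ∀ i, Exc p (T i) d)
    (hA : ∀ i a, a ∈ A i → ∃ x ∈ R, ∀ t : T i, (a t : G) = x * t * x⁻¹)
    (hgood : ∀ i, GoodA p (jQ R.subtype (T i)) (A i)) {θ : N → ℂ} {f : ∀ i, T i → ℂ}
    (hdθ : ¬ p ∣ charDegree θ) (hd : Dec e θ f) (hi : R ≤ inertia N θ) (i : Fin m) : EE d (f i) := by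
  refine (hE i).mem _ _ (syl_q hc hRp hRi i) (A i) (hgood i) (f i) (hd.irr i) (fun h => hdθ ?_)
    (comp_invariant hc hA hd hi i)
  rw [hd.degree]
  exact h.trans (Finset.dvd_prod_of_mem _ (Finset.mem_univ i))

/-- Uniqueness of the invariant linear constituent, for one factor. -/
theorem nuc_unique (hc : IsCoord e) (hRp : IsPGroup p R) (hRi : ¬ p ∣ R.index) {d : ℕ}
    (hE : ∀ i, Exc p (T i) d)
    (hA : ∀ i a, a ∈ A i → ∃ x ∈ R, ∀ t : T i, (a t : G) = x * t * x⁻¹)
    (hgood : ∀ i, GoodA p (jQ R.subtype (T i)) (A i)) (i : Fin m) {f : T i → ℂ} (hf : EE d f)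
    {ν ν' : N.comap R.subtype →* ℂˣ} (hν : PInv ν) (hν' : PInv ν')
    (ho : Over (jQ R.subtype (T i)) f (lf (nuc hc R ν i)))
    (ho' : Over (jQ R.subtype (T i)) f (lf (nuc hc R ν' i))) : nuc hc R ν' i = nuc hc R ν i := by
  classical
  by_cases hf1 : f = 1
  · subst hf1
    have h1 : ∀ μ : (T i).comap R.subtype →* ℂˣ, Over (jQ R.subtype (T i)) (1 : T i → ℂ) (lf μ) →
        (1 : (T i).comap R.subtype → ℂ) = lf μ := fun μ hμ =>
      (eq_of_over_irr (jQ R.subtype (T i)) (χ := (1 : T i → ℂ))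
        (isIrr_one (G := (T i).comap R.subtype)) (isIrr_lf μ) hμ).1
    exact lf_injective ((h1 _ ho').symm.trans (h1 _ ho))
  obtain ⟨t, τ, htp, hτ, hντ⟩ := (hE i).trans _ _ (syl_q hc hRp hRi i) f hf _ _ ho ho'
  have hτG : ∀ y, (((τ y : (T i).comap R.subtype) : R) : G) = t * ((y : R) : G) * (t : G)⁻¹ :=
    fun y => congrArg (fun z : T i => (z : G)) (hτ y)
  have ht1 : t = 1 := by
    refine (hgood i).no t htp fun a ha => ?_
    obtain ⟨x, hx, hax⟩ := hA i a ha
    have hxT : ∀ y ∈ T i, x * y * x⁻¹ ∈ T i := by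
      intro y hy
      rw [← hax ⟨y, hy⟩]
      exact (a ⟨y, hy⟩).2
    obtain ⟨σ, hσ⟩ := exists_tau (T := T) (R := R) i x (fun y =>
      ⟨R.mul_mem (R.mul_mem hx (y : R).2) (R.inv_mem hx), hxT _ y.2⟩)
    -- invariance under `σ`
    have hinv : ∀ μ : N.comap R.subtype →* ℂˣ, PInv μ → ∀ y, nuc hc R μ i (σ y) = nuc hc R μ i y := by
      intro μ hμ y
      have h1 := hμ ⟨x, hx⟩ (Subgroup.inclusion (Subgroup.comap_mono (hc.le i)) y)
      have h2 : MulAut.conjNormal (⟨x, hx⟩ : R)
          (Subgroup.inclusion (Subgroup.comap_mono (hc.le i)) y) =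
          Subgroup.inclusion (Subgroup.comap_mono (hc.le i)) (σ y) := by
        apply Subtype.ext
        apply Subtype.ext
        rw [MulAut.conjNormal_apply]
        exact (hσ y).symm
      rw [h2] at h1
      exact h1
    have hz := (hE i).stab _ _ (syl_q hc hRp hRi i) f hf _ ho (t * (a t)⁻¹)
      (σ.symm.trans (τ.symm.trans (σ.trans τ))) (fun y => by
        obtain ⟨y1, rfl⟩ := σ.surjective y
        obtain ⟨y2, rfl⟩ := τ.surjective y1
        simp only [MulEquiv.trans_apply, MulEquiv.symm_apply_apply]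
        apply Subtype.ext
        show (((τ (σ y2) : (T i).comap R.subtype) : R) : G) =
          ((t : G) * ((a t : T i) : G)⁻¹) * (((σ (τ y2) : (T i).comap R.subtype) : R) : G) *
            ((t : G) * ((a t : T i) : G)⁻¹)⁻¹
        rw [hτG, hσ, hσ, hτG, hax]
        group) (fun y => by
        obtain ⟨y1, rfl⟩ := σ.surjective y
        obtain ⟨y2, rfl⟩ := τ.surjective y1
        simp only [MulEquiv.trans_apply, MulEquiv.symm_apply_apply]
        rw [← hντ, hinv ν' hν', hντ, hinv ν hν])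
    rcases hz with ⟨w, hw⟩ | hz
    · have h1 : MulAut.conj t * a * (MulAut.conj t)⁻¹ = MulAut.conj (t * (a t)⁻¹) * a := by
        ext y
        simp [MulAut.mul_apply, MulAut.conj_apply, MulAut.inv_def, mul_assoc]
      rw [h1, ← hw]
      exact (A i).mul_mem ((hgood i).conj_mem w) ha
    · exact absurd hz hf1
  ext y
  rw [hντ]
  have h2 : τ y = y := by
    apply (syl_q hc hRp hRi i).inj
    rw [hτ, ht1, one_mul, inv_one, mul_one]
  rw [h2]

end sylow

end Cfsg.Agent.H663.GmnStep
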