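import Mathlib
import Cfsg.Agent.H663.GmnExc
import Cfsg.Agent.H663.GmnExt
import Cfsg.Agent.H663.GmnBase

/-!
# Non-abelian minimal normal subgroups over a self-normalizing Sylow subgroup: conclusion

`sec_of_exc` : if all the simple factors of the minimal normal subgroup `N` satisfy `Exc`, then `N`
satisfies the hypotheses `Sec` of the inductive step.
-/

set_option autoImplicit false
set_option linter.style.haveILetI false
set_option linter.unusedSectionVars false
open Cfsg

namespace Cfsg.Agent.H663.GmnStep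

open Cfsg.Agent.Characters.Core Cfsg.Agent.Characters.Clifford Cfsg.Agent.H672
open scoped ComplexConjugate

universe u v w

theorem mult_comp_equiv {A : Type v} [Group A] [Finite A] {B : Type w} [Group B] [Finite B]
    {G : Type u} [Group G] (σ : A ≃* B) (f : B →* G) (χ : G → ℂ) (θ : B → ℂ) :
    mult (f.comp σ.toMonoidHom) χ (θ ∘ σ) = mult f χ θ := by
  classical
  letI := Fintype.ofFinite A
  letI := Fintype.ofFinite B
  rw [mult_eq, mult_eq, ← classInner_comp_mulEquiv σ (χ ∘ f) θ]
  rfl

/-- Reindexing by an automorphism of `B` compatible with a map of `G`. -/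
theorem mult_reindex {B : Type w} [Group B] [Finite B] {G : Type u} [Group G] (σ : B ≃* B)
    (c : G ≃* G) (f : B →* G) (hf : ∀ y, f (σ y) = c (f y)) (χ : G → ℂ) (ν : B →* ℂˣ) :
    mult f (χ ∘ c) (lf (ν.comp σ.toMonoidHom)) = mult f χ (lf ν) := by
  rw [← mult_comp_equiv σ f χ (lf ν)]
  classical
  letI := Fintype.ofFinite B
  rw [mult_eq, mult_eq]
  congr 1
  funext y
  show χ (c (f y)) = χ (f (σ y))
  rw [hf]

section
variable {G : Type u} [Group G] [Finite G] {N : Subgroup G} [hN : N.Normal] {m : ℕ}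
  {T : Fin m → Subgroup G} {e : N ≃* ∀ i, T i} {p : ℕ} [hp : Fact p.Prime] {R : Subgroup G}
  {A : ∀ i, Subgroup (MulAut (T i))}

/-- The main result of this file. -/
theorem sec_of_exc (hc : IsCoord e) (hj : SelfNorm p R.subtype) {d : ℕ}
    (hE : ∀ i, Exc p (T i) d)
    (hA : ∀ i a, a ∈ A i → ∃ x ∈ R, ∀ t : T i, (a t : G) = x * t * x⁻¹)
    (hgood : ∀ i, GoodA p (jQ R.subtype (T i)) (A i)) : Sec p R.subtype N := by
  classical
  have hRr : R.subtype.range = R := R.range_subtype
  have hRp : IsPGroup p R := by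
    have := hj.pgroup
    rwa [hRr] at this
  have hRi : ¬ p ∣ R.index := by
    have := hj.index
    rwa [hRr] at this
  have hmem := mem_R hc hRp hRi
  have hall : ∀ (θ : N → ℂ) (f : ∀ i, T i → ℂ), ¬ p ∣ charDegree θ → Dec e θ f →
      R.subtype.range ≤ inertia N θ → ∀ i, EE d (f i) := by
    intro θ f hdθ hd hi i
    rw [hRr] at hi
    exact all_EE hc hRp hRi hE hA hgood hdθ hd hi i
  refine ⟨?_, ?_, ?_, ?_, ?_⟩
  · -- mult_one
    intro θ hθ hdθ hi ν hν ho
    obtain ⟨f, hd⟩ := exists_dec (e := e) hθ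
    rw [mult_prod hc hmem hd]
    refine Finset.prod_eq_one fun i _ => ?_
    exact (hE i).mult_one _ _ (syl_q hc hRp hRi i) (f i) (hall θ f hdθ hd hi i) _
      (over_comp_of_over hc hmem hd ho i)
  · -- unique
    intro θ hθ hdθ hi ν ν' hν hν' ho ho'
    obtain ⟨f, hd⟩ := exists_dec (e := e) hθ
    ext x
    rw [lin_prod hc hmem ν' x, lin_prod hc hmem ν x]
    congr 1
    refine Finset.prod_congr rfl fun i _ => ?_
    rw [nuc_unique hc hRp hRi hE hA hgood i (hall θ f hdθ hd hi i) hν hν'
      (over_comp_of_over hc hmem hd ho i) (over_comp_of_over hc hmem hd ho' i)]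
  · -- inj
    intro θ θ' hθ hθ' hdθ hdθ' hi hi' ν hν ho ho'
    obtain ⟨f, hd⟩ := exists_dec (e := e) hθ
    obtain ⟨f', hd'⟩ := exists_dec (e := e) hθ'
    exact eq_of_all hc hRp hRi hE hd hd' (hall θ f hdθ hd hi) (hall θ' f' hdθ' hd' hi') ho ho'
  · -- stab
    intro θ hθ hdθ hi g ν hν ho
    obtain ⟨f, hd⟩ := exists_dec (e := e) hθ
    have hf := hall θ f hdθ hd hi
    set ϑ := θ ∘ (MulAut.conjNormal g : MulAut N) with hϑ
    have hd' : Dec e ϑ (fun i => f (hc.sg g i) ∘ hc.ci g i) := hd.conj' hc g
    have hf' : ∀ i, EE d (f (hc.sg g i) ∘ hc.ci g i) := fun i => (hf _).comp (hc.ci g i)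
    rintro _ ⟨x, rfl⟩
    rw [mem_inertia]
    have hd'' := hd'.conj' hc (x : G)
    refine eq_of_all hc hRp hRi hE hd'' hd' (fun i => (hf' _).comp (hc.ci (x : G) i)) hf' ?_ ho
    rw [over_iff_mult] at ho ⊢
    rw [← mult_reindex (MulAut.conjNormal x : MulAut (N.comap R.subtype))
      (MulAut.conjNormal (x : G) : MulAut N) (jQ R.subtype N) (fun y => rfl) ϑ ν] at ho
    have h1 : ν.comp (MulAut.conjNormal x : MulAut (N.comap R.subtype)).toMonoidHom = ν := by
      ext y
      exact congrArg _ (hν x y)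
    rw [h1] at ho
    exact ho
  · -- ext
    intro θ hθ hdθ htop l ho
    obtain ⟨f, hd⟩ := exists_dec (e := e) hθ
    have hf := hall θ f hdθ hd (by rw [htop]; exact le_top)
    let S : Sylow p G := hRp.toSylow hRi
    have hDS : R ⊓ N ≤ (S : Subgroup G) := inf_le_left
    have hDN : R ⊓ N ≤ N := inf_le_right
    -- the isomorphism
    let κ : N.comap R.subtype ≃* (R ⊓ N : Subgroup G) :=
      { toFun := fun y => ⟨y, y.1.2, y.2⟩
        invFun := fun y => ⟨⟨y, y.2.1⟩, y.2.2⟩
        left_inv := fun y => rfl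
        right_inv := fun y => rfl
        map_mul' := fun y z => rfl }
    set lr : N.comap R.subtype →* ℂˣ := l.comp (N.comap R.subtype).subtype with hlr
    let ν : (R ⊓ N : Subgroup G) →* ℂˣ := MonoidHom.comp (l : (S : Subgroup G) →* ℂˣ)
      (Subgroup.inclusion hDS)
    have hνlr : ∀ y : N.comap R.subtype, ν (κ y) = lr y := fun y => rfl
    have hνl : ν.comp κ.toMonoidHom = lr := by ext y; rfl
    have hmul : ∀ ϑ : N → ℂ, ∀ μ : (R ⊓ N : Subgroup G) →* ℂˣ,
        mult (jQ R.subtype N) ϑ (lf (μ.comp κ.toMonoidHom)) = mult (Subgroup.inclusion hDN) ϑ (lf μ) :=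
      fun ϑ μ => mult_comp_equiv κ (Subgroup.inclusion hDN) ϑ (lf μ)
    -- the components of `lr`
    have hcomp := over_comp_of_over hc hmem hd ho
    refine ext_of_config S N (R ⊓ N) rfl hθ htop (l : (S : Subgroup G) →* ℂˣ) ν hDS hDN rfl ?_ ?_ ?_
    · rw [← hmul, hνl, mult_prod hc hmem hd]
      refine Finset.prod_eq_one fun i _ => ?_
      exact (hE i).mult_one _ _ (syl_q hc hRp hRi i) (f i) (hf i) _ (hcomp i)
    · -- transitivity
      intro x hx
      let cx : (R ⊓ N : Subgroup G) →* (R ⊓ N : Subgroup G) :=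
        { toFun := fun y => ⟨x * y * x⁻¹, hx y y.2⟩
          map_one' := Subtype.ext (by show x * 1 * x⁻¹ = 1; group)
          map_mul' := fun y z => Subtype.ext (by
            show x * ((y : G) * (z : G)) * x⁻¹ = (x * y * x⁻¹) * (x * z * x⁻¹)
            group) }
      have hcx : Function.Injective cx := by
        intro y z hyz
        have h1 : x * (y : G) * x⁻¹ = x * (z : G) * x⁻¹ := congrArg Subtype.val hyz
        exact Subtype.ext (mul_left_cancel (mul_right_cancel h1))
      let cx' : (R ⊓ N : Subgroup G) ≃* (R ⊓ N : Subgroup G) :=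
        MulEquiv.ofBijective cx (Finite.injective_iff_bijective.1 hcx)
      have hinv : θ ∘ (MulAut.conjNormal x : MulAut N) = θ := by
        have : x ∈ inertia N θ := by rw [htop]; trivial
        exact mem_inertia.1 this
      have ho' : Over (jQ R.subtype N) θ (lf ((ν.comp cx'.toMonoidHom).comp κ.toMonoidHom)) := by
        rw [over_iff_mult, hmul]
        have h2 := mult_reindex cx' (MulAut.conjNormal x : MulAut N) (Subgroup.inclusion hDN)
          (fun y => rfl) θ ν
        rw [hinv] at h2
        rw [h2, ← hmul, hνl]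
        exact ho
      have hcomp' := over_comp_of_over hc hmem hd ho'
      have htr := fun i => (hE i).trans _ _ (syl_q hc hRp hRi i) (f i) (hf i) _ _ (hcomp i) (hcomp' i)
      choose t τ htp hτ hντ using htr
      have hτG : ∀ i y, (((τ i y : (T i).comap R.subtype) : R) : G) =
          t i * ((y : R) : G) * (t i : G)⁻¹ :=
        fun i y => congrArg (fun z : T i => (z : G)) (hτ i y)
      -- conjugation by `e.symm t`
      have hcoord : ∀ (y : N) i, (e (e.symm t * y * (e.symm t)⁻¹) i : G) =
          t i * (e y i : G) * (t i : G)⁻¹ := by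
        intro y i
        rw [map_mul, map_mul, map_inv, e.apply_symm_apply]
        rfl
      have hconj : ∀ y : N.comap R.subtype, ∃ z : N.comap R.subtype,
          ((z : R) : G) = ((e.symm t : N) : G) * ((y : R) : G) * ((e.symm t : N) : G)⁻¹ ∧
            ∀ i, EQ e hmem z i = τ i (EQ e hmem y i) := by
        intro y
        set n : N := jQ R.subtype N y with hn
        have hz : ((e.symm t * n * (e.symm t)⁻¹ : N) : G) ∈ R := by
          rw [hmem]
          intro i
          rw [hcoord, hn, ← EQ_spec hmem y i]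
          have := hτG i (EQ e hmem y i)
          show (t i : G) * (((EQ e hmem y i : (T i).comap R.subtype) : R) : G) * (t i : G)⁻¹ ∈ R
          rw [← this]
          exact (τ i (EQ e hmem y i)).1.2
        refine ⟨⟨⟨_, hz⟩, (e.symm t * n * (e.symm t)⁻¹).2⟩, rfl, fun i => ?_⟩
        apply Subtype.ext
        apply Subtype.ext
        rw [hτG]
        exact hcoord n i
      refine ⟨(e.symm t : N), (e.symm t).2, fun y hy => ?_, ?_⟩
      · obtain ⟨z, hz, -⟩ := hconj ⟨⟨y, hy.1⟩, hy.2⟩
        have hz' : ((z : R) : G) = ((e.symm t : N) : G) * y * ((e.symm t : N) : G)⁻¹ := hz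
        rw [← hz']
        exact ⟨z.1.2, z.2⟩
      · intro y z w hzy hwy
        obtain ⟨z', hz', hz''⟩ := hconj (κ.symm y)
        have hw' : κ z' = w := Subtype.ext (hz'.trans hwy.symm)
        have hzc : z = cx' y := Subtype.ext hzy
        rw [← hw', hνlr, lin_prod hc hmem lr z', hzc]
        have h3 : ν (cx' y) = ((ν.comp cx'.toMonoidHom).comp κ.toMonoidHom) (κ.symm y) := by
          show _ = ν (cx' (κ (κ.symm y)))
          rw [MulEquiv.apply_symm_apply]
        rw [h3, lin_prod hc hmem _ (κ.symm y)]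
        refine Finset.prod_congr rfl fun i _ => ?_
        rw [hz'' i]
        exact hντ i _
    · -- stabilizer
      intro t ht htν
      have ht' : ∀ (i : Fin m) (y : (T i).comap R.subtype),
          (e t i : G) * ((y : R) : G) * (e t i : G)⁻¹ ∈ R ∧
          (e t i : G) * ((y : R) : G) * (e t i : G)⁻¹ = (t : G) * ((y : R) : G) * (t : G)⁻¹ := by
        intro i y
        have h1 : ((e.symm (Pi.mulSingle i (jQ R.subtype (T i) y)) : N) : G) = ((y : R) : G) :=
          hc.single i _
        have h2 : ((y : R) : G) ∈ R ⊓ N := ⟨y.1.2, hc.le i y.2⟩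
        have h3 : e (t * e.symm (Pi.mulSingle i (jQ R.subtype (T i) y)) * t⁻¹) =
            Pi.mulSingle i (e t i * jQ R.subtype (T i) y * (e t i)⁻¹) := by
          rw [map_mul, map_mul, map_inv, e.apply_symm_apply]
          funext j
          by_cases hj : j = i
          · subst hj
            rw [Pi.mulSingle_eq_same, Pi.mul_apply, Pi.mul_apply, Pi.inv_apply, Pi.mulSingle_eq_same]
          · rw [Pi.mulSingle_eq_of_ne hj, Pi.mul_apply, Pi.mul_apply, Pi.inv_apply,
              Pi.mulSingle_eq_of_ne hj, mul_one, mul_inv_cancel]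
        have h4 : t * e.symm (Pi.mulSingle i (jQ R.subtype (T i) y)) * t⁻¹ =
            e.symm (Pi.mulSingle i (e t i * jQ R.subtype (T i) y * (e t i)⁻¹)) := by
          rw [← h3, e.symm_apply_apply]
        have h5 : (e t i : G) * ((y : R) : G) * (e t i : G)⁻¹ = (t : G) * ((y : R) : G) * (t : G)⁻¹ := by
          have h6 := congrArg (fun z : N => (z : G)) h4
          simp only [Subgroup.coe_mul, Subgroup.coe_inv] at h6
          rw [h1, hc.single] at h6
          exact h6.symm
        refine ⟨?_, h5⟩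
        rw [h5]
        exact (ht _ h2).1
      have hst : ∀ i, (e t i : G) ∈ R ∨ f i = 1 := by
        intro i
        obtain ⟨τ, hτ⟩ := exists_tau (T := T) (R := R) i (e t i : G) (fun y =>
          ⟨(ht' i y).1, (T i).mul_mem ((T i).mul_mem (e t i).2 y.2) ((T i).inv_mem (e t i).2)⟩)
        have hfix : ∀ y, nuc hc R lr i (τ y) = nuc hc R lr i y := by
          intro y
          have hy : ((y : R) : G) ∈ R ⊓ N := ⟨y.1.2, hc.le i y.2⟩
          have hτy : (((τ y : (T i).comap R.subtype) : R) : G) ∈ R ⊓ N := ⟨(τ y).1.2, hc.le i (τ y).2⟩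
          exact htν ⟨_, hy⟩ ⟨_, hτy⟩ ((hτ y).trans (ht' i y).2)
        rcases (hE i).stab _ _ (syl_q hc hRp hRi i) (f i) (hf i) _ (hcomp i) (e t i) τ
          (fun y => Subtype.ext (hτ y)) hfix with ⟨w, hw⟩ | h
        · left
          rw [← hw]
          exact w.1.2
        · right; exact h
      let t' : ∀ i, T i := fun i => if (e t i : G) ∈ R then e t i else 1
      have ht'' : ∀ i, (t' i : G) ∈ R := by
        intro i
        by_cases h : (e t i : G) ∈ R
        · simp only [t', if_pos h]; exact h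
        · simp only [t', if_neg h]; exact R.one_mem
      refine ⟨e.symm t', ⟨(hmem _).2 fun i => by rw [e.apply_symm_apply]; exact ht'' i,
        (e.symm t').2⟩, fun n => ?_⟩
      rw [hd.eq, hd.eq]
      refine Finset.prod_congr rfl fun i _ => ?_
      rw [map_mul, map_mul, map_inv, e.apply_symm_apply, Pi.mul_apply, Pi.mul_apply, Pi.inv_apply]
      rcases hst i with h | h
      · simp only [t', if_pos h, inv_mul_cancel, one_mul]
      · rw [h]; rfl

end

end Cfsg.Agent.H663.GmnStep
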