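import Mathlib
import Cfsg.Agent.H663.GmnPslA
import Cfsg.Agent.H663.GmnSec

/-!
# `PSL₂(3^f)` satisfies the conditions `Exc`, first part (helper663)

`Cov w` : `w : SL₂(F) → S` is surjective with kernel `{1, -1}`.  `exists_param` : every Sylow
`3`-subgroup is conjugate to the image of the root group.  `exc_of_cov` : all the conditions of `Exc`
but the first one.
-/

set_option autoImplicit false
set_option linter.style.haveILetI false
set_option linter.unusedSectionVars false
set_option linter.unusedSimpArgs false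
open Cfsg

namespace Cfsg.Agent.H663.GmnPsl

open Matrix Cfsg.Agent.Characters.Core Cfsg.Agent.H670.RankOne Cfsg.Agent.H670.SL2
open Cfsg.Agent.H663.GmnStep Cfsg.Agent.Characters.Clifford Cfsg.Agent.H672

universe u v w

variable {F : Type v} [Field F] [Fintype F] {S : Type u} [Group S] [Finite S]

/-- `w : SL₂(F) → S` is surjective with kernel `{1, -1}`. -/
structure Cov (w : SpecialLinearGroup (Fin 2) F →* S) : Prop where
  surj : Function.Surjective w
  ker : ∀ g, w g = 1 ↔ g = 1 ∨ g = tor (-1)

variable {w : SpecialLinearGroup (Fin 2) F →* S}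

/-- The multiplicities of the linear characters are the Fourier coefficients. -/
theorem mult_u (θ : S → ℂ) (c : F) :
    mult (w.comp (data F).xh) θ (lf (psiHom c)) = (data F).cf (θ ∘ w) c := by
  rw [mult_eq, Data.cf_eq_classInner]
  rfl

theorem three_dvd [CharP F 3] : 3 ∣ Fintype.card F := by
  rw [← CharP.cast_eq_zero_iff F 3 (Fintype.card F)]
  exact Nat.cast_card_eq_zero F

theorem isPGroup_add [CharP F 3] : IsPGroup 3 (Multiplicative F) := by
  intro s
  refine ⟨1, ?_⟩
  rw [pow_one]
  apply Multiplicative.toAdd.injective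
  rw [toAdd_pow, toAdd_one, nsmul_eq_mul]
  have : ((3 : ℕ) : F) = 0 := CharP.cast_eq_zero F 3
  rw [this, zero_mul]

/-- The root group is a Sylow `3`-subgroup. -/
theorem not_dvd_index [CharP F 3] (hw : Function.Surjective w) :
    ¬ 3 ∣ (w.comp (data F).xh).range.index := by
  have h3 := three_dvd (F := F)
  have h0 : 1 ≤ Fintype.card F := Fintype.card_pos
  have h1 : (data F).xh.range.index = (Fintype.card F + 1) * (Fintype.card F - 1) := by
    have h2 := (data F).xh.range.card_mul_index
    have hinj : Function.Injective (data F).xh := fun s t hst =>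
      Multiplicative.toAdd.injective ((data F).X_inj hst)
    rw [card_SL2, ← Nat.card_congr (MonoidHom.ofInjective hinj).toEquiv, Nat.card_eq_fintype_card,
      Fintype.card_multiplicative] at h2
    have h4 : Fintype.card F * (data F).xh.range.index =
        Fintype.card F * ((Fintype.card F + 1) * (Fintype.card F - 1)) := by
      rw [h2]; ring
    exact Nat.eq_of_mul_eq_mul_left h0 h4
  intro hd
  rw [MonoidHom.range_comp] at hd
  have h2 := hd.trans (Subgroup.index_map_dvd _ hw)
  rw [h1] at h2
  rcases (Nat.Prime.dvd_mul Nat.prime_three).1 h2 with h4 | h4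
  · have := (Nat.dvd_add_right h3).1 h4
    omega
  · have := (Nat.dvd_sub h3 h4)
    rw [Nat.sub_sub_self h0] at this
    omega

/-- Every Sylow `3`-subgroup is conjugate to the image of the root group. -/
theorem exists_param [CharP F 3] (hc : Cov w) {Q : Type*} [Group Q] [Finite Q] {q : Q →* S}
    (hq : Syl 3 q) : ∃ (g : S) (κ : Multiplicative F ≃* Q),
      ∀ s, q (κ s) = g * w ((data F).xh s) * g⁻¹ := by
  have : Fact (Nat.Prime 3) := ⟨Nat.prime_three⟩
  set u := w.comp (data F).xh with hu
  have hup : IsPGroup 3 u.range := isPGroup_add.of_surjective u.rangeRestrict u.rangeRestrict_surjective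
  have hqp : IsPGroup 3 q.range := hq.pgroup.of_surjective q.rangeRestrict q.rangeRestrict_surjective
  let P1 : Sylow 3 S := hup.toSylow (not_dvd_index hc.surj)
  let P2 : Sylow 3 S := hqp.toSylow hq.index
  obtain ⟨g, hg⟩ := MulAction.exists_smul_eq S P1 P2
  have hmem : ∀ z, z ∈ q.range ↔ ∃ s, g * u s * g⁻¹ = z := by
    intro z
    have h1 : z ∈ q.range ↔ z ∈ (g • P1 : Sylow 3 S) := by rw [hg]; rfl
    rw [h1]
    constructor
    · intro hz
      rw [← SetLike.mem_coe, Sylow.coe_smul] at hz
      obtain ⟨y, ⟨s, rfl⟩, rfl⟩ := hz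
      exact ⟨s, rfl⟩
    · rintro ⟨s, rfl⟩
      rw [← SetLike.mem_coe, Sylow.coe_smul]
      exact ⟨u s, ⟨s, rfl⟩, rfl⟩
  have hxinj : Function.Injective u := by
    rw [injective_iff_map_eq_one]
    intro s hs
    rcases (hc.ker _).1 hs with h1 | h1
    · have h2 := congrArg e01 h1
      apply Multiplicative.toAdd.injective
      exact h2
    · exfalso
      have h2 := congrArg e00 h1
      have h3 : (1 : F) = ((-1 : Fˣ) : F) := h2
      rw [Units.val_neg, Units.val_one] at h3
      have h4 : ((3 : ℕ) : F) = 0 := CharP.cast_eq_zero F 3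
      have h5 : (1 : F) = 0 := by
        push_cast at h4
        linear_combination h4 - h3
      exact one_ne_zero h5
  let f : Multiplicative F →* q.range := ((MulAut.conj g).toMonoidHom.comp u).codRestrict q.range
    (fun s => (hmem _).2 ⟨s, rfl⟩)
  have hf : Function.Bijective f := by
    constructor
    · intro s t hst
      have h1 : g * u s * g⁻¹ = g * u t * g⁻¹ := congrArg Subtype.val hst
      exact hxinj (mul_left_cancel (mul_right_cancel h1))
    · rintro ⟨z, hz⟩
      obtain ⟨s, hs⟩ := (hmem z).1 hz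
      exact ⟨s, Subtype.ext hs⟩
  refine ⟨g, (MulEquiv.ofBijective f hf).trans (MonoidHom.ofInjective hq.inj).symm, fun s => ?_⟩
  have h1 : ((MonoidHom.ofInjective hq.inj) ((MulEquiv.ofBijective f hf).trans
      (MonoidHom.ofInjective hq.inj).symm s) : S) = f s := by
    rw [MulEquiv.trans_apply, MulEquiv.apply_symm_apply]
    rfl
  exact h1

theorem tor_neg_one_central (g : SpecialLinearGroup (Fin 2) F) : tor (-1) * g = g * tor (-1) := by
  apply ext4 <;> simp only [mul00, mul01, mul10, mul11, tor00, tor01, tor10, tor11, inv_neg, inv_one,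
    Units.val_neg, Units.val_one] <;> ring

theorem neg_one_sq : (tor (-1) : SpecialLinearGroup (Fin 2) F) * tor (-1) = 1 := by
  rw [← map_mul, neg_mul_neg, mul_one, map_one]

theorem Cov.eq_iff (hc : Cov w) {g g' : SpecialLinearGroup (Fin 2) F} :
    w g = w g' ↔ g = g' ∨ g = tor (-1) * g' := by
  rw [← mul_inv_eq_one, ← map_inv, ← map_mul, hc.ker, mul_inv_eq_one, mul_inv_eq_iff_eq_mul]

/-- The multiplicity in terms of Fourier coefficients. -/
theorem mult_param {Q : Type*} [Group Q] [Finite Q] {q : Q →* S} {g : S}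
    {κ : Multiplicative F ≃* Q} (hκ : ∀ s, q (κ s) = g * w ((data F).xh s) * g⁻¹) {θ : S → ℂ}
    (hcl : IsClassFunction S θ) {ν : Q →* ℂˣ} {c : F} (hν : ν.comp κ.toMonoidHom = psiHom c) :
    mult q θ (lf ν) = (data F).cf (θ ∘ w) c := by
  rw [← mult_u, ← mult_comp_equiv κ q θ (lf ν), mult_eq, mult_eq]
  congr 1
  · funext s
    show θ (q (κ s)) = θ (w ((data F).xh s))
    rw [hκ]
    exact hcl _ _
  · rw [← hν]
    rfl

section
variable [DecidableEq F] {h : ℕ} (hq : Fintype.card F = 2 * h + 1) (hh : 1 < h)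
  (h1 : ¬ IsSquare (-1 : F))

/-- Inflation. -/
noncomputable def infl (hc : Cov w) {θ : S → ℂ} (hθ : IsIrrCharacter S θ) :
    IrrCharacter (SpecialLinearGroup (Fin 2) F) := ⟨θ ∘ w, isIrr_comp w hc.surj hθ⟩

theorem infl_one (hc : Cov w) {θ : S → ℂ} (hθ : IsIrrCharacter S θ) :
    (infl hc hθ : SpecialLinearGroup (Fin 2) F → ℂ) 1 = charDegree θ := by
  show θ (w 1) = _
  rw [map_one, coe_charDegree hθ]

theorem infl_inj (hc : Cov w) {θ θ' : S → ℂ} (hθ : IsIrrCharacter S θ) (hθ' : IsIrrCharacter S θ')
    (he : infl hc hθ = infl hc hθ') : θ = θ' := by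
  funext x
  obtain ⟨g, rfl⟩ := hc.surj x
  exact congrFun (congrArg Subtype.val he) g

/-- Multiplication by a square. -/
def mulEq (v : Fˣ) : Multiplicative F ≃* Multiplicative F where
  toFun s := Multiplicative.ofAdd ((v : F) * s.toAdd)
  invFun s := Multiplicative.ofAdd (((v⁻¹ : Fˣ) : F) * s.toAdd)
  left_inv s := by
    apply Multiplicative.toAdd.injective
    show ((v⁻¹ : Fˣ) : F) * ((v : F) * s.toAdd) = s.toAdd
    rw [← mul_assoc, ← Units.val_mul, inv_mul_cancel, Units.val_one, one_mul]
  right_inv s := by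
    apply Multiplicative.toAdd.injective
    show (v : F) * (((v⁻¹ : Fˣ) : F) * s.toAdd) = s.toAdd
    rw [← mul_assoc, ← Units.val_mul, mul_inv_cancel, Units.val_one, one_mul]
  map_mul' s t := by
    apply Multiplicative.toAdd.injective
    show (v : F) * (s.toAdd + t.toAdd) = (v : F) * s.toAdd + (v : F) * t.toAdd
    rw [mul_add]

theorem xh_mulEq (v : Fˣ) (s : Multiplicative F) :
    (data F).xh (mulEq (v ^ 2) s) = tor v * (data F).xh s * (tor v)⁻¹ := by
  rw [eq_mul_inv_iff_mul_eq]
  show x (((v ^ 2 : Fˣ) : F) * s.toAdd) * tor v = tor v * x s.toAdd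
  rw [tor_mul_x, Units.val_pow_eq_pow_val]

theorem exists_cf {Q : Type*} [Group Q] {κ : Multiplicative F ≃* Q} (ν : Q →* ℂˣ) :
    ∃ c : F, ν.comp κ.toMonoidHom = psiHom c := exists_psiHom _

include hq hh h1 in
/-- All the conditions of `Exc` but the first one. -/
theorem exc_of_cov [CharP F 3] (hc : Cov w)
    (hmem : ∀ (Q : Type u) [Group Q] [Finite Q] (q : Q →* S), Syl 3 q → ∀ A : Subgroup (MulAut S),
      GoodA 3 q A → ∀ θ : S → ℂ, IsIrrCharacter S θ → ¬ 3 ∣ charDegree θ →
      (∀ a ∈ A, θ ∘ a = θ) → EE h θ) : Exc 3 S h := by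
  have hn0 : ∀ {θ : S → ℂ} (hθ : IsIrrCharacter S θ) (c : F), (data F).cf (θ ∘ w) c =
      (data F).n (infl hc hθ) c := fun hθ c => (data F).cf_eq_n (infl hc hθ) c
  have hdeg : ∀ {θ : S → ℂ} (hθ : IsIrrCharacter S θ), charDegree θ = h →
      (infl hc hθ : SpecialLinearGroup (Fin 2) F → ℂ) 1 = h := by
    intro θ hθ hd
    rw [infl_one, hd]
  have htriv : ∀ hθ : IsIrrCharacter S (1 : S → ℂ), infl hc hθ = triv := fun hθ => rfl
  have hdeg1 : ∀ θ : S → ℂ, θ = 1 → charDegree θ ≠ h := by
    rintro θ rfl hd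
    have h2 : charDegree (1 : S → ℂ) = 1 := charDegree_of_eq (by simp)
    omega
  -- a common nonzero coefficient
  have hinj : ∀ {θ θ' : S → ℂ} (hθ : EE h θ) (hθ' : EE h θ') (c : F),
      (data F).n (infl hc hθ.1) c ≠ 0 → (data F).n (infl hc hθ'.1) c ≠ 0 → θ = θ' := by
    intro θ θ' hθ hθ' c hn hn'
    rcases hθ.2 with e | e
    · subst e
      have h2 := one_ne_zero_iff hn
      rcases hθ'.2 with e' | e'
      · exact e'.symm
      · exact absurd h2 (half_ne_zero h1 hq hh _ (hdeg hθ'.1 e') hn').1
    · rcases hθ'.2 with e' | e'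
      · subst e'
        exact absurd (one_ne_zero_iff hn') (half_ne_zero h1 hq hh _ (hdeg hθ.1 e) hn).1
      · exact infl_inj hc hθ.1 hθ'.1
          (eq_of_half h1 hq hh (hdeg hθ.1 e) (hdeg hθ'.1 e') hn hn')
  refine ⟨hmem, ?_, ?_, ?_, ?_⟩
  · -- mult_one
    intro Q _ _ q hQ θ hθ ν ho
    obtain ⟨g, κ, hκ⟩ := exists_param hc hQ
    obtain ⟨c, hνc⟩ := exists_cf (κ := κ) ν
    have hm := mult_param hκ (isIrr_isClassFunction hθ.1) hνc
    rw [hn0 hθ.1] at hm
    rw [over_iff_mult, hm, Nat.cast_ne_zero] at ho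
    rw [hm]
    rcases hθ.2 with e | e
    · subst e
      have h2 := one_ne_zero_iff ho
      subst h2
      have h3 : (data F).n (infl hc hθ.1) 0 = 1 := by
        rw [Data.n_eq_iff]
        show (data F).cf 1 0 = _
        rw [Data.cf_one, Nat.cast_one]
      rw [h3, Nat.cast_one]
    · have h2 := (half_ne_zero h1 hq hh _ (hdeg hθ.1 e) ho).1
      rcases (data F).n_le_one hasAnti (infl hc hθ.1) h2 with h3 | h3
      · exact absurd h3 ho
      · rw [h3, Nat.cast_one]
  · -- inj
    intro Q _ _ q hQ θ θ' hθ hθ' ν ho ho'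
    obtain ⟨g, κ, hκ⟩ := exists_param hc hQ
    obtain ⟨c, hνc⟩ := exists_cf (κ := κ) ν
    rw [over_iff_mult, mult_param hκ (isIrr_isClassFunction hθ.1) hνc,
      hn0 hθ.1, Nat.cast_ne_zero] at ho
    rw [over_iff_mult, mult_param hκ (isIrr_isClassFunction hθ'.1) hνc,
      hn0 hθ'.1, Nat.cast_ne_zero] at ho'
    exact hinj hθ hθ' c ho ho'
  · -- trans
    intro Q _ _ q hQ θ hθ ν ν' ho ho'
    obtain ⟨g, κ, hκ⟩ := exists_param hc hQ
    obtain ⟨c, hνc⟩ := exists_cf (κ := κ) ν
    obtain ⟨c', hνc'⟩ := exists_cf (κ := κ) ν'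
    rw [over_iff_mult, mult_param hκ (isIrr_isClassFunction hθ.1) hνc,
      hn0 hθ.1, Nat.cast_ne_zero] at ho
    rw [over_iff_mult, mult_param hκ (isIrr_isClassFunction hθ.1) hνc',
      hn0 hθ.1, Nat.cast_ne_zero] at ho'
    obtain ⟨v, hv⟩ : ∃ v : Fˣ, c' = (v : F) ^ 2 * c := by
      rcases hθ.2 with e | e
      · subst e
        have h2 := one_ne_zero_iff ho
        have h2' := one_ne_zero_iff ho'
        exact ⟨1, by rw [h2, h2', mul_zero]⟩
      · exact half_same_class h1 hq hh (hdeg hθ.1 e) ho ho'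
    refine ⟨g * w (tor v) * g⁻¹, κ.symm.trans ((mulEq (v ^ 2)).trans κ), ?_, ?_, ?_⟩
    · intro hd
      have h2 : (g * w (tor v) * g⁻¹) ^ (Fintype.card F - 1) = 1 := by
        rw [conj_pow, ← map_pow, ← map_pow, ← Fintype.card_units, pow_card_eq_one, map_one, map_one,
          mul_one, mul_inv_cancel]
      have h3 := hd.trans (orderOf_dvd_of_pow_eq_one h2)
      have h4 := Nat.dvd_sub (three_dvd (F := F)) h3
      rw [Nat.sub_sub_self Fintype.card_pos] at h4
      omega
    · intro y
      obtain ⟨s, rfl⟩ := κ.surjective y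
      rw [MulEquiv.trans_apply, MulEquiv.trans_apply, MulEquiv.symm_apply_apply, hκ, hκ, xh_mulEq,
        map_mul, map_mul, map_inv]
      group
    · intro y
      obtain ⟨s, rfl⟩ := κ.surjective y
      rw [MulEquiv.trans_apply, MulEquiv.trans_apply, MulEquiv.symm_apply_apply]
      have e1 : ν' (κ s) = psiHom c' s := by rw [← hνc']; rfl
      have e2 : ν (κ (mulEq (v ^ 2) s)) = psiHom c (mulEq (v ^ 2) s) := by rw [← hνc]; rfl
      rw [e1, e2]
      apply Units.ext
      rw [psiHom_apply, psiHom_apply, hv]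
      congr 1
      show s.toAdd * ((v : F) ^ 2 * c) = ((v ^ 2 : Fˣ) : F) * s.toAdd * c
      rw [Units.val_pow_eq_pow_val]
      ring
  · -- stab
    intro Q _ _ q hQ θ hθ ν ho y τ hτ hντ
    obtain ⟨g, κ, hκ⟩ := exists_param hc hQ
    obtain ⟨c, hνc⟩ := exists_cf (κ := κ) ν
    rw [over_iff_mult, mult_param hκ (isIrr_isClassFunction hθ.1) hνc,
      hn0 hθ.1, Nat.cast_ne_zero] at ho
    rcases hθ.2 with e | e
    · right; exact e
    left
    have hc0 := (half_ne_zero h1 hq hh _ (hdeg hθ.1 e) ho).1
    have h2ne : (2 : F) ≠ 0 := by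
      intro h2
      have h3 : ((3 : ℕ) : F) = 0 := CharP.cast_eq_zero F 3
      push_cast at h3
      exact one_ne_zero (by linear_combination h3 - h2 : (1 : F) = 0)
    obtain ⟨a, ha⟩ := hc.surj (g⁻¹ * y * g)
    have hy : y = g * w a * g⁻¹ := by rw [ha]; group
    -- the action on the root group
    have hact : ∀ s : Multiplicative F, a * x s.toAdd = x (κ.symm (τ (κ s))).toAdd * a ∨
        a * x s.toAdd = tor (-1) * (x (κ.symm (τ (κ s))).toAdd * a) := by
      intro s
      have h2 := hτ (κ s)
      have h3 : q (τ (κ s)) = g * w ((data F).xh (κ.symm (τ (κ s)))) * g⁻¹ := by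
        rw [← hκ, MulEquiv.apply_symm_apply]
      rw [h3, hκ, hy] at h2
      have h4 : w (a * (data F).xh s) = w ((data F).xh (κ.symm (τ (κ s))) * a) := by
        rw [map_mul, map_mul]
        have h5 : g * w ((data F).xh (κ.symm (τ (κ s)))) * g⁻¹ * (g * w a * g⁻¹) =
            g * w a * g⁻¹ * (g * w ((data F).xh s) * g⁻¹) := by
          rw [h2]; group
        have h6 : g * (w ((data F).xh (κ.symm (τ (κ s)))) * w a) * g⁻¹ =
            g * (w a * w ((data F).xh s)) * g⁻¹ := by
          calc _ = g * w ((data F).xh (κ.symm (τ (κ s)))) * g⁻¹ * (g * w a * g⁻¹) := by group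
            _ = _ := by rw [h5]; group
        exact (mul_left_cancel (mul_right_cancel h6)).symm
      exact hc.eq_iff.1 h4
    have hact' : ∀ s : Multiplicative F, a * x s.toAdd = x (κ.symm (τ (κ s))).toAdd * a := by
      intro s
      rcases hact s with h2 | h2
      · exact h2
      exfalso
      have e10' := congrArg e10 h2
      have e00' := congrArg e00 h2
      simp only [mul00, mul01, mul10, mul11, x00, x01, x10, x11, tor00, tor01, tor10, tor11, inv_neg,
        inv_one, Units.val_neg, Units.val_one] at e10' e00'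
      have h3 : e10 a = 0 := by
        have : (2 : F) * e10 a = 0 := by linear_combination e10'
        exact (mul_eq_zero.1 this).resolve_left h2ne
      have h4 : e00 a = 0 := by
        rw [h3] at e00'
        have : (2 : F) * e00 a = 0 := by linear_combination e00'
        exact (mul_eq_zero.1 this).resolve_left h2ne
      have h5 := det_eq a
      rw [h3, h4, zero_mul, mul_zero, sub_zero] at h5
      exact zero_ne_one h5
    have h10 : e10 a = 0 := by
      have h2 := congrArg e11 (hact' (Multiplicative.ofAdd 1))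
      simp only [mul11, x01, x10, x11, toAdd_ofAdd] at h2
      linear_combination h2
    have hdet := det_eq a
    rw [h10, mul_zero, sub_zero] at hdet
    have hs : ∀ s : Multiplicative F, (κ.symm (τ (κ s))).toAdd = e00 a ^ 2 * s.toAdd := by
      intro s
      have h2 := congrArg e01 (hact' s)
      simp only [mul01, x00, x01, x10, x11] at h2
      linear_combination (-(κ.symm (τ (κ s))).toAdd) * hdet - e00 a * h2
    have hsq : (e00 a) ^ 2 = 1 := by
      have h2 : ∀ s : F, psi F (s * ((e00 a ^ 2 - 1) * c)) = 1 := by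
        intro s
        have h3 := hντ (κ (Multiplicative.ofAdd s))
        have e1 : ν (κ (Multiplicative.ofAdd s)) = psiHom c (Multiplicative.ofAdd s) := by
          rw [← hνc]; rfl
        have e2 : ν (τ (κ (Multiplicative.ofAdd s))) =
            psiHom c (κ.symm (τ (κ (Multiplicative.ofAdd s)))) := by
          rw [← hνc]
          show _ = ν (κ (κ.symm (τ (κ (Multiplicative.ofAdd s)))))
          rw [MulEquiv.apply_symm_apply]
        rw [e1, e2] at h3
        have h4 := congrArg Units.val h3
        rw [psiHom_apply, psiHom_apply, hs, toAdd_ofAdd] at h4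
        have h5 : s * ((e00 a ^ 2 - 1) * c) = e00 a ^ 2 * s * c + -(s * c) := by ring
        rw [h5, AddChar.map_add_eq_mul, h4, ← AddChar.map_add_eq_mul, add_neg_cancel,
          AddChar.map_zero_eq_one]
      have h3 := sum_psi ((e00 a ^ 2 - 1) * c)
      rw [Finset.sum_congr rfl fun s _ => h2 s, Finset.sum_const, nsmul_eq_mul, mul_one,
        Finset.card_univ] at h3
      by_contra hne
      rw [if_neg (mul_ne_zero (sub_ne_zero.2 hne) hc0)] at h3
      exact cardF_ne F h3
    have hw : w a ∈ (w.comp (data F).xh).range := by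
      rcases mul_self_eq_one_iff.1 ((pow_two (e00 a)).symm.trans hsq) with h2 | h2
      · rw [h2, one_mul] at hdet
        refine ⟨Multiplicative.ofAdd (e01 a), ?_⟩
        show w (x (e01 a)) = w a
        congr 1
        apply ext4
        · rw [x00, h2]
        · rw [x01]
        · rw [x10, h10]
        · rw [x11, hdet]
      · rw [h2] at hdet
        refine ⟨Multiplicative.ofAdd (-e01 a), ?_⟩
        show w (x (-e01 a)) = w a
        rw [hc.eq_iff]
        right
        apply ext4 <;> simp only [mul00, mul01, mul10, mul11, x00, x01, x10, x11, tor00, tor01, tor10,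
          tor11, inv_neg, inv_one, Units.val_neg, Units.val_one]
        · linear_combination h2
        · ring
        · linear_combination h10
        · linear_combination -hdet
    obtain ⟨s, hs'⟩ := hw
    refine ⟨κ s, ?_⟩
    rw [hκ, hy]
    have : w ((data F).xh s) = w a := hs'
    rw [this]

end

end Cfsg.Agent.H663.GmnPsl
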