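import Mathlib
import Cfsg.Agent.H663.GmnPslB
import Cfsg.Agent.H712.GmnExc
import Cfsg.Agent.S4765
import Cfsg.Agent.S0173
import Cfsg.Agent.ClassicalGeometry.SLTwoFour

/-!
# `PSL₂(3^f)` satisfies the conditions `Exc`, second part (helper663)

`psl_mem` : the irreducible characters of `PSL₂(F)`, `F` of characteristic `3`, `-1` not a square,
of degree prime to `3` and invariant under an automorphism of `3`-power order inducing a field
automorphism with fixed points `0, 1, -1`, are the trivial one and those of degree `(q - 1) / 2`.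
`exc_psl` : `PSL₂(F)` satisfies `Exc`.
-/

set_option autoImplicit false
set_option linter.style.haveILetI false
set_option linter.unusedSectionVars false
set_option linter.unusedSimpArgs false
open Cfsg

namespace Cfsg.Agent.H663.GmnPsl

open Matrix Cfsg.Agent.Characters.Core Cfsg.Agent.H670.RankOne Cfsg.Agent.H670.SL2
open Cfsg.Agent.H663.GmnStep Cfsg.Agent.Characters.Clifford Cfsg.Agent.H672
open Cfsg.Agent.ClassicalGeometry.AutPSL.Root (pr pr_surjective pr_eq_one_iff)
open Cfsg.Agent.ClassicalGeometry.AutPSL.Auto (fld coe_fld_apply)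

universe u v w

section classes
variable {F : Type v} [Field F]

theorem mem_center_iff {g : SpecialLinearGroup (Fin 2) F} :
    g ∈ Subgroup.center (SpecialLinearGroup (Fin 2) F) ↔ g = 1 ∨ g = tor (-1) := by
  constructor
  · intro hg
    obtain ⟨r, hr, hrg⟩ := Matrix.SpecialLinearGroup.mem_center_iff.1 hg
    rw [Fintype.card_fin] at hr
    have e0 : e00 g = r := by
      show (g : Matrix (Fin 2) (Fin 2) F) 0 0 = r
      rw [← hrg]; simp [scalar_apply]
    have e1 : e11 g = r := by
      show (g : Matrix (Fin 2) (Fin 2) F) 1 1 = r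
      rw [← hrg]; simp [scalar_apply]
    have e2 : e01 g = 0 := by
      show (g : Matrix (Fin 2) (Fin 2) F) 0 1 = 0
      rw [← hrg]; simp [scalar_apply]
    have e3 : e10 g = 0 := by
      show (g : Matrix (Fin 2) (Fin 2) F) 1 0 = 0
      rw [← hrg]; simp [scalar_apply]
    rcases mul_self_eq_one_iff.1 ((pow_two r).symm.trans hr) with h1 | h1
    · left
      apply ext4
      · rw [e0, h1]; rfl
      · rw [e2]; rfl
      · rw [e3]; rfl
      · rw [e1, h1]; rfl
    · right
      apply ext4
      · rw [e0, h1, tor00, Units.val_neg, Units.val_one]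
      · rw [e2, tor01]
      · rw [e3, tor10]
      · rw [e1, h1, tor11, inv_neg, inv_one, Units.val_neg, Units.val_one]
  · rintro (rfl | rfl)
    · exact Subgroup.one_mem _
    · rw [Subgroup.mem_center_iff]
      intro g
      exact (tor_neg_one_central' g).symm
where
  tor_neg_one_central' (g : SpecialLinearGroup (Fin 2) F) : tor (-1) * g = g * tor (-1) := by
    apply ext4 <;> simp only [mul00, mul01, mul10, mul11, tor00, tor01, tor10, tor11, inv_neg, inv_one,
      Units.val_neg, Units.val_one] <;> ring

theorem pr_neg (g : SpecialLinearGroup (Fin 2) F) : pr (tor (-1) * g) = pr g := by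
  rw [map_mul, (pr_eq_one_iff _).2 (mem_center_iff.2 (Or.inr rfl)), one_mul]

theorem pr_eq_iff {g g' : SpecialLinearGroup (Fin 2) F} : pr g = pr g' ↔ g = g' ∨ g = tor (-1) * g' := by
  rw [← mul_inv_eq_one, ← map_inv, ← map_mul, pr_eq_one_iff, mem_center_iff, mul_inv_eq_one,
    mul_inv_eq_iff_eq_mul]

/-- The trace. -/
def tr (g : SpecialLinearGroup (Fin 2) F) : F := e00 g + e11 g

theorem tr_mul_comm (g h : SpecialLinearGroup (Fin 2) F) : tr (g * h) = tr (h * g) := by
  simp only [tr, mul00, mul11]; ring

theorem tr_conj (g h : SpecialLinearGroup (Fin 2) F) : tr (g * h * g⁻¹) = tr h := by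
  rw [tr_mul_comm, inv_mul_cancel_left]

theorem tr_neg (g : SpecialLinearGroup (Fin 2) F) : tr (tor (-1) * g) = -tr g := by
  simp only [tr, mul00, mul11, tor00, tor01, tor10, tor11, inv_neg, inv_one, Units.val_neg,
    Units.val_one]
  ring

/-- Elements of trace `2` are conjugate to upper unitriangular ones. -/
theorem conj_x_of_tr {g : SpecialLinearGroup (Fin 2) F} (h : tr g = 2) : ∃ s, IsConj (x s) g := by
  have hdet := det_eq g
  have h11 : e11 g = 2 - e00 g := by
    rw [← h]; simp only [tr]; ring
  rw [h11] at hdet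
  by_cases hc : e10 g = 0
  · rw [hc, mul_zero, sub_zero] at hdet
    have h1 : (e00 g - 1) ^ 2 = 0 := by linear_combination -hdet
    have h2 : e00 g = 1 := by
      have := pow_eq_zero_iff (two_ne_zero) |>.1 h1
      exact sub_eq_zero.1 this
    refine ⟨e01 g, ?_⟩
    have : x (e01 g) = g := by
      apply ext4
      · rw [x00, h2]
      · rw [x01]
      · rw [x10, hc]
      · rw [x11, h11, h2]; ring
    rw [this]
  · refine ⟨-e10 g, ?_⟩
    rw [isConj_iff]
    refine ⟨x ((e00 g - 1) / e10 g) * wel, ?_⟩
    rw [mul_inv_eq_iff_eq_mul]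
    apply ext4 <;> simp only [mul00, mul01, mul10, mul11, x00, x01, x10, x11, wel00, wel01, wel10,
      wel11, h11] <;> field_simp
    · linear_combination -hdet
    · ring
    · ring
    · ring

theorem conj_x_mul (v : Fˣ) (s : F) : IsConj (x s) (x ((v : F) ^ 2 * s)) := by
  rw [isConj_iff]
  refine ⟨tor v, ?_⟩
  rw [mul_inv_eq_iff_eq_mul, tor_mul_x]

end classes

section
variable {F : Type v} [Field F] [Fintype F] [CharP F 3] (h1 : ¬ IsSquare (-1 : F))

include h1 in
/-- The conjugacy classes of `PSL₂` of trace `t`, `t² ∈ {0, 1}`. -/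
theorem class_cases (g : SpecialLinearGroup (Fin 2) F) (hg : tr g = 0 ∨ tr g = 1 ∨ tr g = -1) :
    ConjClasses.mk (pr g) = ConjClasses.mk (pr 1) ∨ ConjClasses.mk (pr g) = ConjClasses.mk (pr (x 1)) ∨
    ConjClasses.mk (pr g) = ConjClasses.mk (pr (x (-1))) ∨
    ConjClasses.mk (pr g) = ConjClasses.mk (pr wel) := by
  classical
  have h30 : (3 : F) = 0 := by
    have := CharP.cast_eq_zero F 3
    exact_mod_cast this
  have hx : ∀ g' : SpecialLinearGroup (Fin 2) F, tr g' = 2 →
      ConjClasses.mk (pr g') = ConjClasses.mk (pr 1) ∨ ConjClasses.mk (pr g') = ConjClasses.mk (pr (x 1)) ∨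
      ConjClasses.mk (pr g') = ConjClasses.mk (pr (x (-1))) := by
    intro g' hg'
    obtain ⟨s, hs⟩ := conj_x_of_tr hg'
    have hs' : ConjClasses.mk (pr g') = ConjClasses.mk (pr (x s)) :=
      ConjClasses.mk_eq_mk_iff_isConj.2 (MonoidHom.map_isConj pr hs).symm
    by_cases hs0 : s = 0
    · left
      rw [hs', hs0]
      have : x (0 : F) = 1 := (data F).X_zero
      rw [this]
    right
    have hv : ∀ c : F, c ≠ 0 → IsSquare (s * c⁻¹) →
        ConjClasses.mk (pr g') = ConjClasses.mk (pr (x c)) := by
      intro c hc hsq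
      obtain ⟨v, hv⟩ := hsq
      have hv0 : v ≠ 0 := by
        rintro rfl
        rw [mul_zero] at hv
        exact mul_ne_zero hs0 (inv_ne_zero hc) hv
      rw [hs']
      apply ConjClasses.mk_eq_mk_iff_isConj.2
      have h2 := conj_x_mul (Units.mk0 v hv0) c
      rw [Units.val_mk0, pow_two, ← hv, inv_mul_cancel_right₀ hc] at h2
      exact (MonoidHom.map_isConj pr h2).symm
    by_cases hsq : IsSquare s
    · left
      exact hv 1 one_ne_zero (by rw [inv_one, mul_one]; exact hsq)
    · right
      refine hv (-1) (neg_ne_zero.2 one_ne_zero) ?_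
      rw [← quadraticChar_one_iff_isSquare (mul_ne_zero hs0 (inv_ne_zero (neg_ne_zero.2 one_ne_zero))),
        map_mul, inv_neg, inv_one, quadraticChar_neg_one_iff_not_isSquare.2 hsq,
        quadraticChar_neg_one_iff_not_isSquare.2 h1]
      norm_num
  rcases hg with hg | hg | hg
  · -- involutions
    right; right; right
    have hodd : Odd (Fintype.card F) := by
      have h2 := FiniteField.isSquare_neg_one_iff (F := F)
      have h3 : Fintype.card F % 4 = 3 := by
        by_contra h4
        exact h1 (h2.2 h4)
      exact Nat.odd_iff.2 (by omega)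
    have hord : ∀ g' : SpecialLinearGroup (Fin 2) F, tr g' = 0 → orderOf (pr g') = 2 := by
      intro g' hg'
      have h11 : e11 g' = -e00 g' := by
        have : e00 g' + e11 g' = 0 := hg'
        linear_combination this
      have hdet := det_eq g'
      rw [h11] at hdet
      apply orderOf_eq_prime
      · rw [pow_two, ← map_mul, pr_eq_one_iff, mem_center_iff]
        right
        apply ext4 <;> simp only [mul00, mul01, mul10, mul11, tor00, tor01, tor10, tor11, inv_neg,
          inv_one, Units.val_neg, Units.val_one, h11]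
        · linear_combination -hdet
        · ring
        · ring
        · linear_combination -hdet
      · intro h2
        rw [pr_eq_one_iff, mem_center_iff] at h2
        have h3 : tr g' = 2 ∨ tr g' = -2 := by
          rcases h2 with h2 | h2
          · left
            rw [h2]
            show (1 : F) + 1 = 2
            norm_num
          · right
            rw [h2]
            simp only [tr, tor00, tor11, inv_neg, inv_one, Units.val_neg, Units.val_one]
            ring
        rw [hg'] at h3
        rcases h3 with h3 | h3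
        · exact one_ne_zero (by linear_combination h30 + h3 : (1 : F) = 0)
        · exact one_ne_zero (by linear_combination h30 - h3 : (1 : F) = 0)
    apply ConjClasses.mk_eq_mk_iff_isConj.2
    refine Cfsg.Agent.ClassicalGeometry.SLTwoFour.psl_isConj hodd _ _ (hord g hg) (hord wel ?_)
    show (0 : F) + 0 = 0
    ring
  · have h2 : tr (tor (-1) * g) = 2 := by
      rw [tr_neg, hg]
      linear_combination -h30
    have h3 := hx _ h2
    rw [pr_neg] at h3
    rcases h3 with h3 | h3 | h3
    · left; exact h3
    · right; left; exact h3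
    · right; right; left; exact h3
  · have h2 : tr g = 2 := by
      rw [hg]
      linear_combination -h30
    rcases hx g h2 with h3 | h3 | h3
    · left; exact h3
    · right; left; exact h3
    · right; right; left; exact h3

include h1 in
/-- At most four classes are invariant. -/
theorem card_classes_le {σ : F ≃+* F} (hσ : ∀ c, σ c = c → c = 0 ∨ c = 1 ∨ c = -1)
    {M : SpecialLinearGroup (Fin 2) F} {α : MulAut (ProjectiveSpecialLinearGroup (Fin 2) F)}
    (hα : ∀ g : SpecialLinearGroup (Fin 2) F, α (pr g) = pr (M * fld σ g * M⁻¹)) :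
    Nat.card {C : ConjClasses (ProjectiveSpecialLinearGroup (Fin 2) F) //
      ConjClasses.map (α : ProjectiveSpecialLinearGroup (Fin 2) F ≃*
        ProjectiveSpecialLinearGroup (Fin 2) F).toMonoidHom C = C} ≤ 4 := by
  classical
  let T : Finset (ConjClasses (ProjectiveSpecialLinearGroup (Fin 2) F)) :=
    {ConjClasses.mk (pr 1), ConjClasses.mk (pr (x 1)), ConjClasses.mk (pr (x (-1))),
      ConjClasses.mk (pr wel)}
  have hT : T.card ≤ 4 := Finset.card_le_four
  have key : ∀ C : ConjClasses (ProjectiveSpecialLinearGroup (Fin 2) F),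
      ConjClasses.map (α : ProjectiveSpecialLinearGroup (Fin 2) F ≃*
        ProjectiveSpecialLinearGroup (Fin 2) F).toMonoidHom C = C → C ∈ T := by
    intro C hC
    obtain ⟨z, rfl⟩ := ConjClasses.mk_surjective C
    obtain ⟨g, rfl⟩ := pr_surjective z
    have h2 : IsConj (α (pr g)) (pr g) := ConjClasses.mk_eq_mk_iff_isConj.1 hC
    obtain ⟨z, hz⟩ := isConj_iff.1 h2
    obtain ⟨b, rfl⟩ := pr_surjective z
    rw [hα, ← map_inv, ← map_mul, ← map_mul, pr_eq_iff] at hz
    have htr : tr (fld σ g) = σ (tr g) := by
      simp only [tr, map_add]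
      rfl
    have h3 : σ (tr g) = tr g ∨ σ (tr g) = -tr g := by
      rcases hz with hz | hz
      · left
        have h4 := congrArg tr hz
        rw [tr_conj, tr_conj, htr] at h4
        exact h4
      · right
        have h4 := congrArg tr hz
        rw [tr_conj, tr_conj, htr, tr_neg] at h4
        exact h4
    have h4 : σ (tr g ^ 2) = tr g ^ 2 := by
      rw [map_pow]
      rcases h3 with h3 | h3
      · rw [h3]
      · rw [h3, neg_sq]
    have h5 : tr g = 0 ∨ tr g = 1 ∨ tr g = -1 := by
      rcases hσ _ h4 with h5 | h5 | h5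
      · left
        exact pow_eq_zero_iff two_ne_zero |>.1 h5
      · right
        exact mul_self_eq_one_iff.1 ((pow_two _).symm.trans h5)
      · exact absurd ⟨tr g, by rw [← h5, pow_two]⟩ h1
    simp only [T, Finset.mem_insert, Finset.mem_singleton]
    exact class_cases h1 g h5
  have hinj : Function.Injective (fun C : {C : ConjClasses (ProjectiveSpecialLinearGroup (Fin 2) F) //
      ConjClasses.map (α : ProjectiveSpecialLinearGroup (Fin 2) F ≃*
        ProjectiveSpecialLinearGroup (Fin 2) F).toMonoidHom C = C} => (⟨C.1, key C.1 C.2⟩ : T)) := by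
    intro C D hCD
    exact Subtype.ext (congrArg (fun z : T => z.1) hCD)
  have h2 := Nat.card_le_card_of_injective _ hinj
  rw [Nat.card_eq_fintype_card (α := T), Fintype.card_coe] at h2
  exact h2.trans hT

end

end Cfsg.Agent.H663.GmnPsl
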