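import Mathlib
import Cfsg.Agent.H663.GmnPslC

/-!
# `PSL₂(3^f)` satisfies the conditions `Exc`, conclusion (helper663)
-/

set_option autoImplicit false
set_option linter.style.haveILetI false
set_option linter.unusedSectionVars false
set_option linter.unusedSimpArgs false
open Cfsg

namespace Cfsg.Agent.H663.GmnPsl

open Matrix Cfsg.Agent.Characters.Core Cfsg.Agent.H670.RankOne Cfsg.Agent.H670.SL2
open Cfsg.Agent.H663.GmnStep Cfsg.Agent.Characters.Clifford Cfsg.Agent.H672
open Cfsg.Agent.ClassicalGeometry.AutPSL.Root (pr pr_surjective pr_eq_one_iff)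
open Cfsg.Agent.ClassicalGeometry.AutPSL.Auto (fld coe_fld_apply)

universe u v w

section
variable {F : Type v} [Field F] [Fintype F] [CharP F 3] (h1 : ¬ IsSquare (-1 : F)) {h : ℕ}
  (hq : Fintype.card F = 2 * h + 1) (hh : 1 < h)

include h1 hq in
theorem odd_h : Odd h := by
  have h2 := FiniteField.isSquare_neg_one_iff (F := F)
  have h3 : Fintype.card F % 4 = 3 := by
    by_contra h4
    exact h1 (h2.2 h4)
  exact Nat.odd_iff.2 (by omega)

include h1 hq hh in
/-- The characters of degree `(q - 1) / 2` of `SL₂` come from `PSL₂`. -/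
theorem exists_defl {χ : SpecialLinearGroup (Fin 2) F → ℂ}
    (hχ : IsIrrCharacter (SpecialLinearGroup (Fin 2) F) χ) (hd : χ 1 = h) :
    ∃ η : IrrCharacter (ProjectiveSpecialLinearGroup (Fin 2) F),
      χ = (η : ProjectiveSpecialLinearGroup (Fin 2) F → ℂ) ∘ pr := by
  classical
  have := Fintype.ofFinite (SpecialLinearGroup (Fin 2) F)
  refine Blocks.Deflate.exists_deflation (Subgroup.center (SpecialLinearGroup (Fin 2) F)) χ hχ ?_
  have hz : ∀ z : Subgroup.center (SpecialLinearGroup (Fin 2) F), χ z = h := by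
    rintro ⟨z, hz⟩
    rcases mem_center_iff.1 hz with rfl | rfl
    · exact hd
    · rw [← hd]
      exact one_of_odd (perfect (by omega)) hχ hd (odd_h h1 hq) tor_neg_one_central neg_one_sq
  rw [Finset.sum_congr rfl fun z _ => hz z, Finset.sum_const, nsmul_eq_mul]
  refine mul_ne_zero (Nat.cast_ne_zero.2 ?_) (Nat.cast_ne_zero.2 (by omega))
  rw [Finset.card_univ]
  exact Fintype.card_ne_zero

theorem isIrr_pr (η : IrrCharacter (ProjectiveSpecialLinearGroup (Fin 2) F)) :
    IsIrrCharacter (SpecialLinearGroup (Fin 2) F)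
      ((η : ProjectiveSpecialLinearGroup (Fin 2) F → ℂ) ∘ pr) :=
  isIrr_comp pr pr_surjective η.2

theorem eq_of_pr {η η' : IrrCharacter (ProjectiveSpecialLinearGroup (Fin 2) F)}
    (he : (η : ProjectiveSpecialLinearGroup (Fin 2) F → ℂ) ∘ pr =
      (η' : ProjectiveSpecialLinearGroup (Fin 2) F → ℂ) ∘ pr) : η = η' := by
  apply Subtype.ext
  funext z
  obtain ⟨g, rfl⟩ := pr_surjective z
  exact congrFun he g

include h1 hq hh in
/-- There are exactly two characters of degree `(q - 1) / 2`. -/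
theorem exists_two : ∃ η₁ η₂ : IrrCharacter (ProjectiveSpecialLinearGroup (Fin 2) F), η₁ ≠ η₂ ∧
    ∀ η : IrrCharacter (ProjectiveSpecialLinearGroup (Fin 2) F),
      charDegree (η : ProjectiveSpecialLinearGroup (Fin 2) F → ℂ) = h ↔ η = η₁ ∨ η = η₂ := by
  classical
  have := finite_irr (G := SpecialLinearGroup (Fin 2) F)
  have : Fintype (IrrCharacter (SpecialLinearGroup (Fin 2) F)) := Fintype.ofFinite _
  obtain ⟨-, -, -, -, -, -, c7, c8⟩ := counts h1 hq
  rw [N, Finset.card_eq_one] at c7 c8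
  obtain ⟨χ₁, hχ₁⟩ := c7
  obtain ⟨χ₂, hχ₂⟩ := c8
  have t1 : ty (-1) χ₁ = (0, 1, 0) := by
    have : χ₁ ∈ (Finset.univ.filter fun χ : IrrCharacter (SpecialLinearGroup (Fin 2) F) =>
      ty (-1) χ = (0, 1, 0)) := by rw [hχ₁]; exact Finset.mem_singleton_self _
    exact (Finset.mem_filter.1 this).2
  have t2 : ty (-1) χ₂ = (0, 0, 1) := by
    have : χ₂ ∈ (Finset.univ.filter fun χ : IrrCharacter (SpecialLinearGroup (Fin 2) F) =>
      ty (-1) χ = (0, 0, 1)) := by rw [hχ₂]; exact Finset.mem_singleton_self _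
    exact (Finset.mem_filter.1 this).2
  have d1 : (χ₁ : SpecialLinearGroup (Fin 2) F → ℂ) 1 = h := by
    rw [degree_eq_ty h1 χ₁ hq, t1]; simp
  have d2 : (χ₂ : SpecialLinearGroup (Fin 2) F → ℂ) 1 = h := by
    rw [degree_eq_ty h1 χ₂ hq, t2]; simp
  obtain ⟨η₁, e1⟩ := exists_defl h1 hq hh χ₁.2 d1
  obtain ⟨η₂, e2⟩ := exists_defl h1 hq hh χ₂.2 d2
  have hinfl : ∀ η : IrrCharacter (ProjectiveSpecialLinearGroup (Fin 2) F), ∀ χ,
      (χ : IrrCharacter (SpecialLinearGroup (Fin 2) F)).1 =
        (η : ProjectiveSpecialLinearGroup (Fin 2) F → ℂ) ∘ pr →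
      (χ : SpecialLinearGroup (Fin 2) F → ℂ) 1 = h →
      charDegree (η : ProjectiveSpecialLinearGroup (Fin 2) F → ℂ) = h := by
    intro η χ e d
    apply charDegree_of_eq
    rw [e] at d
    exact d
  refine ⟨η₁, η₂, ?_, fun η => ⟨fun hη => ?_, ?_⟩⟩
  · rintro rfl
    have : χ₁ = χ₂ := Subtype.ext (e1.trans e2.symm)
    rw [this, t2] at t1
    simp at t1
  · let χ : IrrCharacter (SpecialLinearGroup (Fin 2) F) :=
      ⟨(η : ProjectiveSpecialLinearGroup (Fin 2) F → ℂ) ∘ pr, isIrr_pr η⟩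
    have hχ : (χ : SpecialLinearGroup (Fin 2) F → ℂ) 1 = h := by
      rw [← hη, coe_charDegree η.2]
      rfl
    rcases type_half h1 hq hh χ hχ with t | t
    · left
      have : χ = χ₁ := eq_of_type h1 hq (Or.inl t) (t1.trans t.symm)
      apply eq_of_pr
      rw [← e1, ← this]
    · right
      have : χ = χ₂ := eq_of_type h1 hq (Or.inr t) (t2.trans t.symm)
      apply eq_of_pr
      rw [← e2, ← this]
  · rintro (rfl | rfl)
    · exact hinfl _ _ e1 d1
    · exact hinfl _ _ e2 d2

/-- Twisting by an automorphism. -/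
noncomputable def twist {G : Type u} [Group G] (α : MulAut G) (η : IrrCharacter G) : IrrCharacter G :=
  ⟨(η : G → ℂ) ∘ α, isIrr_comp (α : G ≃* G).toMonoidHom (α : G ≃* G).surjective η.2⟩

theorem twist_inj {G : Type u} [Group G] (α : MulAut G) {η η' : IrrCharacter G}
    (he : twist α η = twist α η') : η = η' := by
  apply Subtype.ext
  funext z
  have := congrFun (congrArg Subtype.val he) ((α : G ≃* G).symm z)
  have h2 : (η : G → ℂ) (α ((α : G ≃* G).symm z)) = (η' : G → ℂ) (α ((α : G ≃* G).symm z)) := this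
  have h3 : α ((α : G ≃* G).symm z) = z := (α : G ≃* G).apply_symm_apply z
  rwa [h3] at h2

theorem twist_mul {G : Type u} [Group G] (α β : MulAut G) (η : IrrCharacter G) :
    twist β (twist α η) = twist (α * β) η := rfl

theorem twist_one {G : Type u} [Group G] (η : IrrCharacter G) : twist 1 η = η := rfl

/-- An automorphism of `3`-power order cannot swap two characters. -/
theorem twist_eq {G : Type u} [Group G] {α : MulAut G} {n : ℕ} (hn : α ^ 3 ^ n = 1)
    {η₁ η₂ : IrrCharacter G} (ha : twist α η₁ = η₁ ∨ twist α η₁ = η₂)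
    (hb : twist α η₂ = η₁ ∨ twist α η₂ = η₂) : twist α η₁ = η₁ := by
  rcases ha with ha | ha
  · exact ha
  rcases hb with hb | hb
  · -- swapped
    have h2 : ∀ k, twist (α ^ (2 * k)) η₁ = η₁ := by
      intro k
      induction k with
      | zero => rfl
      | succ k ih =>
        have : α ^ (2 * (k + 1)) = (α * α) * α ^ (2 * k) := by
          rw [← pow_two, ← pow_add]; congr 1; ring
        rw [this, ← twist_mul, ← twist_mul, ha, hb, ih]
    obtain ⟨k, hk⟩ : Odd (3 ^ n) := Odd.pow (by decide)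
    have h3 : α ^ (3 ^ n) = α * α ^ (2 * k) := by
      rw [hk, pow_add, pow_one, (Commute.refl α).pow_left _ |>.eq]
    rw [h3] at hn
    have h4 : twist (α * α ^ (2 * k)) η₁ = η₁ := by rw [hn]; rfl
    have h5 : twist (α ^ (2 * k)) η₂ = η₁ := by rw [← ha]; exact h4
    rw [ha]
    -- `η₂ = twist α⁻¹ ...`
    have h6 : twist (α ^ (2 * k)) η₁ = twist (α ^ (2 * k)) η₂ := (h2 k).trans h5.symm
    exact (twist_inj _ h6).symm
  · have := twist_inj α (ha.trans hb.symm)
    rw [ha, this]

include h1 hq hh in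
/-- The invariant characters of degree prime to `3`. -/
theorem psl_mem {σ : F ≃+* F} (hσ : ∀ c, σ c = c → c = 0 ∨ c = 1 ∨ c = -1)
    {M : SpecialLinearGroup (Fin 2) F} {α : MulAut (ProjectiveSpecialLinearGroup (Fin 2) F)}
    (hα : ∀ g : SpecialLinearGroup (Fin 2) F, α (pr g) = pr (M * fld σ g * M⁻¹)) {n : ℕ}
    (hn : α ^ 3 ^ n = 1) {θ : ProjectiveSpecialLinearGroup (Fin 2) F → ℂ}
    (hθ : IsIrrCharacter (ProjectiveSpecialLinearGroup (Fin 2) F) θ) (hinv : θ ∘ α = θ)
    (h3 : ¬ 3 ∣ charDegree θ) : θ = 1 ∨ charDegree θ = h := by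
  classical
  by_contra hcon
  push Not at hcon
  obtain ⟨hc1, hc2⟩ := hcon
  obtain ⟨η₁, η₂, hne, hη⟩ := exists_two h1 hq hh
  have : Fact (Nat.Prime 3) := ⟨Nat.prime_three⟩
  obtain ⟨s1, -⟩ := Cfsg.Agent.S4765.result 3 F (by omega)
  rw [Nat.card_eq_one_iff_exists] at s1
  obtain ⟨⟨St, hSt⟩, hStu⟩ := s1
  have hdtw : ∀ η : IrrCharacter (ProjectiveSpecialLinearGroup (Fin 2) F),
      charDegree (twist α η : ProjectiveSpecialLinearGroup (Fin 2) F → ℂ) =
        charDegree (η : ProjectiveSpecialLinearGroup (Fin 2) F → ℂ) := by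
    intro η
    apply charDegree_of_eq
    rw [coe_charDegree η.2]
    show (η : ProjectiveSpecialLinearGroup (Fin 2) F → ℂ) (α 1) = _
    rw [map_one]
  have i1 : twist α η₁ = η₁ := twist_eq hn ((hη _).1 ((hdtw _).trans ((hη _).2 (Or.inl rfl))))
    ((hη _).1 ((hdtw _).trans ((hη _).2 (Or.inr rfl))))
  have i2 : twist α η₂ = η₂ := twist_eq hn
    ((hη _).1 ((hdtw _).trans ((hη _).2 (Or.inr rfl)))).symm
    ((hη _).1 ((hdtw _).trans ((hη _).2 (Or.inl rfl)))).symm
  have iSt : twist α St = St :=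
    congrArg Subtype.val (hStu ⟨twist α St, by rw [hdtw]; exact hSt⟩)
  have i0 : twist α (⟨1, isIrr_one⟩ : IrrCharacter (ProjectiveSpecialLinearGroup (Fin 2) F)) =
      ⟨1, isIrr_one⟩ := rfl
  let T : IrrCharacter (ProjectiveSpecialLinearGroup (Fin 2) F) := ⟨θ, hθ⟩
  have iT : twist α T = T := Subtype.ext hinv
  let L : Finset (IrrCharacter (ProjectiveSpecialLinearGroup (Fin 2) F)) :=
    {⟨1, isIrr_one⟩, St, η₁, η₂, T}
  have d0 : charDegree ((⟨1, isIrr_one⟩ : IrrCharacter (ProjectiveSpecialLinearGroup (Fin 2) F)) :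
      ProjectiveSpecialLinearGroup (Fin 2) F → ℂ) = 1 := charDegree_of_eq (by simp)
  have hh3 : ¬ 3 ∣ h := by
    intro h4
    have h5 := three_dvd (F := F)
    omega
  have d1 := (hη η₁).2 (Or.inl rfl)
  have d2 := (hη η₂).2 (Or.inr rfl)
  have hL : L.card = 5 := by
    have n1 : (⟨1, isIrr_one⟩ : IrrCharacter (ProjectiveSpecialLinearGroup (Fin 2) F)) ≠ St := by
      rintro rfl
      rw [d0] at hSt
      omega
    have n2 : (⟨1, isIrr_one⟩ : IrrCharacter (ProjectiveSpecialLinearGroup (Fin 2) F)) ≠ η₁ := by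
      rintro rfl
      rw [d0] at d1
      omega
    have n3 : (⟨1, isIrr_one⟩ : IrrCharacter (ProjectiveSpecialLinearGroup (Fin 2) F)) ≠ η₂ := by
      rintro rfl
      rw [d0] at d2
      omega
    have n4 : (⟨1, isIrr_one⟩ : IrrCharacter (ProjectiveSpecialLinearGroup (Fin 2) F)) ≠ T :=
      fun h4 => hc1 (congrArg Subtype.val h4).symm
    have n5 : St ≠ η₁ := by
      rintro rfl
      rw [d1] at hSt
      exact hh3 hSt
    have n6 : St ≠ η₂ := by
      rintro rfl
      rw [d2] at hSt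
      exact hh3 hSt
    have n7 : St ≠ T := by
      rintro rfl
      exact h3 hSt
    have n8 : η₁ ≠ T := by
      rintro rfl
      exact hc2 d1
    have n9 : η₂ ≠ T := by
      rintro rfl
      exact hc2 d2
    simp only [L]
    rw [Finset.card_insert_of_notMem, Finset.card_insert_of_notMem, Finset.card_insert_of_notMem,
      Finset.card_insert_of_notMem, Finset.card_singleton]
    · simpa using n9
    · simp [hne, n8]
    · simp [n5, n6, n7]
    · simp [n1, n2, n3, n4]
  have hLi : ∀ η ∈ L, (η : ProjectiveSpecialLinearGroup (Fin 2) F → ℂ) ∘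
      (α : ProjectiveSpecialLinearGroup (Fin 2) F ≃* ProjectiveSpecialLinearGroup (Fin 2) F) =
      (η : ProjectiveSpecialLinearGroup (Fin 2) F → ℂ) := by
    intro η hη
    simp only [L, Finset.mem_insert, Finset.mem_singleton] at hη
    rcases hη with rfl | rfl | rfl | rfl | rfl
    · exact congrArg Subtype.val i0
    · exact congrArg Subtype.val iSt
    · exact congrArg Subtype.val i1
    · exact congrArg Subtype.val i2
    · exact congrArg Subtype.val iT
  have h4 := card_classes_le h1 hσ hα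
  rw [Cfsg.Agent.S0173.result (α : ProjectiveSpecialLinearGroup (Fin 2) F ≃*
    ProjectiveSpecialLinearGroup (Fin 2) F)] at h4
  have := finite_irr (G := ProjectiveSpecialLinearGroup (Fin 2) F)
  have hinj : Function.Injective (fun η : L =>
      (⟨η.1, hLi η.1 η.2⟩ : {χ : IrrCharacter (ProjectiveSpecialLinearGroup (Fin 2) F) //
        (χ : ProjectiveSpecialLinearGroup (Fin 2) F → ℂ) ∘
        (α : ProjectiveSpecialLinearGroup (Fin 2) F ≃* ProjectiveSpecialLinearGroup (Fin 2) F) =
        (χ : ProjectiveSpecialLinearGroup (Fin 2) F → ℂ)})) := by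
    intro a b hab
    exact Subtype.ext (congrArg (fun z : {χ : IrrCharacter (ProjectiveSpecialLinearGroup (Fin 2) F) //
        (χ : ProjectiveSpecialLinearGroup (Fin 2) F → ℂ) ∘
        (α : ProjectiveSpecialLinearGroup (Fin 2) F ≃* ProjectiveSpecialLinearGroup (Fin 2) F) =
        (χ : ProjectiveSpecialLinearGroup (Fin 2) F → ℂ)} => z.1) hab)
  have h5 := Nat.card_le_card_of_injective _ hinj
  rw [Nat.card_eq_fintype_card (α := L), Fintype.card_coe, hL] at h5
  omega

end

section
variable {F : Type v} [Field F] [Fintype F] [CharP F 3] {S : Type u} [Group S] [Finite S]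
  (e : S ≃* ProjectiveSpecialLinearGroup (Fin 2) F)

theorem cov_psl : Cov ((e.symm : ProjectiveSpecialLinearGroup (Fin 2) F →* S).comp pr) := by
  refine ⟨e.symm.surjective.comp pr_surjective, fun g => ?_⟩
  have h2 : ((e.symm : ProjectiveSpecialLinearGroup (Fin 2) F →* S).comp pr) g = 1 ↔ pr g = 1 := by
    show e.symm (pr g) = 1 ↔ _
    exact map_eq_one_iff e.symm e.symm.injective
  rw [h2, pr_eq_one_iff, mem_center_iff]

theorem congr_conj (x : S) : MulAut.conj (e x) = MulAut.congr e (MulAut.conj x) := by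
  ext z
  show _ = e (MulAut.conj x (e.symm z))
  rw [MulAut.conj_apply, MulAut.conj_apply, map_mul, map_mul, map_inv, e.apply_symm_apply]

/-- The Frobenius automorphism in a good group of automorphisms. -/
theorem frob_of_good (hZ : Subgroup.center (ProjectiveSpecialLinearGroup (Fin 2) F) = ⊥)
    {Q : Type*} [Group Q] [Finite Q] {q : Q →* S} (hQ : Syl 3 q) {A : Subgroup (MulAut S)}
    (hA : GoodA 3 q A) :
    ¬ IsSquare (-1 : F) ∧ ∃ (σ : F ≃+* F) (M : SpecialLinearGroup (Fin 2) F), ∃ a ∈ A,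
      (∀ c, σ c = c → c = 0 ∨ c = 1 ∨ c = -1) ∧
      ∀ g : SpecialLinearGroup (Fin 2) F, MulAut.congr e a (pr g) = pr (M * fld σ g * M⁻¹) := by
  classical
  have : Fact (Nat.Prime 3) := ⟨Nat.prime_three⟩
  set A' := A.map (MulAut.congr e).toMonoidHom with hA'
  have hA'p : IsPGroup 3 A' := hA.pgroup.map _
  have hQp : IsPGroup 3 (q.range.map e.toMonoidHom) :=
    (hQ.pgroup.of_surjective q.rangeRestrict q.rangeRestrict_surjective).map _
  have hQi : ¬ 3 ∣ (q.range.map e.toMonoidHom).index := fun h2 =>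
    hQ.index (h2.trans (Subgroup.index_map_dvd _ e.surjective))
  obtain ⟨-, -, h1, σ, M, α, hαA, -, hσ, hα⟩ := Cfsg.Agent.H712.Exc.exc_frob (p := 3) (by norm_num) hZ
    hA'p (hQp.toSylow hQi) (by
      rintro _ ⟨_, ⟨y, rfl⟩, rfl⟩
      exact ⟨MulAut.conj (q y), hA.conj_mem y, (congr_conj e _).symm⟩) (by
      intro z hz hn
      have h4 : e.symm z = 1 := by
        refine hA.no _ ?_ ?_
        · rw [MulEquiv.orderOf_eq]; exact hz
        · intro a ha
          obtain ⟨b, hb, hb'⟩ := hn _ ⟨a, ha, rfl⟩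
          have h5 : MulAut.congr e b = MulAut.congr e
              (MulAut.conj (e.symm z) * a * (MulAut.conj (e.symm z))⁻¹) := by
            refine hb'.trans ?_
            rw [map_mul, map_mul, map_inv, ← congr_conj, e.apply_symm_apply]
            rfl
          rw [← (MulAut.congr e).injective h5]
          exact hb
      rw [← e.apply_symm_apply z, h4, map_one])
  obtain ⟨a, ha, rfl⟩ := hαA
  exact ⟨h1, σ, M, a, ha, hσ, hα⟩

include e in
/-- `PSL₂(F)`, `F` of characteristic `3`, `-1` not a square, satisfies `Exc`. -/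
theorem exc_psl (hZ : Subgroup.center (ProjectiveSpecialLinearGroup (Fin 2) F) = ⊥)
    (h1 : ¬ IsSquare (-1 : F)) {h : ℕ} (hq : Fintype.card F = 2 * h + 1) (hh : 1 < h) :
    Exc 3 S h := by
  classical
  refine exc_of_cov hq hh h1 (cov_psl e) ?_
  intro Q _ _ q hQ A hA θ hθ h3 hinv
  refine ⟨hθ, ?_⟩
  obtain ⟨-, σ, M, a, ha, hσ, hα⟩ := frob_of_good e hZ hQ hA
  obtain ⟨n, hn⟩ := hA.pgroup ⟨a, ha⟩
  have hn' : (MulAut.congr e a) ^ 3 ^ n = 1 := by
    rw [← map_pow]
    have h2 : a ^ 3 ^ n = 1 := congrArg Subtype.val hn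
    rw [h2, map_one]
  have h5 := psl_mem h1 hq hh hσ hα hn'
    (θ := θ ∘ e.symm) (isIrr_comp (e.symm : ProjectiveSpecialLinearGroup (Fin 2) F →* S)
      e.symm.surjective hθ) (by
      funext z
      have h6 := congrFun (hinv a ha) (e.symm z)
      show θ (e.symm (e (a (e.symm z)))) = θ (e.symm z)
      rw [e.symm_apply_apply]
      exact h6) (by
      intro h6
      apply h3
      have h7 : charDegree (θ ∘ e.symm) = charDegree θ := by
        apply charDegree_of_eq
        rw [coe_charDegree hθ]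
        show θ (e.symm 1) = θ 1
        rw [map_one]
      rwa [h7] at h6)
  rcases h5 with h5 | h5
  · left
    funext s
    have h6 := congrFun h5 (e s)
    have h7 : θ (e.symm (e s)) = 1 := h6
    rwa [e.symm_apply_apply] at h7
  · right
    rw [← h5]
    symm
    apply charDegree_of_eq
    rw [coe_charDegree hθ]
    show θ (e.symm 1) = θ 1
    rw [map_one]

end

end Cfsg.Agent.H663.GmnPsl
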