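import Mathlib
import Cfsg.Agent.H663.GmnPslD
import Cfsg.Agent.H712.GmnMin
import Cfsg.Agent.H626.NormCrit
import Cfsg.Agent.H670.PSing

/-!
# Restriction of characters to a self-normalizing Sylow subgroup: conclusion (helper663)

`Tab p` : every simple group of order divisible by `p` satisfies `RowS p`, or is `PSL₂(F)`, `F` of
characteristic `p = 3`.  `good_of_tab` : `Tab p` implies `Good p R.subtype` for every self-normalizing
Sylow `p`-subgroup `R` of a finite group, and `final` is the statement S4936.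
-/

set_option autoImplicit false
set_option linter.style.haveILetI false
set_option linter.unusedSectionVars false
open Cfsg

namespace Cfsg.Agent.H663.GmnStep

open Cfsg.Agent.Characters.Core Cfsg.Agent.Characters.Clifford Cfsg.Agent.H672
open Cfsg.Agent.H712 (GmnMin.Hyp GmnMin.indT GmnMin.mem_indT GmnMin.spec)
open scoped ComplexConjugate

universe u v w

/-- The table: simple groups of order divisible by `p`. -/
def Tab (p : ℕ) : Prop :=
  ∀ (S : Type u) [Group S] [Finite S], IsSimpleGroup S → (¬ ∀ a b : S, a * b = b * a) →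
    p ∣ Nat.card S → H712.Gmn.RowS p S ∨ (p = 3 ∧ ∃ (F : Type) (_ : Field F) (_ : Fintype F),
      CharP F 3 ∧ 3 < Fintype.card F ∧
        Nonempty (S ≃* Matrix.ProjectiveSpecialLinearGroup (Fin 2) F))

variable {p : ℕ} [hp : Fact p.Prime]

/-- Non-abelian minimal normal subgroups. -/
theorem sec_of_tab (hT : Tab.{u} p) (G : Type u) [Group G] [Finite G] (R N : Subgroup G) [hN : N.Normal]
    (hj : SelfNorm p R.subtype) (hmin : ∀ M : Subgroup G, M.Normal → M ≤ N → M = ⊥ ∨ M = N)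
    (hna : ¬ ∀ x ∈ N, ∀ y ∈ N, Commute x y) (hdvd : p ∣ Nat.card N) : Sec p R.subtype N := by
  classical
  obtain ⟨m, T, e, hm, hsimple, hnonab, hTinj, hTle, hTnorm, hperm, htrans, hsingle, hcomm⟩ :=
    PermutationGroups.OnanScott.exists_coordinates N hmin hna
  have hc : IsCoord e := ⟨hTinj, hTle, hTnorm, hperm, hsingle, hcomm⟩
  have hRr : R.subtype.range = R := R.range_subtype
  have hRp : IsPGroup p R := by
    have := hj.pgroup
    rwa [hRr] at this
  have hRi : ¬ p ∣ R.index := by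
    have := hj.index
    rwa [hRr] at this
  have hself : Subgroup.normalizer ((R : Subgroup G) : Set G) = R := by
    have := hj.self
    rwa [hRr] at this
  let P : Sylow p G := hRp.toSylow hRi
  have hyp : ∀ i, H712.GmnMin.Hyp N (T i) := fun i =>
    ⟨hN, hTle i, hTnorm i, hsimple i, fun h => by
      obtain ⟨a, b, hab⟩ := hnonab i
      exact hab (h a b)⟩
  have hspec := fun i => H712.GmnMin.spec P (hyp i) hself (H712.GmnMin.indT P (T i))
    (fun a => H712.GmnMin.mem_indT P)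
  have hgood : ∀ i, GoodA p (jQ R.subtype (T i)) (H712.GmnMin.indT P (T i)) := fun i =>
    ⟨(hspec i).1, fun x => (hspec i).2.1 _ x.1.2, (hspec i).2.2.2⟩
  -- the factors are isomorphic
  have hiso : ∀ i j, Nonempty (T i ≃* T j) := by
    intro i j
    obtain ⟨g, hg⟩ := htrans i j
    exact ⟨conjIso g hg⟩
  have hdvdT : ∀ i, p ∣ Nat.card (T i) := by
    intro i
    rw [Nat.card_congr e.toEquiv, Nat.card_pi] at hdvd
    obtain ⟨j, -, hj⟩ := (hp.out.prime.dvd_finsetProd_iff _).1 hdvd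
    obtain ⟨ε⟩ := hiso i j
    rwa [Nat.card_congr ε.toEquiv]
  let i₀ : Fin m := ⟨0, hm⟩
  rcases hT (T i₀) (hsimple i₀) (hyp i₀).nonab (hdvdT i₀) with hrow | ⟨hp3, F, iF, iFin, hF3, hcard, ⟨e₀⟩⟩
  · -- no such configuration
    exfalso
    obtain ⟨s1, s2, ⟨Q, hQ⟩, s4⟩ := hspec i₀
    obtain ⟨y, hy1, hy2, t, ht, hne⟩ := hrow _ s1 Q (fun x hx => s2 x ((hQ x).1 hx))
    have := s4 y hy1 hy2
    apply hne
    rw [this, one_mul, inv_one, mul_one]
  · subst hp3
    have hε : ∀ i, Nonempty (T i ≃* Matrix.ProjectiveSpecialLinearGroup (Fin 2) F) := by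
      intro i
      obtain ⟨ε⟩ := hiso i i₀
      exact ⟨ε.trans e₀⟩
    have hZ : Subgroup.center (Matrix.ProjectiveSpecialLinearGroup (Fin 2) F) = ⊥ := by
      rw [Subgroup.eq_bot_iff_forall]
      intro z hz
      have h1 : e₀.symm z ∈ Subgroup.center (T i₀) := by
        rw [Subgroup.mem_center_iff] at hz ⊢
        intro s
        apply e₀.injective
        rw [map_mul, map_mul, e₀.apply_symm_apply]
        exact hz _
      rw [(hyp i₀).center_eq, Subgroup.mem_bot] at h1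
      rw [← e₀.apply_symm_apply z, h1, map_one]
    have h1 := (GmnPsl.frob_of_good e₀ hZ (syl_q hc hRp hRi i₀) (hgood i₀)).1
    have hodd : Fintype.card F % 4 = 3 := by
      by_contra h4
      exact h1 (FiniteField.isSquare_neg_one_iff.2 h4)
    obtain ⟨h, hq⟩ : ∃ h, Fintype.card F = 2 * h + 1 := ⟨Fintype.card F / 2, by omega⟩
    refine sec_of_exc (A := fun i => H712.GmnMin.indT P (T i)) hc hj (d := h) (fun i => ?_)
      (fun i a ha => ?_) hgood
    · obtain ⟨ε⟩ := hε i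
      exact GmnPsl.exc_psl ε hZ h1 hq (by omega)
    · obtain ⟨x, hx, -, hx'⟩ := (H712.GmnMin.mem_indT P).1 ha
      exact ⟨x, hx, hx'⟩

/-- The theorem for the inclusion of a self-normalizing Sylow subgroup. -/
theorem good_of_tab (hT : Tab.{u} p) (G : Type u) [Group G] [Finite G] (R : Subgroup G)
    (hj : SelfNorm p R.subtype) : Good p R.subtype :=
  good_of_sec (fun G _ _ R N _ hj _ hmin hna hd => sec_of_tab hT G R N hj hmin hna hd)
    (Nat.card G) G R le_rfl hj

theorem selfNorm_of {G : Type u} [Group G] [Finite G] (P : Sylow p G)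
    (hself : Subgroup.normalizer ((P : Subgroup G) : Set G) = (P : Subgroup G)) :
    SelfNorm p (P : Subgroup G).subtype := by
  refine ⟨?_, ?_, ?_⟩
  · rw [Subgroup.range_subtype]; exact P.isPGroup'
  · rw [Subgroup.range_subtype]; exact P.not_dvd_index
  · rw [Subgroup.range_subtype]; exact hself

/-- The statement S4936, from the table. -/
theorem final (hT : Tab.{u} p) {G : Type u} [Group G] [Fintype G] (P : Sylow p G)
    [Fintype ↥(P : Subgroup G)]
    (hself : Subgroup.normalizer ((P : Subgroup G) : Set G) = (P : Subgroup G)) :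
    (∀ χ : Cfsg.IrrCharacter G, ¬ p ∣ Cfsg.charDegree (χ : G → ℂ) →
        ∃! μ : Cfsg.IrrCharacter ↥(P : Subgroup G), Cfsg.charDegree (μ : ↥(P : Subgroup G) → ℂ) = 1 ∧
          Cfsg.classInner (fun x : ↥(P : Subgroup G) => (χ : G → ℂ) x) (μ : ↥(P : Subgroup G) → ℂ) ≠ 0) ∧
    (∀ χ : Cfsg.IrrCharacter G, ¬ p ∣ Cfsg.charDegree (χ : G → ℂ) → ∀ μ : Cfsg.IrrCharacter ↥(P : Subgroup G),
        Cfsg.charDegree (μ : ↥(P : Subgroup G) → ℂ) = 1 →
          Cfsg.classInner (fun x : ↥(P : Subgroup G) => (χ : G → ℂ) x) (μ : ↥(P : Subgroup G) → ℂ) ≠ 0 →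
            Cfsg.classInner (fun x : ↥(P : Subgroup G) => (χ : G → ℂ) x) (μ : ↥(P : Subgroup G) → ℂ) = 1) ∧
    (∀ μ : Cfsg.IrrCharacter ↥(P : Subgroup G), Cfsg.charDegree (μ : ↥(P : Subgroup G) → ℂ) = 1 →
        ∃! χ : Cfsg.IrrCharacter G, ¬ p ∣ Cfsg.charDegree (χ : G → ℂ) ∧
          Cfsg.classInner (fun x : ↥(P : Subgroup G) => (χ : G → ℂ) x) (μ : ↥(P : Subgroup G) → ℂ) ≠ 0) := by
  classical
  have hG := good_of_tab hT G (P : Subgroup G) (selfNorm_of P hself)
  have hm : ∀ (χ : G → ℂ) (l : (P : Subgroup G) →* ℂˣ),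
      mult (P : Subgroup G).subtype χ (lf l) =
        classInner (fun x : ↥(P : Subgroup G) => χ x) (lf l) := fun χ l => mult_eq _ _ _
  have hlin : ∀ μ : Cfsg.IrrCharacter ↥(P : Subgroup G),
      Cfsg.charDegree (μ : ↥(P : Subgroup G) → ℂ) = 1 → ∃ l : (P : Subgroup G) →* ℂˣ,
        (μ : ↥(P : Subgroup G) → ℂ) = lf l := by
    intro μ hμ
    exact Characters.Linear.exists_hom_of_isIrrCharacter μ.2 (by
      rw [← coe_charDegree μ.2, hμ, Nat.cast_one])
  refine ⟨?_, ?_, ?_⟩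
  · intro χ hχ
    obtain ⟨l, hl⟩ := H670.PSing.exists_linear_constituent P.isPGroup'
      (isCharacter_restrict (P : Subgroup G) (isIrr_isCharacter χ.2)) (d := charDegree (χ : G → ℂ))
      (coe_charDegree χ.2).symm hχ
    refine ⟨⟨lf l, isIrr_lf l⟩, ⟨charDegree_of_eq (by simp [lf]), hl⟩, ?_⟩
    rintro μ ⟨hμ1, hμ2⟩
    obtain ⟨l', hl'⟩ := hlin μ hμ1
    apply Subtype.ext
    rw [hl'] at hμ2
    show (μ : ↥(P : Subgroup G) → ℂ) = lf l
    rw [hl', hG.unique χ χ.2 hχ l l' ((over_iff_mult _ _ _).2 (by rw [hm]; exact hl))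
      ((over_iff_mult _ _ _).2 (by rw [hm]; exact hμ2))]
  · intro χ hχ μ hμ1 hμ2
    obtain ⟨l, hl⟩ := hlin μ hμ1
    rw [hl] at hμ2 ⊢
    rw [← hm]
    exact hG.mult_one χ χ.2 hχ l ((over_iff_mult _ _ _).2 (by rw [hm]; exact hμ2))
  · intro μ hμ1
    obtain ⟨l, hl⟩ := hlin μ hμ1
    obtain ⟨χ, hχ1, hχ2⟩ := H626.exists_over_index (P : Subgroup G) P.not_dvd_index
      (μ : ↥(P : Subgroup G) → ℂ) μ.2 (by
        rw [hμ1]
        exact fun h => hp.out.one_lt.not_ge (Nat.le_of_dvd one_pos h))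
    rw [H626.ip_eq] at hχ2
    refine ⟨χ, ⟨hχ1, hχ2⟩, ?_⟩
    rintro χ' ⟨h1, h2⟩
    rw [hl] at hχ2 h2
    apply Subtype.ext
    exact hG.inj χ' χ χ'.2 χ.2 h1 hχ1 l ((over_iff_mult _ _ _).2 (by rw [hm]; exact h2))
      ((over_iff_mult _ _ _).2 (by rw [hm]; exact hχ2))

/-- The hypothesis of `H626.s4934_of` (statement S4934), from the table. -/
theorem eq_one_of_tab (hT : Tab.{u} p) {G : Type u} [Group G] [Finite G] (P : Sylow p G)
    (hself : Subgroup.normalizer ((P : Subgroup G) : Set G) = (P : Subgroup G))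
    (χ : IrrCharacter G) (hχ : ¬ p ∣ charDegree (χ : G → ℂ))
    (ho : H626.ip (fun x : (P : Subgroup G) => (χ : G → ℂ) x) (fun _ => 1) ≠ 0) :
    (χ : G → ℂ) = fun _ => 1 := by
  classical
  letI := Fintype.ofFinite G
  letI := Fintype.ofFinite (P : Subgroup G)
  have h1 := (final hT P hself).2.2 ⟨fun _ => 1, isIrr_one⟩ (charDegree_of_eq (by simp))
  rw [H626.ip_eq] at ho
  have h2 := h1.unique (y₁ := χ) (y₂ := ⟨fun _ => 1, isIrr_one⟩) ⟨hχ, ho⟩ ⟨?_, ?_⟩
  · exact congrArg Subtype.val h2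
  · have h3 : charDegree (fun _ : G => (1 : ℂ)) = 1 := charDegree_of_eq (by simp)
    show ¬ p ∣ charDegree (fun _ : G => (1 : ℂ))
    rw [h3]
    exact fun h => hp.out.one_lt.not_ge (Nat.le_of_dvd one_pos h)
  · show classInner (1 : ↥(P : Subgroup G) → ℂ) (1 : ↥(P : Subgroup G) → ℂ) ≠ 0
    rw [classInner_irr (isIrr_one (G := (P : Subgroup G))) (isIrr_one (G := (P : Subgroup G)))]
    simp

end Cfsg.Agent.H663.GmnStep
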