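import Cfsg.Agent.QTUnique.Ru
import Cfsg.Agent.QTNorm.SporRu
import Cfsg.Agent.Transfer.PGroupNormal

/-!
# The 2-local subgroups of the Rudvalis group (helper663, row `Ru` of S3876)

`two_local` : a Sylow 2-subgroup `T = N(T)`, `Y = N(Z) ≥ T` of order `2^14 · 21`, two subgroups `P1 = Y ∩ C(z)`, `P2` of `Y`
containing `T`, `{2, 3}`-groups, `P1` of order `2^14 · 3`, `P2 ≰ P1`; `C(z)` of order `2^14 · 15`; `⟨C(z), Y⟩ = S`.
-/

set_option autoImplicit false
set_option maxRecDepth 100000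

namespace Cfsg.Agent.H663.PiBSRu

open Subgroup

section seven

variable {S : Type*} [Group S]

/-- an automorphism of order 7 of an elementary group of order 8 does not normalise a subgroup of order 4 -/
theorem cent_of_seven [Finite S] {Z Z2 : Subgroup S} (hle : Z2 ≤ Z) (hZ : Nat.card Z = 8) (hZ2 : Nat.card Z2 = 4)
    {e : S} (h7 : e ^ 7 = 1) (heZ : ∀ x ∈ Z, e * x * e⁻¹ ∈ Z) (heZ2 : ∀ x ∈ Z2, e⁻¹ * x * e ∈ Z2) :
    ∀ x ∈ Z, e * x = x * e := by
  classical
  have key : ∀ x ∈ Z, x ∉ Z2 → e * x = x * e := by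
    intro x hx hx2
    have hmem : ∀ n : ℕ, e ^ n * x * (e ^ n)⁻¹ ∈ Z ∧ e ^ n * x * (e ^ n)⁻¹ ∉ Z2 := by
      intro n
      induction n with
      | zero => simpa using ⟨hx, hx2⟩
      | succ n ih =>
        have e1 : e ^ (n + 1) * x * (e ^ (n + 1))⁻¹ = e * (e ^ n * x * (e ^ n)⁻¹) * e⁻¹ := by
          rw [pow_succ']; group
        rw [e1]
        refine ⟨heZ _ ih.1, fun h => ih.2 ?_⟩
        have h1 := heZ2 _ h
        have e2 : e⁻¹ * (e * (e ^ n * x * (e ^ n)⁻¹) * e⁻¹) * e = e ^ n * x * (e ^ n)⁻¹ := by group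
        rwa [e2] at h1
    have hcard : (((Z : Set S) \ (Z2 : Set S)).ncard) = 4 := by
      rw [Set.ncard_sdiff (by exact hle)]
      have a1 : (Z : Set S).ncard = 8 := hZ
      have a2 : (Z2 : Set S).ncard = 4 := hZ2
      rw [a1, a2]
    obtain ⟨i, hi, j, hj, hij, h⟩ := Finset.exists_ne_map_eq_of_card_lt_of_maps_to
      (s := Finset.range 5) (t := ((Z : Set S) \ (Z2 : Set S)).toFinite.toFinset)
      (f := fun n => e ^ n * x * (e ^ n)⁻¹)
      (by rw [← Set.ncard_eq_toFinset_card _ _, hcard, Finset.card_range]; norm_num)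
      (fun n _ => by
        rw [Finset.mem_coe, Set.Finite.mem_toFinset]
        exact hmem n)
    wlog hlt : i < j generalizing i j with H
    · exact H j hj i hi (Ne.symm hij) h.symm (by omega)
    rw [Finset.mem_range] at hi hj
    -- e ^ (j - i) commutes with x
    have h1 : Commute (e ^ (j - i)) x := by
      have e3 : e ^ j = e ^ i * e ^ (j - i) := by rw [← pow_add]; congr 1; omega
      have h' : e ^ i * x * (e ^ i)⁻¹ = e ^ j * x * (e ^ j)⁻¹ := h
      rw [e3] at h'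
      have h2 : x = e ^ (j - i) * x * (e ^ (j - i))⁻¹ := by
        calc x = (e ^ i)⁻¹ * (e ^ i * x * (e ^ i)⁻¹) * e ^ i := by group
          _ = (e ^ i)⁻¹ * (e ^ i * e ^ (j - i) * x * (e ^ i * e ^ (j - i))⁻¹) * e ^ i := by rw [h']
          _ = _ := by group
      show e ^ (j - i) * x = x * e ^ (j - i)
      calc e ^ (j - i) * x = (e ^ (j - i) * x * (e ^ (j - i))⁻¹) * e ^ (j - i) := by group
        _ = _ := by rw [← h2]
    -- a multiple of j - i is 1 mod 7
    have hr : ∃ m : ℕ, (j - i) * m % 7 = 1 := by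
      have hd : 1 ≤ j - i ∧ j - i ≤ 4 := by omega
      generalize j - i = d at hd
      obtain ⟨h1, h2⟩ := hd
      interval_cases d
      · exact ⟨1, rfl⟩
      · exact ⟨4, rfl⟩
      · exact ⟨5, rfl⟩
      · exact ⟨2, rfl⟩
    obtain ⟨m, hm⟩ := hr
    have h3 : e ^ ((j - i) * m) = e := by
      rw [← Nat.div_add_mod ((j - i) * m) 7, hm, pow_add, pow_mul, h7, one_pow, one_mul, pow_one]
    have h4 : Commute (e ^ ((j - i) * m)) x := by
      rw [pow_mul]
      exact h1.pow_left m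
    rw [h3] at h4
    exact h4.eq
  intro x hx
  by_cases hx2 : x ∈ Z2
  · obtain ⟨v, hv, hv2⟩ : ∃ v ∈ Z, v ∉ Z2 := by
      by_contra hcon
      push Not at hcon
      have h1 := Subgroup.card_le_of_le (show Z ≤ Z2 from hcon)
      omega
    have h1 := key v hv hv2
    have h2 := key (x * v) (mul_mem hx hv) (fun h => hv2 (by
      have := mul_mem (inv_mem hx2) h
      rwa [inv_mul_cancel_left] at this))
    have h3 : e * x * v = x * e * v := by
      rw [mul_assoc, h2, mul_assoc, ← h1, ← mul_assoc]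
    exact mul_right_cancel h3
  · exact key x hx hx2

end seven

section core

open Cfsg Cfsg.Agent.RuB Cfsg.Agent.RuB.Core Cfsg.Agent.RuB.NormZ Cfsg.Agent.RuB.NormQ Cfsg.Agent.RuB.GLThree
open Cfsg.Agent.KFacts.Ru
open Cfsg.Agent.Ru127.Form (nor mem_nor mem_cj LocalData cj conj_mem_of_mem_nor)

/-- for every `b` a code of a map `1 ↦ b ↦ 1 + b` -/
def chkCyc : Bool := (List.range 8).all fun b => Nat.ble b 1 ||
  (List.range 512).any fun p => good p && (ap p 1 == b) && (ap p b == Nat.xor b 1)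

theorem chkCyc_true : chkCyc = true := by decide +kernel

variable {G : Type*} [Group G]

theorem exists_cyc [Finite G] (C : Core G) {b : K8} (hb0 : b ≠ 0) (hb1 : b ≠ 1) :
    ∃ g ∈ nor (Zs C), g * C.z 1 * g⁻¹ = C.z b ∧ g * C.z b * g⁻¹ = C.z (1 + b) := by
  obtain ⟨K, hν, hμ, g0, hg0', ht⟩ := QSyl.exists_coord_norm C
  have hg0 := Local.mem_nor_of_norm hg0'
  have hC := Local.cent_le K hμ
  have hμ0 : K.μ ≠ 0 := by rw [hμ]; decide +kernel
  have hS : ∀ p, p < 512 → good p = true → ∃ g, ∃ r, Ind C g r ∧ cod r = p := by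
    obtain ⟨r0, hr0⟩ := exists_ind hg0
    refine all_of (S := fun p => ∃ g, ∃ r, Ind C g r ∧ cod r = p) ?_ ?_ (cod_lt r0) ⟨g0, r0, hr0, rfl⟩
      (good_cod hr0.add (fun x hx => hr0.zero hx)) (not_semi K hμ0 hr0 (nor_QQ hC hr0) ht)
    · rintro _ _ ⟨g, r, hg, rfl⟩ ⟨h, s, hh, rfl⟩
      exact ⟨g * h, r ∘ s, hg.comp hh, cod_comp hg.add⟩
    · intro m hm
      obtain ⟨c, hc, rfl⟩ := mem_ms m hm
      let k : K8ˣ := Units.mk0 (c ^ 2) (pow_ne_zero _ hc)
      have hk : (k : K8) ^ 4 = c := by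
        show (c ^ 2) ^ 4 = c
        rw [← pow_mul]; exact K8.pow_eight c
      refine ⟨C.dk k, _, ind_dk k, ?_⟩
      rw [hk]
  have h1 := chkCyc_true
  unfold chkCyc at h1
  rw [List.all_eq_true] at h1
  have h2 := h1 b.val.val (List.mem_range.2 (val_lt b))
  rw [Bool.or_eq_true, List.any_eq_true] at h2
  have hv0 : b.val.val ≠ 0 := fun h => hb0 (val_inj (by rw [h]; decide +kernel))
  have hv1 : b.val.val ≠ 1 := fun h => hb1 (val_inj (by rw [h]; decide +kernel))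
  rcases h2 with h2 | ⟨p, hp, h2⟩
  · have := Nat.le_of_ble_eq_true h2
    omega
  rw [Bool.and_eq_true, Bool.and_eq_true, beq_iff_eq, beq_iff_eq] at h2
  obtain ⟨⟨h3, h4⟩, h5⟩ := h2
  obtain ⟨g, r, hg, hr⟩ := hS p (List.mem_range.1 hp) h3
  refine ⟨g, mem_nor_of_ind hg, ?_, ?_⟩
  · rw [hg]
    congr 1
    apply val_inj
    rw [ap_cod hg.add, hr, ← h4]
    rfl
  · rw [hg]
    congr 1
    apply val_inj
    rw [ap_cod hg.add, hr, h5, add_val]
    exact Nat.xor_comm _ _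

/-- `C(z)` and `N(Z)` generate `Ru` -/
theorem gen_two {G : Type*} [Group G] [Finite G] (h : Cfsg.Spor.IsoRu G) : ∃ C : Core G, ∀ X : Subgroup G,
    centralizer ({C.z 1} : Set G) ≤ X → nor (Zs C) ≤ X → X = ⊤ := by
  obtain ⟨t, s, w, f, d, y, hL, hy, hw⟩ := QTUnique.Ru.exists_lets' h
  obtain ⟨C, -, -, -, hs, -, hf⟩ := hL.exists_core
  have hzs : s * s = C.z 1 := by
    rw [← hs, C.U_sq]
    congr 1
  refine ⟨C, fun Y0 hCY hN => ?_⟩
  have hC : ∀ g : G, g * (s * s) = s * s * g → g ∈ Y0 := by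
    intro g hg
    rw [hzs] at hg
    exact hCY (mem_centralizer_singleton_iff.2 hg)
  have hsY : s ∈ Y0 := hC s (mul_assoc s s s).symm
  have hfY : f ∈ Y0 := by rw [← hf]; exact hN (dk_mem_nor _)
  have hyY : y ∈ Y0 := hC y hy
  have htY : t ∈ Y0 := hC t (hL.tL (mul_mem (subset_closure (by simp)) (subset_closure (by simp))))
  have hdY : d ∈ Y0 := by
    apply hC
    have h1 : d * s = s * d := mul_inv_eq_iff_eq_mul.1 hL.ds
    rw [← mul_assoc, h1, mul_assoc, h1, mul_assoc]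
  have hyi : y⁻¹ = y := inv_eq_of_mul_eq_one_right hL.rel.y2
  have hwY : w ∈ Y0 := by
    set g := f * y * s * f * y * f * y * f * f with hg
    have hgi : f⁻¹ * f⁻¹ * y * f⁻¹ * y * f⁻¹ * s⁻¹ * y * f⁻¹ = g⁻¹ := by
      rw [hg]
      simp only [mul_inv_rev, hyi, mul_assoc]
    rw [hgi] at hw
    have hgY : g ∈ Y0 := by
      rw [hg]
      exact mul_mem (mul_mem (mul_mem (mul_mem (mul_mem (mul_mem (mul_mem (mul_mem hfY hyY) hsY) hfY) hyY) hfY) hyY)
        hfY) hfY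
    have h1 : g⁻¹ * w * g ∈ Y0 := by
      apply hC
      calc g⁻¹ * w * g * (s * s) = g⁻¹ * (w * (g * (s * s) * g⁻¹)) * g := by group
        _ = g⁻¹ * (g * (s * s) * g⁻¹ * w) * g := by rw [hw]
        _ = _ := by group
    have h2 : w = g * (g⁻¹ * w * g) * g⁻¹ := by group
    rw [h2]
    exact mul_mem (mul_mem hgY h1) (inv_mem hgY)
  rw [eq_top_iff, ← hL.gen, closure_le]
  rintro x (rfl | rfl | rfl | rfl | rfl | rfl)
  · exact htY
  · exact hsY
  · exact hwY
  · exact hfY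
  · exact hdY
  · exact hyY

/-- **the 2-local data** -/
theorem two_local {G : Type*} [Group G] [Finite G] (h : Cfsg.Spor.IsoRu G) :
    ∃ (T : Sylow 2 G) (Y P1 P2 Cz : Subgroup G),
      normalizer ((T : Subgroup G) : Set G) ≤ T ∧ Nat.card T = 2 ^ 14 ∧
      (T : Subgroup G) ≤ P1 ∧ (T : Subgroup G) ≤ P2 ∧ P1 ≤ Y ∧ P2 ≤ Y ∧ ¬ P2 ≤ P1 ∧ Nat.card P1 = 2 ^ 14 * 3 ∧
      ¬ 7 ∣ Nat.card P2 ∧ Nat.card Y = 2 ^ 14 * 21 ∧ (T : Subgroup G) ≤ Cz ∧ Nat.card Cz = 245760 ∧
      ∀ X : Subgroup G, Cz ≤ X → Y ≤ X → X = ⊤ := by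
  have : Fact (Nat.Prime 2) := ⟨Nat.prime_two⟩
  obtain ⟨C, hgen⟩ := gen_two h
  obtain ⟨K, hν, hμ, L, hcz⟩ := Cfsg.Agent.Ru127.Sg.exists_localData C
  have hz1 : C.z 1 ≠ 1 := fun h => one_ne_zero (C.z_eq_one h)
  obtain ⟨P, hPc, hPz, hPQ, hPn, -⟩ := InvC.exists_sylow C
  have hself := Cfsg.Agent.QTNorm.RuRow.selfN_ru h P
  have hP1 : Nat.card (nor (Zs C) ⊓ centralizer {C.z 1} : Subgroup G) = 2 ^ 14 * 3 :=
    Cfsg.Agent.Ru127.Count.card_nor_cent L hz1 Local.Zs_mem_ZZ (z_mem_Zs 1)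
  have hY : Nat.card (nor (Zs C)) = 2 ^ 14 * 21 := L.norm_card _ Local.Zs_mem_ZZ
  have hZ8 : Nat.card (Zs C) = 8 := Cfsg.Agent.Ru127.Basic.card_mem L Local.Zs_mem_ZZ
  have hCz : Nat.card (centralizer ({C.z 1} : Set G)) = 245760 := Cfsg.Agent.Ru127.Sg.card_cent C
  -- the subgroup of order 4
  have hZP : Zs C ≤ P := by
    rintro _ ⟨b, rfl⟩
    exact hPQ _ (z_mem_QQ b)
  have hz2 : Nat.card (zpowers (C.z 1)) = 2 := by
    rw [Nat.card_zpowers]
    exact orderOf_eq_prime (by rw [pow_two]; exact C.z_sq 1) hz1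
  have hzZ : zpowers (C.z 1) ≤ Zs C := zpowers_le.2 (z_mem_Zs 1)
  have hcard : ∀ A : Subgroup G, A ≤ P → Nat.card (A.subgroupOf (P : Subgroup G)) = Nat.card A := fun A hA =>
    Nat.card_congr (subgroupOfEquivOfLe hA).toEquiv
  obtain ⟨M, hMn, hNM, hMK, hM4⟩ := Cfsg.Agent.Transfer.PGroupNormal.exists_normal_between (p := 2) (k := 2)
    (G := ↥(P : Subgroup G)) P.2 (N := (zpowers (C.z 1)).subgroupOf P) (K := (Zs C).subgroupOf P)
    ⟨by
      intro n hn g
      rw [mem_subgroupOf] at hn ⊢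
      have h1 : ((g : G) * n * (g : G)⁻¹) = n := by
        obtain ⟨k, hk⟩ := mem_zpowers_iff.1 hn
        rw [← hk]
        have h2 : Commute (g : G) (C.z 1) := hPz g g.2
        rw [(h2.zpow_right k).eq, mul_inv_cancel_right]
      change ((g : G) * n * (g : G)⁻¹) ∈ _
      rw [h1]
      exact hn⟩
    ⟨by
      intro n hn g
      rw [mem_subgroupOf] at hn ⊢
      exact conj_mem_of_mem_nor (hPn g g.2) hn⟩
    (fun x hx => by rw [mem_subgroupOf] at hx ⊢; exact hzZ hx)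
    (by rw [hcard _ (hzZ.trans hZP), hz2]; norm_num) (by rw [hcard _ hZP, hZ8]; norm_num)
  obtain ⟨Z2, hZ2⟩ : ∃ Z2 : Subgroup G, Z2 = M.map (P : Subgroup G).subtype := ⟨_, rfl⟩
  have hZ2c : Nat.card Z2 = 4 := by
    rw [hZ2, ← Nat.card_congr (M.equivMapOfInjective _ (subtype_injective _)).toEquiv, hM4]
    norm_num
  have hZ2le : Z2 ≤ Zs C := by
    rw [hZ2]
    rintro _ ⟨x, hx, rfl⟩
    exact hMK hx
  have hzZ2 : C.z 1 ∈ Z2 := by
    rw [hZ2]
    exact ⟨⟨C.z 1, hZP (z_mem_Zs 1)⟩, hNM (by rw [mem_subgroupOf]; exact mem_zpowers _), rfl⟩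
  have hPZ2 : ∀ x ∈ P, ∀ v ∈ Z2, x * v * x⁻¹ ∈ Z2 := by
    rw [hZ2]
    rintro x hx _ ⟨v, hv, rfl⟩
    exact ⟨_, hMn.conj_mem v hv ⟨x, hx⟩, rfl⟩
  have hmemnor : ∀ g : G, (∀ v ∈ Z2, g * v * g⁻¹ ∈ Z2) → g ∈ nor Z2 := by
    intro g hg
    rw [mem_nor]
    apply eq_of_le_of_card_ge
    · intro x hx
      rw [mem_cj] at hx
      have h1 := hg _ hx
      have e1 : g * (g⁻¹ * x * g) * g⁻¹ = x := by group
      rwa [e1] at h1
    · rw [Cfsg.Agent.Ru127.Form.cj, card_map_of_injective (MulAut.conj g).injective]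
  obtain ⟨b, hbZ, hb0, hb1⟩ : ∃ b : K8, C.z b ∈ Z2 ∧ b ≠ 0 ∧ b ≠ 1 := by
    by_contra hcon
    push Not at hcon
    have h1 : Z2 ≤ zpowers (C.z 1) := by
      intro v hv
      obtain ⟨c, rfl⟩ := hZ2le hv
      by_cases hc : c = 0
      · rw [hc, C.z_zero]; exact one_mem _
      · rw [hcon c hv hc]; exact mem_zpowers _
    have h2 := card_le_of_le h1
    omega
  obtain ⟨g, hgn, hg1, hg2⟩ := exists_cyc C hb0 hb1
  have hgen2 : closure ({C.z 1, C.z b} : Set G) = Z2 := by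
    apply eq_of_le_of_card_ge
    · rw [closure_le]
      rintro x (rfl | rfl)
      · exact hzZ2
      · exact hbZ
    · have h1 : ({1, C.z 1, C.z b} : Set G) ⊆ closure ({C.z 1, C.z b} : Set G) := by
        rintro x (rfl | rfl | rfl)
        · exact one_mem _
        · exact subset_closure (by simp)
        · exact subset_closure (by simp)
      have h2 := Set.ncard_le_ncard h1 (Set.toFinite _)
      have h3 : ({1, C.z 1, C.z b} : Set G).ncard = 3 := by
        rw [Set.ncard_eq_three]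
        refine ⟨1, C.z 1, C.z b, hz1.symm, fun h => hb0 (C.z_eq_one h.symm), fun h => hb1 (C.z_inj h).symm, rfl⟩
      have h4 : closure ({C.z 1, C.z b} : Set G) ≤ Z2 := by
        rw [closure_le]
        rintro x (rfl | rfl)
        · exact hzZ2
        · exact hbZ
      have h5 := card_dvd_of_le h4
      rw [hZ2c] at h5 ⊢
      have h6 : 3 ≤ Nat.card (closure ({C.z 1, C.z b} : Set G)) := by
        rw [h3] at h2
        exact h2
      have h7 := Nat.le_of_dvd (by norm_num) h5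
      interval_cases hcc : Nat.card (closure ({C.z 1, C.z b} : Set G))
      · norm_num at h5
      · norm_num
  have hgZ2 : g ∈ nor Z2 := by
    apply hmemnor
    intro v hv
    rw [← hgen2] at hv ⊢
    induction hv using closure_induction with
    | mem x hx =>
      rcases hx with rfl | rfl
      · rw [hg1]; exact subset_closure (by simp)
      · rw [hg2, C.z_add]
        exact mul_mem (subset_closure (by simp)) (subset_closure (by simp))
    | one => rw [mul_one, mul_inv_cancel]; exact one_mem _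
    | mul x y _ _ hx hy =>
      have e1 : g * (x * y) * g⁻¹ = (g * x * g⁻¹) * (g * y * g⁻¹) := by group
      rw [e1]; exact mul_mem hx hy
    | inv x _ hx =>
      have e1 : g * x⁻¹ * g⁻¹ = (g * x * g⁻¹)⁻¹ := by group
      rw [e1]; exact inv_mem hx
  refine ⟨P, nor (Zs C), nor (Zs C) ⊓ centralizer {C.z 1}, nor (Zs C) ⊓ nor Z2, centralizer {C.z 1}, hself, hPc,
    ?_, ?_, inf_le_left, inf_le_left, ?_, hP1, ?_, hY, ?_, hCz, hgen⟩
  · intro x hx
    exact ⟨hPn x hx, mem_centralizer_singleton_iff.2 (hPz x hx)⟩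
  · intro x hx
    exact ⟨hPn x hx, hmemnor x (hPZ2 x hx)⟩
  · intro hle
    have h1 : g ∈ centralizer ({C.z 1} : Set G) := (hle ⟨hgn, hgZ2⟩).2
    rw [mem_centralizer_singleton_iff] at h1
    rw [h1, mul_inv_cancel_right] at hg1
    exact hb1 (C.z_inj hg1).symm
  · intro h7
    have : Fact (Nat.Prime 7) := ⟨by norm_num⟩
    obtain ⟨e, he⟩ := exists_prime_orderOf_dvd_card' 7 h7
    have he7 : (e : G) ^ 7 = 1 := by
      have h1 := pow_orderOf_eq_one e
      rw [he] at h1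
      exact congrArg Subtype.val h1
    have hcent := cent_of_seven hZ2le hZ8 hZ2c he7 (fun x hx => conj_mem_of_mem_nor e.2.1 hx) (fun x hx => by
      have h1 := conj_mem_of_mem_nor ((nor Z2).inv_mem e.2.2) hx
      rwa [inv_inv] at h1)
    have h1 : (e : G) ∈ C.QQ := hcz _ fun c => hcent _ (z_mem_Zs c)
    have h2 := Subgroup.orderOf_dvd_natCard _ h1
    rw [Subgroup.orderOf_coe, he, card_QQ K] at h2
    have h3 := (Nat.Prime.dvd_of_dvd_pow (by norm_num) h2)
    norm_num at h3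
  · intro x hx
    exact mem_centralizer_singleton_iff.2 (hPz x hx)

end core

end Cfsg.Agent.H663.PiBSRu
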