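import Cfsg.Agent.KFacts.Ru.CentEng
import Cfsg.Agent.KFacts.Ru.Core
import Cfsg.Agent.RuLat.Main
import Cfsg.Agent.CpAutRuFive.Eng
import Cfsg.Agent.H904.SylOne

/-!
# A subgroup `3^(1+2) : 4` of the Rudvalis group (helper663, row `Ru` of S3876)

`a`, `b`, `c`, `g` : `a³ = 1`, `c` central in `⟨a, b⟩`, `g a g⁻¹ = b`, `g b g⁻¹ = a⁻¹`; `|C(⟨a, b⟩)| ≤ 9`.
-/

set_option autoImplicit false
set_option maxRecDepth 100000
set_option exponentiation.threshold 5000

namespace Cfsg.Agent.H663.PiBSRu

open Subgroup Cfsg Cfsg.Agent.SporadicB Cfsg.Agent.RuD.Letters Cfsg.Agent.SporRec.TCUpperCert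
open Cfsg.Agent.KFacts.Ru Cfsg.Agent.KFacts.Ru.CentEng Cfsg.Agent.CpAutRuFive.Eng

def wA : List ℕ := [0, 3, 4, 5, 0, 6, 3, 1, 7, 4, 5, 7, 5, 0, 8, 1, 2, 1]
def wB : List ℕ := [0, 5, 0, 4, 6, 3, 5, 7, 1, 2, 1, 3, 5, 3, 6, 4, 7, 5, 1]
def wC : List ℕ := [0, 4]
def wG : List ℕ := [1, 2, 3, 6, 3, 5, 3, 3, 5, 7, 1, 3, 1, 3, 5, 7, 6, 7, 2]

/-- the certificate: images and intersections of rows -/
def stR : List (ℕ × Stp) := [
  (694, .im 1 0),
  (2754, .im 0 1),
  (3898, .im 1 1),
  (1631, .im 0 2),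
  (3826, .im 1 2),
  (2458, .im 0 3),
  (3402, .im 1 5),
  (1189, .im 1 6),
  (704, .cap [(true, 0), (true, 1), (true, 2), (true, 3), (false, 4), (true, 5), (false, 6), (false, 7), (true, 8)]),
  (2045, .im 0 9),
  (3638, .im 1 9),
  (2292, .im 0 10),
  (0, .cap [(false, 1), (true, 3), (true, 4), (true, 5), (false, 6), (false, 7), (true, 8), (true, 9), (false, 10), (true, 11)]),
  (879, .im 0 13),
  (3708, .im 1 13)]

theorem chkCellR : chkC [wA, wB] [(true, 0), (false, 1)] 21 9 = true := by decide +kernel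

theorem chkBaseR : chkB [wA, wB] 21 stR [0, 5, 3, 4, 5, 3, 1, 3, 5, 1, 7, 5, 0, 4, 3, 5, 3] = true := by decide +kernel

theorem card_R : Nat.card (Cen [wA, wB]) ≤ 9 := card_le_of chkCellR chkBaseR

theorem relA : chkEq (wA ++ (wA ++ wA)) [] = true := by decide +kernel
theorem relC : chkEq (wC ++ (wC ++ wC)) [] = true := by decide +kernel
theorem relGA : chkEq (wG ++ wA) (wB ++ wG) = true := by decide +kernel
theorem relGB : chkEq (wA ++ (wG ++ wB)) wG = true := by decide +kernel
theorem relAB : chkEq (wA ++ wB) (wC ++ (wB ++ wA)) = true := by decide +kernel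
theorem relAC : chkEq (wA ++ wC) (wC ++ wA) = true := by decide +kernel
theorem relBC : chkEq (wB ++ wC) (wC ++ wB) = true := by decide +kernel
theorem neC : Nat.beq (evalK wC 1) 1 = false := by decide +kernel

/-! ### the 7-local data -/

/-- a letter of order 7 -/
def wF : List ℕ := [3]

/-- points adjacent to their image under `wF` -/
def MF : ℕ := 0xc3c2cbe4434c600d108215e4c1ae444ce89735d60b2cdc1e424191335c05bf0206608aa28c09f0151ad90276ca63785937dc828f969e00d7db115e840c2e7359bf6da10c4b807cb801a6776eb910d3ea08ef016600ea1a60fc89f6b324252511506dca8ecf490718cdb8e8c160a7b2d682ab476f8cb24172c139168661f0303148a0415ce0f1400d76b64e4fb843223498e77328961f26e8074758149176111ca30941aaac582fc999d404051f5519e381df4088794384a054420e135c857549c77cf8922e6c8b2606646586941d82977c846a2732d022e18e1d07e26c58174da4dda55a8d8a5b4aae615d64ea241dcd1e0fb497a8a4eea42287626cb96f683c18284bc15119c8d41ac3c34e31890126765cc2cd59278ca251dc056cf231d2564380492ada0a112540550dc59e0e8ae2d64b28a89e5f808e7f3e3850cf0ecd7cd967a86167254c543280f01104a63b2509c650daa7dafcbd8634ca6ac6408bea162f9dc391df29991cd4255b8f8b2c815007179c1d0754bbb9414a5306e5cafb3dab80e654240cf4054942033586cb8e38df6df4ccd452919444c4e629c0fb3732e5eaf1eb940f443be3532135776025610b8b8f64014310402c842761b801b04002b411e9f51e5c5ce409427cd4893a534070ac20390d4b5fd24a41dbfa340799e383233d1578c44fe140443d9b4c33d909b70e4ca57470d59596b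

/-- instructions -/
def insF : List St := [
  .cnt 0 828, .base 0 192, .and 5 1, .diff 0 1, .diff 0 4, .diff 0 6, .pt 0 458, .and 0 4, .and 0 11,
  .and 0 11, .and 0 15, .diff 0 7, .diff 0 18, .and 0 21, .diff 0 8, .diff 0 19, .pt 0 32, .and 13 0,
  .and 0 2, .and 0 4, .and 0 28, .and 0 20, .and 0 9, .pt 0 10, .and 22 2, .and 0 37, .and 0 28, .and 0 18,
  .pt 0 0]

theorem adjF : chkAdj wF MF = true := by decide +kernel
theorem runF : run wF insF [MF] = some 28 := by decide +kernel

theorem card_F : Nat.card (Cen [wF]) ≤ 28 := by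
  refine card_le_of_run (w := wF) (List.mem_singleton.2 rfl) ?_ runF
  intro m hm
  rw [List.mem_singleton] at hm
  subst hm
  exact ⟨wF, fun x hx => hx _ (List.mem_singleton.2 rfl), adjF⟩


theorem relF7 : chkEq [3, 3, 3, 3, 3, 3, 3] [] = true := by decide +kernel
theorem neF : Nat.beq (evalK [3] 1) 1 = false := by decide +kernel
theorem relW2 : chkEq [2, 2] [] = true := by decide +kernel
theorem relWF : chkEq [2, 3, 2] [7] = true := by decide +kernel

theorem finite_H : Finite RuOrder.H := by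
  have : Finite (Equiv.Perm (Fin 4060)) := inferInstance
  infer_instance

theorem ne_one_of_evalK {w : List ℕ} (h : Nat.beq (evalK w 1) 1 = false) : (wprod ml w : RuOrder.H) ≠ 1 := by
  intro h1
  have h2 := evalK_eq w ⟨1, by norm_num⟩
  rw [h1] at h2
  have h3 : evalK w 1 = 1 := h2.symm
  rw [h3] at h
  exact absurd h (by decide)

theorem F7 : (F : RuOrder.H) ^ 7 = 1 := by
  have h := eq_of_chkEq relF7
  simp only [wprod, lv, ml, List.map_cons, List.map_nil, List.prod_cons, List.prod_nil, mul_one,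
    List.getD_cons_zero, List.getD_cons_succ] at h
  rw [← h]
  simp only [pow_succ, pow_zero, one_mul, mul_assoc]

theorem F_ne : (F : RuOrder.H) ≠ 1 := by
  have h := ne_one_of_evalK neF
  rwa [show (wprod ml [3] : RuOrder.H) = F from mul_one F] at h

theorem W2 : (W : RuOrder.H) * W = 1 := by
  have h := eq_of_chkEq relW2
  simpa only [wprod, lv, ml, List.map_cons, List.map_nil, List.prod_cons, List.prod_nil, mul_one,
    List.getD_cons_zero, List.getD_cons_succ] using h

theorem WFW : (W : RuOrder.H) * F * W = F⁻¹ := by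
  have h := eq_of_chkEq relWF
  simp only [wprod, lv, ml, List.map_cons, List.map_nil, List.prod_cons, List.prod_nil, mul_one,
    List.getD_cons_zero, List.getD_cons_succ] at h
  rw [mul_assoc]
  exact h

/-- **7-local data** -/
theorem seven_H {R : Subgroup RuOrder.H} (hR : Nat.card R = 7) :
    Nat.card (centralizer (R : Set RuOrder.H)) = 28 ∧ Nat.card (normalizer (R : Set RuOrder.H)) = 168 := by
  have := finite_H
  have hF7 : Fact (Nat.Prime 7) := ⟨by norm_num⟩
  have hoF : orderOf (F : RuOrder.H) = 7 := orderOf_eq_prime F7 F_ne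
  have hp2 : ¬ 7 ^ 2 ∣ Nat.card RuOrder.H := by rw [RuOrder.card_H]; norm_num
  obtain ⟨K, e, s, he, hc, hT, hs, hall⟩ := H904.SylOne.main hp2 hoF
  have h28 : Nat.card (centralizer ({F} : Set RuOrder.H)) ≤ 28 := by
    have h1 := card_F
    have h2 : centralizer ({F} : Set RuOrder.H) = Cen [wF] := by
      ext x
      rw [mem_centralizer_singleton_iff, mem_Cen]
      simp only [wF, List.mem_singleton, forall_eq]
      rw [show (wprod ml [3] : RuOrder.H) = F from mul_one F]
    rwa [h2]
  -- `e` is even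
  have he2 : 2 ∣ e := by
    by_contra hodd
    obtain ⟨h1, h2⟩ := hall (zpowers F) (by rw [Nat.card_zpowers, hoF])
    have hWn : (W : RuOrder.H) ∈ normalizer ((zpowers F : Subgroup RuOrder.H) : Set RuOrder.H) := by
      have hWi : (W : RuOrder.H)⁻¹ = W := inv_eq_of_mul_eq_one_right W2
      have hcl : ∀ n ∈ zpowers (F : RuOrder.H), W * n * (W : RuOrder.H)⁻¹ ∈ zpowers (F : RuOrder.H) := by
        intro n hn
        obtain ⟨k, rfl⟩ := mem_zpowers_iff.1 hn
        have e1 : W * F ^ k * (W : RuOrder.H)⁻¹ = (W * F * (W : RuOrder.H)⁻¹) ^ k := by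
          exact (map_zpow (MulAut.conj W) F k)
        rw [e1, hWi, WFW]
        exact zpow_mem (inv_mem (mem_zpowers _)) _
      exact mem_normalizer_fintype hcl
    have hle : centralizer ((zpowers F : Subgroup RuOrder.H) : Set RuOrder.H) ≤ normalizer ((zpowers F : Subgroup RuOrder.H) : Set RuOrder.H) :=
      centralizer_le_normalizer _
    have hnorm : ((centralizer ((zpowers F : Subgroup RuOrder.H) : Set RuOrder.H)).subgroupOf
        (normalizer ((zpowers F : Subgroup RuOrder.H) : Set RuOrder.H))).Normal := by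
      rw [← normalizerMonoidHom_ker]
      infer_instance
    have hidx : ((centralizer ((zpowers F : Subgroup RuOrder.H) : Set RuOrder.H)).subgroupOf
        (normalizer ((zpowers F : Subgroup RuOrder.H) : Set RuOrder.H))).index = e := by
      have h3 := index_mul_card ((centralizer ((zpowers F : Subgroup RuOrder.H) : Set RuOrder.H)).subgroupOf
        (normalizer ((zpowers F : Subgroup RuOrder.H) : Set RuOrder.H)))
      rw [Nat.card_congr (subgroupOfEquivOfLe hle).toEquiv, h1, h2] at h3
      have h4 : 0 < 7 * K := by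
        rw [← h1]; exact Nat.card_pos
      exact Nat.eq_of_mul_eq_mul_right h4 (by rw [h3]; ring)
    have h5 := pow_index_mem ((centralizer ((zpowers F : Subgroup RuOrder.H) : Set RuOrder.H)).subgroupOf
        (normalizer ((zpowers F : Subgroup RuOrder.H) : Set RuOrder.H))) ⟨W, hWn⟩
    rw [hidx, mem_subgroupOf] at h5
    change (W : RuOrder.H) ^ e ∈ _ at h5
    obtain ⟨k, hk⟩ : Odd e := by
      rwa [← Nat.not_even_iff_odd, even_iff_two_dvd]
    have h6 : (W : RuOrder.H) ^ e = W := by
      rw [hk, pow_succ, pow_mul, pow_two, W2, one_pow, one_mul]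
    rw [h6, H904.SylOne.centralizer_zpowers_eq, mem_centralizer_singleton_iff] at h5
    have h7 := WFW
    rw [h5, mul_assoc, W2, mul_one] at h7
    have h8 : (F : RuOrder.H) ^ 2 = 1 := by
      rw [pow_two]
      nth_rewrite 2 [h7]
      exact mul_inv_cancel _
    have h9 : orderOf (F : RuOrder.H) ∣ 2 := orderOf_dvd_of_pow_eq_one h8
    rw [hoF] at h9
    norm_num at h9
  rw [RuOrder.card_H] at hT
  rw [hc] at h28
  have hK4 : K ≤ 4 := by omega
  have he6 : e = 2 ∨ e = 6 := by
    have h1 := Nat.le_of_dvd (by norm_num) he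
    interval_cases e <;> simp_all
  have hK : K = 4 ∧ e = 6 := by
    have hs' : s % 7 = 1 := hs
    rcases he6 with rfl | rfl
    · interval_cases K <;> omega
    · interval_cases K <;> omega
  obtain ⟨h1, h2⟩ := hall R hR
  rw [h1, h2, hK.1, hK.2]
  exact ⟨rfl, rfl⟩

/-! ### the 3-local data -/

/-- **3-local data** -/
theorem three_H : ∃ a b c g : RuOrder.H, a ^ 3 = 1 ∧ c ^ 3 = 1 ∧ c ≠ 1 ∧ g * a * g⁻¹ = b ∧ g * b * g⁻¹ = a⁻¹ ∧
    a * b = c * (b * a) ∧ a * c = c * a ∧ b * c = c * b ∧ Nat.card (centralizer ({a, b} : Set RuOrder.H)) ≤ 9 := by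
  have h1 := eq_of_chkEq relA
  have h2 := eq_of_chkEq relC
  have h3 := eq_of_chkEq relGA
  have h4 := eq_of_chkEq relGB
  have h5 := eq_of_chkEq relAB
  have h6 := eq_of_chkEq relAC
  have h7 := eq_of_chkEq relBC
  simp only [wprod_append, wprod_nil] at h1 h2 h3 h4 h5 h6 h7
  refine ⟨wprod ml wA, wprod ml wB, wprod ml wC, wprod ml wG, ?_, ?_, ne_one_of_evalK neC, ?_, ?_, h5, h6, h7, ?_⟩
  · rw [pow_succ', pow_two]; exact h1
  · rw [pow_succ', pow_two]; exact h2
  · rw [h3, mul_inv_cancel_right]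
  · calc wprod ml wG * wprod ml wB * (wprod ml wG)⁻¹ = (wprod ml wA)⁻¹ * (wprod ml wA * (wprod ml wG * wprod ml wB)) *
          (wprod ml wG)⁻¹ := by group
      _ = _ := by rw [h4]; group
  · refine le_trans (Nat.le_of_eq ?_) card_R
    have : centralizer ({wprod ml wA, wprod ml wB} : Set RuOrder.H) = Cen [wA, wB] := by
      ext x
      rw [mem_centralizer_iff, mem_Cen]
      constructor
      · intro hx w hw
        rw [List.mem_cons, List.mem_singleton] at hw
        rcases hw with rfl | rfl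
        · exact (hx _ (by simp)).symm
        · exact (hx _ (by simp)).symm
      · intro hx y hy
        rcases hy with rfl | rfl
        · exact (hx wA (by simp)).symm
        · exact (hx wB (by simp)).symm
    rw [this]

end Cfsg.Agent.H663.PiBSRu
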