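import Cfsg.Agent.H663.PiBSRuG
import Cfsg.Agent.H663.PiBSRuT
import Cfsg.Agent.H663.PiBSRuW

/-!
# The row `Ru` of S3876 (helper663)

`row_ru` : if `2, 3 ∈ π` and `Ru` satisfies the Sylow theorem for `π` (`DC π`), then `Ru` is a π-group.
-/

set_option autoImplicit false
set_option maxRecDepth 100000

namespace Cfsg.Agent.H663.PiBSRu

open Subgroup Cfsg Cfsg.Agent.H543.PiBS

section steps

variable {S : Type*} [Group S] [Finite S] {a b c g : S}

/-- `c` lies in every subgroup `Y` of order `2^14 · 21` of a subgroup `H ∋ a, b, g` of order `2^14 · 189` -/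
theorem c_mem_of (hs : Hs a b c g) (h81 : ¬ 3 ^ 4 ∣ Nat.card S) {H Y : Subgroup S} (hYH : Y ≤ H)
    (cH : Nat.card H = 2 ^ 14 * 189) (cY : Nat.card Y = 2 ^ 14 * 21) (ha : a ∈ H) (hb : b ∈ H) (hg : g ∈ H) : c ∈ Y := by
  have hR := hs.card_eq h81
  obtain ⟨R, hRdef⟩ : ∃ R : Subgroup S, R = closure {a, b} := ⟨_, rfl⟩
  rw [← hRdef] at hR
  have cl : ∀ x, x ∈ R → x ∈ closure ({a, b} : Set S) := fun x hx => by rw [← hRdef]; exact hx
  have hRH : R ≤ H := by
    rw [hRdef, closure_le]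
    rintro x (rfl | rfl)
    · exact ha
    · exact hb
  -- `|R ∩ Y| = 3`
  have hi : Y.relIndex H = 9 := by
    have h1 := (Y.subgroupOf H).index_mul_card
    rw [Nat.card_congr (subgroupOfEquivOfLe hYH).toEquiv, cH, cY] at h1
    have h2 : (Y.subgroupOf H).index * (2 ^ 14 * 21) = 9 * (2 ^ 14 * 21) := by rw [h1]; norm_num
    exact Nat.eq_of_mul_eq_mul_right (by norm_num) h2
  have hle : Y.relIndex R ≤ 9 := by
    rw [← hi]
    exact relIndex_le_of_le_right hRH (by rw [hi]; norm_num)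
  have hU : Y.relIndex R * Nat.card (R ⊓ Y : Subgroup S) = 27 := by
    have h1 := (Y.subgroupOf R).index_mul_card
    have h2 : Nat.card (Y.subgroupOf R) = Nat.card (R ⊓ Y : Subgroup S) := by
      rw [← inf_subgroupOf_left]
      exact Nat.card_congr (subgroupOfEquivOfLe inf_le_left).toEquiv
    rw [h2, hR] at h1
    exact h1
  have hU3 : Nat.card (R ⊓ Y : Subgroup S) = 3 ∧ Y.relIndex R = 9 := by
    have h1 : Nat.card (R ⊓ Y : Subgroup S) ∣ 2 ^ 14 * 21 := cY ▸ card_dvd_of_le inf_le_right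
    have h2 : Nat.card (R ⊓ Y : Subgroup S) ∣ 27 := hR ▸ card_dvd_of_le inf_le_left
    have h3 : Nat.card (R ⊓ Y : Subgroup S) ∣ 3 := by
      have := Nat.dvd_gcd h1 h2
      exact this
    rcases (Nat.dvd_prime Nat.prime_three).1 h3 with h4 | h4
    · rw [h4] at hU; omega
    · exact ⟨h4, by rw [h4] at hU; omega⟩
  -- `g = r y`
  obtain ⟨r, hr, y, hy, hgr⟩ : ∃ r ∈ R, ∃ y ∈ Y, g = r * y := by
    have hst : ∀ A : Subgroup S, MulAction.stabilizer A ((1 : S) : S ⧸ Y) = Y.subgroupOf A := by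
      intro A
      ext u
      rw [MulAction.mem_stabilizer_iff, mem_subgroupOf]
      show (((u : S) * 1 : S) : S ⧸ Y) = ((1 : S) : S ⧸ Y) ↔ _
      rw [mul_one, eq_comm, QuotientGroup.eq]
      simp
    have hcard : ∀ A : Subgroup S, (MulAction.orbit A ((1 : S) : S ⧸ Y)).ncard = Y.relIndex A := by
      intro A
      rw [← MulAction.index_stabilizer, hst]
      rfl
    have hsub : MulAction.orbit R ((1 : S) : S ⧸ Y) ⊆ MulAction.orbit H ((1 : S) : S ⧸ Y) := by
      rintro _ ⟨u, rfl⟩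
      exact ⟨⟨u, hRH u.2⟩, rfl⟩
    have heq : MulAction.orbit R ((1 : S) : S ⧸ Y) = MulAction.orbit H ((1 : S) : S ⧸ Y) := by
      apply Set.eq_of_subset_of_ncard_le hsub
      rw [hcard, hcard, hU3.2, hi]
    have hg' : ((g : S) : S ⧸ Y) ∈ MulAction.orbit H ((1 : S) : S ⧸ Y) :=
      ⟨⟨g, hg⟩, by show ((g * 1 : S) : S ⧸ Y) = _; rw [mul_one]⟩
    rw [← heq] at hg'
    obtain ⟨u, hu⟩ := hg'
    have hu' : (((u : S) * 1 : S) : S ⧸ Y) = (g : S ⧸ Y) := hu
    rw [mul_one, QuotientGroup.eq] at hu'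
    exact ⟨u, u.2, _, hu', by group⟩
  -- a generator of `R ∩ Y`
  have : Fact (Nat.Prime 3) := ⟨Nat.prime_three⟩
  obtain ⟨u, hu⟩ := exists_prime_orderOf_dvd_card' (G := (R ⊓ Y : Subgroup S)) 3 (by rw [hU3.1])
  have huo : orderOf (u : S) = 3 := by rw [Subgroup.orderOf_coe, hu]
  have hu3 : (u : S) ^ 3 = 1 := by rw [← huo]; exact pow_orderOf_eq_one _
  have huR : (u : S) ∈ R := u.2.1
  have hzu : zpowers (u : S) = R ⊓ Y := by
    apply eq_of_le_of_card_ge (zpowers_le.2 u.2)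
    rw [Nat.card_zpowers, huo, hU3.1]
  -- `y` normalises it
  have hyR : ∀ x ∈ R, y * x * y⁻¹ ∈ R := by
    intro x hx
    have e1 : y = r⁻¹ * g := by rw [hgr]; group
    rw [e1]
    have h1 : g * x * g⁻¹ ∈ R := by
      rw [hRdef] at hx ⊢
      exact hs.g_norm hx
    have e2 : r⁻¹ * g * x * (r⁻¹ * g)⁻¹ = r⁻¹ * (g * x * g⁻¹) * r := by group
    rw [e2]
    exact mul_mem (mul_mem (inv_mem hr) h1) hr
  have hyu : y * (u : S) * y⁻¹ ∈ zpowers (u : S) := by
    rw [hzu]
    exact mem_inf.2 ⟨hyR _ huR, Y.mul_mem (Y.mul_mem hy u.2.2) (Y.inv_mem hy)⟩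
  have hsq := sq_comm hu3 hyu
  -- `y² = r' g²`
  obtain ⟨k, hk⟩ := hs.theta (cl _ huR)
  have hgr' : g * r⁻¹ * g⁻¹ ∈ R := by
    have := hr
    rw [hRdef] at this ⊢
    exact hs.g_norm (inv_mem this)
  have hr' : r⁻¹ * (g * r⁻¹ * g⁻¹) ∈ R := mul_mem (inv_mem hr) hgr'
  obtain ⟨m, hm⟩ := hs.comm (cl _ hr') (cl _ (R.inv_mem huR))
  have hcc : Commute (r⁻¹ * (g * r⁻¹ * g⁻¹)) (c ^ k) := (hs.cent (cl _ hr')).zpow_right k
  have h1 : (u : S) = c ^ (k + m) * (u : S)⁻¹ := by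
    have e1 : y = r⁻¹ * g := by rw [hgr]; group
    calc (u : S) = y * (y * (u : S) * y⁻¹) * y⁻¹ := hsq.symm
      _ = (r⁻¹ * (g * r⁻¹ * g⁻¹)) * (g * (g * (u : S) * g⁻¹) * g⁻¹) * (r⁻¹ * (g * r⁻¹ * g⁻¹))⁻¹ := by
          rw [e1]; simp only [mul_inv_rev, inv_inv, mul_assoc, inv_mul_cancel_left]
      _ = ((r⁻¹ * (g * r⁻¹ * g⁻¹)) * c ^ k) * (u : S)⁻¹ * (r⁻¹ * (g * r⁻¹ * g⁻¹))⁻¹ := by rw [hk]; group
      _ = c ^ k * ((r⁻¹ * (g * r⁻¹ * g⁻¹)) * (u : S)⁻¹) * (r⁻¹ * (g * r⁻¹ * g⁻¹))⁻¹ := by rw [hcc.eq]; group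
      _ = c ^ k * (c ^ m * ((u : S)⁻¹ * (r⁻¹ * (g * r⁻¹ * g⁻¹)))) * (r⁻¹ * (g * r⁻¹ * g⁻¹))⁻¹ := by rw [hm]
      _ = c ^ (k + m) * (u : S)⁻¹ := by rw [zpow_add]; group
  have h2 : (u : S) ^ 2 ∈ zpowers c := by
    rw [pow_two]
    nth_rewrite 1 [h1]
    rw [inv_mul_cancel_right]
    exact zpow_mem (mem_zpowers c) _
  have h3 : (u : S) ∈ zpowers c := by
    have e1 : (u : S) = ((u : S) ^ 2) ^ 2 := by
      rw [← pow_mul, show 2 * 2 = 3 + 1 from rfl, pow_succ, hu3, one_mul]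
    rw [e1]
    exact pow_mem h2 2
  have hco : orderOf c = 3 := orderOf_eq_prime hs.c3 hs.c1
  have h4 : zpowers (u : S) = zpowers c := by
    apply eq_of_le_of_card_ge (zpowers_le.2 h3)
    rw [Nat.card_zpowers, Nat.card_zpowers, hco, huo]
  have h5 : c ∈ R ⊓ Y := by
    rw [← hzu, h4]
    exact mem_zpowers c
  exact h5.2

/-- the normalizer in a subgroup -/
theorem card_norm_dvd {H : Subgroup S} (X : Subgroup H) :
    Nat.card (normalizer (X : Set H)) ∣ Nat.card (normalizer ((X.map H.subtype : Subgroup S) : Set S)) := by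
  rw [Nat.card_congr ((normalizer (X : Set H)).equivMapOfInjective H.subtype H.subtype_injective).toEquiv]
  apply card_dvd_of_le
  rintro _ ⟨e, he, rfl⟩
  refine mem_normalizer_fintype ?_
  rintro _ ⟨x, hx, rfl⟩
  exact ⟨e * x * e⁻¹, (mem_normalizer_iff.1 he x).1 hx, rfl⟩

/-- **the case `|H| = 2^14 · 3^3 · 7`** -/
theorem last_step (hs : Hs a b c g) (h81 : ¬ 3 ^ 4 ∣ Nat.card S)
    (seven : ∀ R : Subgroup S, Nat.card R = 7 → Nat.card (centralizer (R : Set S)) = 28 ∧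
      Nat.card (normalizer (R : Set S)) = 168) {H Y : Subgroup S} (hYH : Y ≤ H)
    (cH : Nat.card H = 2 ^ 14 * 189) (cY : Nat.card Y = 2 ^ 14 * 21) (ha : a ∈ H) (hb : b ∈ H) (hg : g ∈ H) : False := by
  have : Fact (Nat.Prime 3) := ⟨Nat.prime_three⟩
  have : Fact (Nat.Prime 7) := ⟨by norm_num⟩
  obtain ⟨K, hK⟩ : ∃ K : Subgroup H, K = (Y.subgroupOf H).normalCore := ⟨_, rfl⟩
  have hKn : K.Normal := by rw [hK]; infer_instance
  have hKle : K ≤ Y.subgroupOf H := by rw [hK]; exact normalCore_le _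
  have hKc : Nat.card K ∣ 2 ^ 14 * 21 := by
    have h1 := card_dvd_of_le hKle
    rwa [Nat.card_congr (subgroupOfEquivOfLe hYH).toEquiv, cY] at h1
  have hcY : c ∈ Y := c_mem_of hs h81 hYH cH cY ha hb hg
  have hcK : (⟨c, hYH hcY⟩ : H) ∈ K := by
    rw [hK]
    intro h
    rw [mem_subgroupOf]
    have hY' : Y.map (MulAut.conj ((h : S)⁻¹)).toMonoidHom ≤ H := by
      rintro _ ⟨y, hy, rfl⟩
      change (h : S)⁻¹ * y * ((h : S)⁻¹)⁻¹ ∈ H
      exact H.mul_mem (H.mul_mem (H.inv_mem h.2) (hYH hy)) (H.inv_mem (H.inv_mem h.2))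
    obtain ⟨y, hy, hyc⟩ := c_mem_of hs h81 hY' cH (by rw [card_map_conj, cY]) ha hb hg
    have h1 : (h : S)⁻¹ * y * ((h : S)⁻¹)⁻¹ = c := hyc
    change (h : S) * c * (h : S)⁻¹ ∈ Y
    rw [← h1]
    have e1 : (h : S) * ((h : S)⁻¹ * y * ((h : S)⁻¹)⁻¹) * (h : S)⁻¹ = y := by group
    rw [e1]
    exact hy
  have hco : orderOf c = 3 := orderOf_eq_prime hs.c3 hs.c1
  have h3K : 3 ∣ Nat.card K := by
    have h1 := Subgroup.orderOf_dvd_natCard K hcK
    rwa [Subgroup.orderOf_mk, hco] at h1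
  -- `7 ∣ |K|`
  have h7K : 7 ∣ Nat.card K := by
    by_contra h7
    obtain ⟨P⟩ : Nonempty (Sylow 3 K) := inferInstance
    have hP3 : 3 ∣ Nat.card P := by
      have := P.pow_dvd_card_of_pow_dvd_card (n := 1) (by rwa [pow_one])
      rwa [pow_one] at this
    have hPc : Nat.card P = 3 := by
      obtain ⟨n, hn⟩ := IsPGroup.iff_card.1 P.2
      have hd : (3 : ℕ) ^ n ∣ 2 ^ 14 * 21 := hn ▸ (card_subgroup_dvd_card (P : Subgroup K)).trans hKc
      have hn1 : n < 2 := by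
        by_contra hcon
        have h1 : (3 : ℕ) ^ 2 ∣ 2 ^ 14 * 21 := (pow_dvd_pow 3 (not_lt.1 hcon)).trans hd
        norm_num at h1
      interval_cases n
      · rw [hn] at hP3; norm_num at hP3
      · rw [hn]; norm_num
    obtain ⟨X, hX⟩ : ∃ X : Subgroup H, X = map K.subtype (P : Subgroup K) := ⟨_, rfl⟩
    have hXc : Nat.card X = 3 := by
      rw [hX, ← Nat.card_congr ((P : Subgroup K).equivMapOfInjective _ K.subtype_injective).toEquiv, hPc]
    have hfr := card_frattini P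
    rw [← hX, cH] at hfr
    have h7N : 7 ∣ Nat.card (normalizer (X : Set H)) := by
      have h1 : 7 ∣ Nat.card (normalizer (X : Set H)) * Nat.card K := (by norm_num : 7 ∣ 2 ^ 14 * 189).trans hfr
      rcases (Nat.Prime.dvd_mul (by norm_num)).1 h1 with h2 | h2
      · exact h2
      · exact absurd h2 h7
    obtain ⟨e, he⟩ := exists_prime_orderOf_dvd_card' 7 h7N
    have he' : orderOf ((e : H) : S) = 7 := by rw [Subgroup.orderOf_coe, Subgroup.orderOf_coe, he]
    obtain ⟨x, hx⟩ := exists_prime_orderOf_dvd_card' (G := X) 3 (by rw [hXc])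
    have hx' : orderOf (((x : X) : H) : S) = 3 := by rw [Subgroup.orderOf_coe, Subgroup.orderOf_coe, hx]
    have hzx : zpowers ((x : X) : H) = X := by
      apply eq_of_le_of_card_ge (zpowers_le.2 x.2)
      rw [Nat.card_zpowers, Subgroup.orderOf_coe, hx, hXc]
    have hconj : (e : H) * (x : H) * (e : H)⁻¹ ∈ zpowers (x : H) := by
      rw [hzx]
      exact (mem_normalizer_iff.1 e.2 _).1 x.2
    have hx3 : (x : H) ^ 3 = 1 := by
      rw [← show orderOf (x : H) = 3 by rw [Subgroup.orderOf_coe, hx]]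
      exact pow_orderOf_eq_one _
    have hsq := sq_comm hx3 hconj
    have hcomm2 : Commute ((e : H) ^ 2) (x : H) := by
      rw [pow_two]
      calc (e : H) * (e : H) * (x : H) = ((e : H) * ((e : H) * (x : H) * (e : H)⁻¹) * (e : H)⁻¹) * ((e : H) * (e : H)) := by group
        _ = _ := by rw [hsq]
    have hcomm : Commute (e : H) (x : H) := by
      have h1 : (e : H) = ((e : H) ^ 2) ^ 4 := by
        have h2 : (e : H) ^ 7 = 1 := by
          rw [← show orderOf (e : H) = 7 by rw [Subgroup.orderOf_coe, he]]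
          exact pow_orderOf_eq_one _
        rw [← pow_mul, show 2 * 4 = 7 + 1 from rfl, pow_succ, h2, one_mul]
      rw [h1]
      exact hcomm2.pow_left 4
    -- an element of order 3 in `C(e)`
    have h28 := (seven (zpowers ((e : H) : S)) (by rw [Nat.card_zpowers, he'])).1
    have hmem : ((x : H) : S) ∈ centralizer ((zpowers ((e : H) : S) : Subgroup S) : Set S) := by
      rw [mem_centralizer_iff]
      intro y hy
      obtain ⟨k, rfl⟩ := mem_zpowers_iff.1 hy
      have h1 : Commute ((e : H) : S) ((x : H) : S) := congrArg Subtype.val hcomm.eq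
      exact (h1.zpow_left k).eq
    have h1 := Subgroup.orderOf_dvd_natCard _ hmem
    rw [hx', h28] at h1
    norm_num at h1
  -- the Sylow 7-subgroup
  obtain ⟨P⟩ : Nonempty (Sylow 7 K) := inferInstance
  have hP7 : 7 ∣ Nat.card P := by
    have := P.pow_dvd_card_of_pow_dvd_card (n := 1) (by rwa [pow_one])
    rwa [pow_one] at this
  have hPc : Nat.card P = 7 := by
    obtain ⟨n, hn⟩ := IsPGroup.iff_card.1 P.2
    have hd : (7 : ℕ) ^ n ∣ 2 ^ 14 * 21 := hn ▸ (card_subgroup_dvd_card (P : Subgroup K)).trans hKc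
    have hn1 : n < 2 := by
      by_contra hcon
      have h1 : (7 : ℕ) ^ 2 ∣ 2 ^ 14 * 21 := (pow_dvd_pow 7 (not_lt.1 hcon)).trans hd
      norm_num at h1
    interval_cases n
    · rw [hn] at hP7; norm_num at hP7
    · rw [hn]; norm_num
  obtain ⟨X, hX⟩ : ∃ X : Subgroup H, X = map K.subtype (P : Subgroup K) := ⟨_, rfl⟩
  have hXc : Nat.card X = 7 := by
    rw [hX, ← Nat.card_congr ((P : Subgroup K).equivMapOfInjective _ K.subtype_injective).toEquiv, hPc]
  have hfr := card_frattini P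
  rw [← hX, cH] at hfr
  have hN := card_norm_dvd X
  rw [(seven _ (by rw [← Nat.card_congr (X.equivMapOfInjective _ H.subtype_injective).toEquiv, hXc])).2] at hN
  have h27 : 27 ∣ 168 * (2 ^ 14 * 21) := ((by norm_num : 27 ∣ 2 ^ 14 * 189).trans hfr).trans (Nat.mul_dvd_mul hN hKc)
  norm_num at h27

omit [Group S] [Finite S] in
theorem num_fix {p z k m : ℕ} (hp : p = 5 ∨ p = 13 ∨ p = 29) (hz3 : 3 ∣ z) (hz9 : z ≤ 9) (hz : z ∣ 27) (hk : k ∣ z) (hkm : k ∣ m)
    (hm : m ∣ 27) (h1 : z % p = k % p) (h2 : 27 % p = m % p) : m = 27 := by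
  have hdiv : ∀ t : ℕ, t ∣ 27 → t = 1 ∨ t = 3 ∨ t = 9 ∨ t = 27 := by
    intro t ht
    have h3 : t ∈ Nat.divisors 27 := Nat.mem_divisors.2 ⟨ht, by norm_num⟩
    rw [show Nat.divisors 27 = {1, 3, 9, 27} by decide] at h3
    simpa only [Finset.mem_insert, Finset.mem_singleton] using h3
  have hz' := hdiv z hz
  have hk' := hdiv k (hk.trans hz)
  have hm' := hdiv m hm
  rcases hp with rfl | rfl | rfl
  · rcases hm' with rfl | rfl | rfl | rfl <;> first | rfl | (exfalso; revert h2; decide)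
  · rcases hm' with rfl | rfl | rfl | rfl
    · exfalso
      have hk1 : k = 1 := Nat.dvd_one.1 hkm
      subst hk1
      rcases hz' with rfl | rfl | rfl | rfl
      · omega
      · revert h1; decide
      · revert h1; decide
      · omega
    · exfalso; revert h2; decide
    · exfalso; revert h2; decide
    · rfl
  · rcases hm' with rfl | rfl | rfl | rfl <;> first | rfl | (exfalso; revert h2; decide)

/-- `N(⟨a, b⟩)` has no elements of order 5, 13 and 29 -/
theorem norm_three (hs : Hs a b c g) (h81 : ¬ 3 ^ 4 ∣ Nat.card S)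
    (h9 : Nat.card (centralizer ({a, b} : Set S)) ≤ 9) {p : ℕ} (hp : p = 5 ∨ p = 13 ∨ p = 29) :
    ¬ p ∣ Nat.card (normalizer ((closure ({a, b} : Set S) : Subgroup S) : Set S)) := by
  intro hd
  have hpp : Fact p.Prime := ⟨by rcases hp with rfl | rfl | rfl <;> norm_num⟩
  have h3 : Fact (Nat.Prime 3) := ⟨Nat.prime_three⟩
  obtain ⟨x, hx⟩ := exists_prime_orderOf_dvd_card' p hd
  have hxo : orderOf (x : S) = p := by rw [Subgroup.orderOf_coe, hx]
  have hxp : (x : S) ^ p = 1 := by rw [← hxo]; exact pow_orderOf_eq_one _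
  have hR := hs.card_eq h81
  obtain ⟨R, hRdef⟩ : ∃ R : Subgroup S, R = closure {a, b} := ⟨_, rfl⟩
  have hxR : (x : S) ∈ normalizer (R : Set S) := by rw [hRdef]; exact x.2
  have hRp : IsPGroup 3 R := by rw [hRdef]; exact hs.isPGroup
  rw [← hRdef] at hR
  -- `C_R(x) ≠ 1`
  obtain ⟨Z, hZ⟩ : ∃ Z : Subgroup S, Z = (center R).map R.subtype := ⟨_, rfl⟩
  have hZc : Nat.card Z = Nat.card (center R) := by
    rw [hZ, ← Nat.card_congr ((center R).equivMapOfInjective _ R.subtype_injective).toEquiv]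
  have hcR : c ∈ R := by rw [hRdef]; exact hs.c_mem
  have hcent : ∀ u ∈ R, Commute u c := fun u hu => hs.cent (by rw [← hRdef]; exact hu)
  have hcZ : c ∈ Z := by
    rw [hZ]
    refine ⟨⟨c, hcR⟩, ?_, rfl⟩
    rw [SetLike.mem_coe, mem_center_iff]
    intro u
    exact Subtype.ext (hcent u u.2)
  have hZ3 : 3 ∣ Nat.card Z := by
    have h1 := Subgroup.orderOf_dvd_natCard Z hcZ
    rwa [orderOf_eq_prime hs.c3 hs.c1] at h1
  have hZle : Nat.card Z ≤ 9 := by
    have h1 : Nat.card Z ∣ 27 := by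
      rw [hZc, ← hR]
      exact card_subgroup_dvd_card _
    have h2 : Nat.card Z ≠ 27 := by
      intro h
      rw [hZc, ← hR] at h
      have h3 : center R = ⊤ := eq_top_of_card_eq _ h
      have ha : a ∈ R := by rw [hRdef]; exact subset_closure (by simp)
      have hb : b ∈ R := by rw [hRdef]; exact subset_closure (by simp)
      have h4 : (⟨a, ha⟩ : R) ∈ center R := by rw [h3]; exact mem_top _
      have h5 := congrArg Subtype.val (mem_center_iff.1 h4 ⟨b, hb⟩)
      have h6 : b * a = a * b := h5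
      apply hs.c1
      have h7 := hs.ab
      rw [← h6] at h7
      exact right_eq_mul.1 h7
    have h3 : Nat.card Z ∈ Nat.divisors 27 := Nat.mem_divisors.2 ⟨h1, by norm_num⟩
    rw [show Nat.divisors 27 = {1, 3, 9, 27} by decide] at h3
    simp only [Finset.mem_insert, Finset.mem_singleton] at h3
    omega
  have hxZ : (x : S) ∈ normalizer (Z : Set S) := by
    refine mem_normalizer_fintype ?_
    intro z hz
    rw [hZ] at hz ⊢
    obtain ⟨w, hw, rfl⟩ := hz
    have h1 : (x : S) * w * (x : S)⁻¹ ∈ R := (mem_normalizer_iff.1 hxR _).1 w.2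
    refine ⟨⟨_, h1⟩, ?_, rfl⟩
    rw [SetLike.mem_coe, mem_center_iff]
    rintro ⟨v, hv⟩
    apply Subtype.ext
    change v * ((x : S) * w * (x : S)⁻¹) = (x : S) * w * (x : S)⁻¹ * v
    have h2 : (x : S)⁻¹ * v * x ∈ R := by
      have h3 := (mem_normalizer_iff.1 ((normalizer (R : Set S)).inv_mem hxR) v).1 hv
      rwa [inv_inv] at h3
    have h4 : ((x : S)⁻¹ * v * x) * (w : S) = (w : S) * ((x : S)⁻¹ * v * x) :=
      congrArg Subtype.val (mem_center_iff.1 hw ⟨_, h2⟩)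
    calc v * ((x : S) * w * (x : S)⁻¹) = (x : S) * (((x : S)⁻¹ * v * x) * (w : S)) * (x : S)⁻¹ := by group
      _ = (x : S) * ((w : S) * ((x : S)⁻¹ * v * x)) * (x : S)⁻¹ := by rw [h4]
      _ = _ := by group
  have hm1 := fix_mod hxp hxZ
  have hm2 := fix_mod hxp hxR
  have hd1 : Nat.card (Z ⊓ centralizer ({(x : S)} : Set S) : Subgroup S) ∣ Nat.card Z := card_dvd_of_le inf_le_left
  have hZR : Z ≤ R := by
    rw [hZ]
    rintro _ ⟨w, -, rfl⟩
    exact w.2
  have hd2 : Nat.card (Z ⊓ centralizer ({(x : S)} : Set S) : Subgroup S) ∣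
      Nat.card (R ⊓ centralizer ({(x : S)} : Set S) : Subgroup S) := card_dvd_of_le (inf_le_inf_right _ hZR)
  have hd3 : Nat.card (R ⊓ centralizer ({(x : S)} : Set S) : Subgroup S) ∣ 27 := by
    rw [← hR]
    exact card_dvd_of_le inf_le_left
  have hZ27 : Nat.card Z ∣ 27 := by
    rw [hZc, ← hR]
    exact card_subgroup_dvd_card _
  have hall : Nat.card (R ⊓ centralizer ({(x : S)} : Set S) : Subgroup S) = 27 := by
    rw [hR] at hm2
    exact num_fix hp hZ3 hZle hZ27 hd1 hd2 hd3 hm1 hm2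
  have hRx : R ≤ centralizer ({(x : S)} : Set S) := by
    have h1 : R ⊓ centralizer ({(x : S)} : Set S) = R := eq_of_le_of_card_ge inf_le_left (by rw [hall, hR])
    rw [← h1]
    exact inf_le_right
  have hxC : (x : S) ∈ centralizer ({a, b} : Set S) := by
    rw [mem_centralizer_iff]
    intro y hy
    have h1 : y ∈ R := by rw [hRdef]; exact subset_closure hy
    exact mem_centralizer_singleton_iff.1 (hRx h1)
  have hcC : c ∈ centralizer ({a, b} : Set S) := by
    rw [mem_centralizer_iff]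
    intro y hy
    exact (hcent y (by rw [hRdef]; exact subset_closure hy)).eq
  have h5 := Subgroup.orderOf_dvd_natCard _ hxC
  have h6 := Subgroup.orderOf_dvd_natCard _ hcC
  rw [hxo] at h5
  rw [orderOf_eq_prime hs.c3 hs.c1] at h6
  have hpos : 0 < Nat.card (centralizer ({a, b} : Set S)) := Nat.card_pos
  rcases hp with rfl | rfl | rfl <;> omega

omit [Group S] [Finite S] in
theorem primes_ru {p : ℕ} (hp : p.Prime) (hd : p ∣ 145926144000) :
    p = 2 ∨ p = 3 ∨ p = 5 ∨ p = 7 ∨ p = 13 ∨ p = 29 := by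
  rw [show 145926144000 = 2 ^ 14 * (3 ^ 3 * (5 ^ 3 * (7 * (13 * 29)))) by norm_num] at hd
  have h : ∀ q : ℕ, q.Prime → p ∣ q → p = q := fun q hq h => (Nat.prime_dvd_prime_iff_eq hp hq).1 h
  rcases hp.dvd_mul.1 hd with h1 | h1
  · exact Or.inl (h 2 Nat.prime_two (hp.dvd_of_dvd_pow h1))
  rcases hp.dvd_mul.1 h1 with h1 | h1
  · exact Or.inr (Or.inl (h 3 Nat.prime_three (hp.dvd_of_dvd_pow h1)))
  rcases hp.dvd_mul.1 h1 with h1 | h1
  · exact Or.inr (Or.inr (Or.inl (h 5 (by norm_num) (hp.dvd_of_dvd_pow h1))))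
  rcases hp.dvd_mul.1 h1 with h1 | h1
  · exact Or.inr (Or.inr (Or.inr (Or.inl (h 7 (by norm_num) h1))))
  rcases hp.dvd_mul.1 h1 with h1 | h1
  · exact Or.inr (Or.inr (Or.inr (Or.inr (Or.inl (h 13 (by norm_num) h1)))))
  · exact Or.inr (Or.inr (Or.inr (Or.inr (Or.inr (h 29 (by norm_num) h1)))))

omit [Group S] [Finite S] in
/-- the possible indices -/
theorem index_cases {m n : ℕ} (h : m * n = 145926144000) (h2 : ¬ 2 ∣ n) (h3 : ¬ 3 ∣ n) (h7 : ¬ 7 ∣ n) (h5 : ¬ 5 ∣ m) :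
    n = 125 ∨ n = 1625 ∨ n = 3625 ∨ (n = 47125 ∧ m = 2 ^ 14 * 189) := by
  have c2 : Nat.Coprime n 2 := ((Nat.Prime.coprime_iff_not_dvd Nat.prime_two).2 h2).symm
  have c3 : Nat.Coprime n 3 := ((Nat.Prime.coprime_iff_not_dvd Nat.prime_three).2 h3).symm
  have c7 : Nat.Coprime n 7 := ((Nat.Prime.coprime_iff_not_dvd (by norm_num)).2 h7).symm
  have c5 : Nat.Coprime 5 m := (Nat.Prime.coprime_iff_not_dvd (by norm_num)).2 h5
  have d1 : n ∣ 47125 := by
    have hd : n ∣ (2 ^ 14 * 3 ^ 3 * 7) * 47125 := by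
      rw [show (2 ^ 14 * 3 ^ 3 * 7) * 47125 = 145926144000 by norm_num, ← h]
      exact Dvd.intro_left _ rfl
    refine Nat.Coprime.dvd_of_dvd_mul_left ?_ hd
    exact Nat.Coprime.mul_right (Nat.Coprime.mul_right (c2.pow_right 14) (c3.pow_right 3)) c7
  have d2 : 5 ^ 3 ∣ n := by
    have hd : 5 ^ 3 ∣ m * n := by rw [h]; norm_num
    exact Nat.Coprime.dvd_of_dvd_mul_left (c5.pow_left 3) hd
  obtain ⟨k, rfl⟩ := d2
  have d3 : k ∣ 377 := by
    rw [show 47125 = 5 ^ 3 * 377 by norm_num] at d1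
    exact Nat.dvd_of_mul_dvd_mul_left (by norm_num) d1
  have hk : k ∈ Nat.divisors 377 := Nat.mem_divisors.2 ⟨d3, by norm_num⟩
  rw [show Nat.divisors 377 = {1, 13, 29, 377} by decide +kernel] at hk
  simp only [Finset.mem_insert, Finset.mem_singleton] at hk
  rcases hk with rfl | rfl | rfl | rfl
  · left; rfl
  · right; left; rfl
  · right; right; left; rfl
  · right; right; right
    exact ⟨rfl, by omega⟩

/-- **main theorem** for a group with the local data of `Ru` -/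
theorem main (hcard : Nat.card S = 145926144000) (hs : Hs a b c g)
    (h9 : Nat.card (centralizer ({a, b} : Set S)) ≤ 9)
    (seven : ∀ R : Subgroup S, Nat.card R = 7 → Nat.card (centralizer (R : Set S)) = 28 ∧
      Nat.card (normalizer (R : Set S)) = 168)
    (two : ∃ (T : Sylow 2 S) (Y P1 P2 Cz : Subgroup S),
      normalizer ((T : Subgroup S) : Set S) ≤ T ∧ Nat.card T = 2 ^ 14 ∧
      (T : Subgroup S) ≤ P1 ∧ (T : Subgroup S) ≤ P2 ∧ P1 ≤ Y ∧ P2 ≤ Y ∧ ¬ P2 ≤ P1 ∧ Nat.card P1 = 2 ^ 14 * 3 ∧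
      ¬ 7 ∣ Nat.card P2 ∧ Nat.card Y = 2 ^ 14 * 21 ∧ (T : Subgroup S) ≤ Cz ∧ Nat.card Cz = 245760 ∧
      ∀ X : Subgroup S, Cz ≤ X → Y ≤ X → X = ⊤)
    {π : Set ℕ} (h2 : 2 ∈ π) (h3 : 3 ∈ π) (hD : DC π S) : PiGrp π S := by
  obtain ⟨T, Y, P1, P2, Cz, hself, hTc, hTP1, hTP2, hP1Y, hP2Y, hne, cP1, c7P2, cY, hTCz, cCz, hgen⟩ := two
  have : Fact (Nat.Prime 2) := ⟨Nat.prime_two⟩
  have f3 : Fact (Nat.Prime 3) := ⟨Nat.prime_three⟩
  have f7 : Fact (Nat.Prime 7) := ⟨by norm_num⟩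
  have h81 : ¬ 3 ^ 4 ∣ Nat.card S := by rw [hcard]; norm_num
  have hq : ∀ {p q : ℕ}, p.Prime → q.Prime → p ∣ q → p = q := fun hp hq h => (Nat.prime_dvd_prime_iff_eq hp hq).1 h
  -- primes of `2^14 · 21`
  have p21 : ∀ p : ℕ, p.Prime → p ∣ 2 ^ 14 * 21 → p = 2 ∨ p = 3 ∨ p = 7 := by
    intro p hp hd
    rw [show 2 ^ 14 * 21 = 2 ^ 14 * (3 * 7) by norm_num] at hd
    rcases hp.dvd_mul.1 hd with h | h
    · exact Or.inl (hq hp Nat.prime_two (hp.dvd_of_dvd_pow h))
    rcases hp.dvd_mul.1 h with h | h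
    · exact Or.inr (Or.inl (hq hp Nat.prime_three h))
    · exact Or.inr (Or.inr (hq hp (by norm_num) h))
  have hTpi : IsPiSubgroup π (normalizer ((T : Subgroup S) : Set S)) := by
    intro p hp hd
    have h1 := hd.trans (card_dvd_of_le hself)
    rw [hTc] at h1
    rw [hq hp Nat.prime_two (hp.dvd_of_dvd_pow h1)]
    exact h2
  obtain ⟨H, hH, -, hov⟩ := hD.overgroups T hTpi
  -- `7 ∈ π`
  have h7 : 7 ∈ π := by
    by_contra h7
    have hP1 : P1 ≤ H := hov P1 (by
      intro p hp hd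
      rw [cP1] at hd
      rcases hp.dvd_mul.1 hd with h | h
      · rw [hq hp Nat.prime_two (hp.dvd_of_dvd_pow h)]; exact h2
      · rw [hq hp Nat.prime_three h]; exact h3) hTP1
    have hP2 : P2 ≤ H := hov P2 (by
      intro p hp hd
      rcases p21 p hp (hd.trans (cY ▸ card_dvd_of_le hP2Y)) with h | h | h
      · rw [h]; exact h2
      · rw [h]; exact h3
      · rw [h] at hd; exact absurd hd c7P2) hTP2
    have h1 : Nat.card (H ⊓ Y : Subgroup S) ∣ (2 ^ 14 * 3) * 7 := by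
      have := card_dvd_of_le (inf_le_right : H ⊓ Y ≤ Y)
      rw [cY] at this
      exact this
    have h7' : ¬ 7 ∣ Nat.card (H ⊓ Y : Subgroup S) := fun h =>
      h7 (hH.1 7 (by norm_num) (h.trans (card_dvd_of_le inf_le_left)))
    have h4 : Nat.card (H ⊓ Y : Subgroup S) ∣ 2 ^ 14 * 3 :=
      Nat.Coprime.dvd_of_dvd_mul_right (((Nat.Prime.coprime_iff_not_dvd (by norm_num)).2 h7').symm) h1
    have h5 : P1 = H ⊓ Y := by
      apply eq_of_le_of_card_ge (le_inf hP1 hP1Y)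
      rw [cP1]
      exact Nat.le_of_dvd (by norm_num) h4
    apply hne
    rw [h5]
    exact le_inf hP2 hP2Y
  have hYpi : IsPiSubgroup π Y := by
    intro p hp hd
    rw [cY] at hd
    rcases p21 p hp hd with h | h | h
    · rw [h]; exact h2
    · rw [h]; exact h3
    · rw [h]; exact h7
  have hYH : Y ≤ H := hov Y hYpi (hTP1.trans hP1Y)
  by_cases h5 : 5 ∈ π
  · -- `C(z) ≤ H`
    have hCH : Cz ≤ H := hov Cz (by
      intro p hp hd
      rw [cCz, show 245760 = 2 ^ 14 * (3 * 5) by norm_num] at hd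
      rcases hp.dvd_mul.1 hd with h | h
      · rw [hq hp Nat.prime_two (hp.dvd_of_dvd_pow h)]; exact h2
      rcases hp.dvd_mul.1 h with h | h
      · rw [hq hp Nat.prime_three h]; exact h3
      · rw [hq hp (by norm_num) h]; exact h5) hTCz
    have htop := hgen H hCH hYH
    intro p hp hd
    apply hH.1 p hp
    rw [htop, card_top]
    exact hd
  exfalso
  have hmn := H.card_mul_index
  rw [hcard] at hmn
  have hn2 : ¬ 2 ∣ H.index := hH.2 2 Nat.prime_two h2
  have hn3 : ¬ 3 ∣ H.index := hH.2 3 Nat.prime_three h3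
  have hn7 : ¬ 7 ∣ H.index := hH.2 7 (by norm_num) h7
  have hm5 : ¬ 5 ∣ Nat.card H := fun h => h5 (hH.1 5 (by norm_num) h)
  -- the sieve mod 7
  have s7 : H.index % 7 = 1 := by
    obtain ⟨P⟩ : Nonempty (Sylow 7 S) := inferInstance
    have hP7 : 7 ∣ Nat.card P := by
      have := P.pow_dvd_card_of_pow_dvd_card (n := 1) (by rw [hcard]; norm_num)
      rwa [pow_one] at this
    have hPc : Nat.card P = 7 := by
      obtain ⟨n, hn⟩ := IsPGroup.iff_card.1 P.2
      have hd : (7 : ℕ) ^ n ∣ 145926144000 := by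
        rw [← hn, ← hcard]
        exact card_subgroup_dvd_card _
      have hn1 : n < 2 := by
        by_contra hcon
        have h1 : (7 : ℕ) ^ 2 ∣ 145926144000 := (pow_dvd_pow 7 (not_lt.1 hcon)).trans hd
        norm_num at h1
      interval_cases n
      · rw [hn] at hP7; norm_num at hP7
      · rw [hn]; norm_num
    exact sieve hD hH P (by
      intro p hp hd
      rw [(seven _ hPc).2, show 168 = 2 ^ 3 * (3 * 7) by norm_num] at hd
      rcases hp.dvd_mul.1 hd with h | h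
      · rw [hq hp Nat.prime_two (hp.dvd_of_dvd_pow h)]; exact h2
      rcases hp.dvd_mul.1 h with h | h
      · rw [hq hp Nat.prime_three h]; exact h3
      · rw [hq hp (by norm_num) h]; exact h7)
  -- the normalizer of the Sylow 3-subgroup
  have hR := hs.card_eq h81
  have hN3 : IsPiSubgroup π (normalizer ((closure ({a, b} : Set S) : Subgroup S) : Set S)) := by
    intro p hp hd
    have h1 := hd.trans (card_subgroup_dvd_card _)
    rw [hcard] at h1
    rcases primes_ru hp h1 with h | h | h | h | h | h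
    · rw [h]; exact h2
    · rw [h]; exact h3
    · exact absurd hd (norm_three hs h81 h9 (by tauto))
    · rw [h]; exact h7
    · exact absurd hd (norm_three hs h81 h9 (by tauto))
    · exact absurd hd (norm_three hs h81 h9 (by tauto))
  have s3 : H.index % 3 = 1 := by
    let P : Sylow 3 S := Sylow.ofCard (closure ({a, b} : Set S)) (by
      rw [hR, hcard]
      have h1 : Nat.factorization 145926144000 3 = 3 := by
        apply le_antisymm
        · by_contra hcon
          have h4 : 3 ^ 4 ∣ 145926144000 := (Nat.Prime.pow_dvd_iff_le_factorization Nat.prime_three (by norm_num)).2 (by omega)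
          norm_num at h4
        · exact (Nat.Prime.pow_dvd_iff_le_factorization Nat.prime_three (by norm_num)).1 (by norm_num)
      rw [h1]; norm_num)
    exact sieve hD hH P hN3
  rcases index_cases hmn hn2 hn3 hn7 hm5 with h | h | h | ⟨-, hm⟩
  · rw [h] at s7; norm_num at s7
  · rw [h] at s3; norm_num at s3
  · rw [h] at s7; norm_num at s7
  -- `|H| = 2^14 · 189`
  obtain ⟨K, hK, hNK⟩ := hD.d _ hN3
  obtain ⟨t, rfl⟩ := hD.c H K hH hK
  have hle : closure ({a, b} : Set S) ≤ H.map (MulAut.conj t).toMonoidHom := le_normalizer.trans hNK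
  refine last_step hs h81 seven (H := H.map (MulAut.conj t).toMonoidHom) (Y := Y.map (MulAut.conj t).toMonoidHom)
    (map_mono hYH) (by rw [card_map_conj, hm]) (by rw [card_map_conj, cY]) (hle (subset_closure (by simp)))
    (hle (subset_closure (by simp))) (hNK ?_)
  refine mem_normalizer_fintype ?_
  intro u hu
  exact hs.g_norm hu

end steps

/-- **the row `Ru` of S3876** -/
theorem row_ru {S : Type*} [Group S] [Finite S] (h : Cfsg.Spor.IsoRu S) {pi : Set ℕ} (h2 : 2 ∈ pi) (h3 : 3 ∈ pi)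
    (hD : DC pi S) : PiGrp pi S := by
  obtain ⟨e0⟩ := h
  let e : S ≃* Cfsg.Agent.SporadicB.RuOrder.H := e0.trans Cfsg.Agent.RuLat.Main.equiv
  have hfin := finite_H
  obtain ⟨a, b, c, g, h1, h4, h5, h6, h7, h8, h9, h10, h11⟩ := three_H
  have hmain := main (Cfsg.Agent.SporadicB.RuOrder.card_H) ⟨h1, h4, h5, h6, h7, h8, h9, h10⟩ h11 (fun _ => seven_H)
    (two_local ⟨Cfsg.Agent.RuLat.Main.equiv.symm⟩) h2 h3 (hD.congr e)
  intro p hp hd
  apply hmain p hp
  rwa [Nat.card_congr e.toEquiv] at hd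

end Cfsg.Agent.H663.PiBSRu
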