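import Cfsg.Agent.H516.TwoFrame
import Cfsg.Agent.UniqLoc.Final

/-!
# `HN` is generated by the normalizers of invariant subgroups of a Sylow 2-subgroup (helper663)

Row `HN` of S4094 / S3842 / S4095 at the prime 2.
-/

set_option autoImplicit false

namespace Cfsg.Agent.H663.NxcHN

open Subgroup Cfsg.Agent.Lib.PackMat Cfsg.Agent.Lib.PackMatGroup
open Cfsg.Agent.HN.RepData Cfsg.Agent.HN.Rep Cfsg.Agent.HN.TGroup Cfsg.Agent.HN.PC Cfsg.Agent.HN.TRel
  Cfsg.Agent.HN.TSyl Cfsg.Agent.HN.XWords Cfsg.Agent.HN.XStruct Cfsg.Agent.HN.TDataA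
open Cfsg.Agent.KFacts.HN.YTrick Cfsg.Agent.KFacts.HN.Classes
open Cfsg.Agent.UniqLoc.HN Cfsg.Agent.H516.Two

universe u

local notation "nn" => Cfsg.Agent.KFacts.HN.CentTwoHN.n
local notation "yy" => Cfsg.Agent.UniqLoc.HN.y

theorem inv_comm {S : Type*} [Group S] {T H K : Subgroup S} (hH : Inv T H) (hK : Inv T K) : Inv T ⁅H, K⁆ := by
  intro α hα
  rw [map_commutator, hH α hα, hK α hα]

theorem inv_self {S : Type*} [Group S] (T : Subgroup S) : Inv T T := fun _ h => h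

/-- `Pc s 2` is a term of the lower central series of `Pc s 14` -/
theorem inv_Pc : Inv (Pc s 14) (Pc s 2) := by
  have h := hinj
  have e1 : ⁅Pc s 14, Pc s 14⁆ = Pc s 10 := commutator_eq h (by norm_num) (by norm_num) (by decide) (by decide)
  have e2 : ⁅Pc s 14, Pc s 10⁆ = Pc s 7 := commutator_eq h (by norm_num) (by norm_num) (by decide) (by decide)
  have e3 : ⁅Pc s 14, Pc s 7⁆ = Pc s 5 := commutator_eq h (by norm_num) (by norm_num) (by decide) (by decide)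
  have e4 : ⁅Pc s 14, Pc s 5⁆ = Pc s 3 := commutator_eq h (by norm_num) (by norm_num) (by decide) (by decide)
  have e5 : ⁅Pc s 14, Pc s 3⁆ = Pc s 2 := commutator_eq h (by norm_num) (by norm_num) (by decide) (by decide)
  rw [← e5, ← e4, ← e3, ← e2, ← e1]
  have l := inv_self (Pc s 14)
  exact inv_comm l (inv_comm l (inv_comm l (inv_comm l (inv_comm l l))))

theorem nxc_model : NXC Cfsg.Spor.HN := by
  have := Cfsg.Agent.KFacts.HN.YTrick.finiteHN
  have hs : IsSimpleGroup Cfsg.Spor.HN := Cfsg.Agent.S1701.result.1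
  have hgen := Cfsg.Agent.KFacts.HN.CentTwoHN.hgen
  rw [← s0_eq] at hgen
  have hcz : c * s 0 = s 0 * c := by rw [s0_eq]; exact c_comm
  refine nxc_of_norm not_comm T (z := s 0) (U := Pc s 2) (y := yy) (n := nn) (c := c⁻¹)
    (fun h => ?_) (mem_Pc (by norm_num)) (fun t ht => ?_) (fun u hu h => ?_) (Pc_mono (by norm_num))
    (mem_Pc (by norm_num)) inv_Pc y_mem ?_ ?_ hgen
  · rw [s0_eq] at h
    exact Cfsg.Agent.KFacts.HN.CentTwoHN.W0_ne h
  · rw [s0_eq]; exact comm_T ht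
  · have h1 := eq_of_mem_Pc1 (Cfsg.Agent.KFacts.HN.SylCenter.center_T hinj hu fun v hv => (h v hv).symm)
    rw [s0_eq]; exact h1
  · calc c⁻¹ * s 0 = c⁻¹ * (s 0 * c) * c⁻¹ := by group
      _ = c⁻¹ * (c * s 0) * c⁻¹ := by rw [hcz]
      _ = s 0 * c⁻¹ := by group
  · have h5 : c * s 0 * c⁻¹ = s 0 := by rw [hcz, mul_inv_cancel_right]
    calc yy * s 0 * yy⁻¹ = c⁻¹ * (nn * (c * s 0 * c⁻¹) * nn⁻¹) * c := by rw [Cfsg.Agent.UniqLoc.HN.y]; group
      _ = c⁻¹ * (nn * s 0 * nn⁻¹) * (c⁻¹)⁻¹ := by rw [h5, inv_inv]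

/-- **Row `HN`.** -/
theorem nxc {S : Type u} [Group S] [Finite S] (h : Cfsg.Spor.IsoHN S) : NXC S := by
  have := Cfsg.Agent.KFacts.HN.YTrick.finiteHN
  obtain ⟨e⟩ := h
  exact NXC.congr e.symm nxc_model

end Cfsg.Agent.H663.NxcHN
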