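import Mathlib
import Cfsg.Agent.H502.ThThree
import Cfsg.Agent.H467.OddNormRow
import Cfsg.Agent.S2083

/-!
# The Thompson group at the prime 3: a row of S3855 (helper663)

An involution of `Th` normalises a Sylow `3`-subgroup (helper502), and `Out(Th) = 1`.
-/

set_option autoImplicit false

open Cfsg Subgroup

namespace Cfsg.Agent.H663.EvTh

open Cfsg.Agent.H467.OddNorm
open Cfsg.Agent.H502.ThKlein Cfsg.Agent.H502.ThFlag Cfsg.Agent.H502.ThThree Cfsg.Agent.Th.Gen248
  Cfsg.Agent.Th.Hom248 Cfsg.Agent.Th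

/-- an involution normalises a Sylow `3`-subgroup -/
theorem evIn_th : EvIn 3 Cfsg.Spor.Th := by
  have h3 : Fact (Nat.Prime 3) := ⟨Nat.prime_three⟩
  obtain ⟨S, hS⟩ := card_three (k := 10) isPGroup_S3 dvd_card_S3 (by norm_num)
  have hu2 : el [.a] * el [.a] = 1 := el_eq a_sq (rho_mul (rho_gen _) (rho_gen _)) rho_one
  have hu1 : el [.a] ≠ 1 := glW_ne a_ne (rho_gen _) rho_one
  have hui : (el [.a])⁻¹ = el [.a] := inv_eq_of_mul_eq_one_left hu2
  refine ⟨S, el [.a], orderOf_eq_prime (by rw [pow_two, hu2]) hu1, ?_⟩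
  have key : ∀ x ∈ (S : Subgroup Cfsg.Spor.Th), el [.a] * x * (el [.a])⁻¹ ∈ (S : Subgroup Cfsg.Spor.Th) := by
    intro x hx
    have hx' : x ∈ S3 := by rw [← hS]; exact hx
    have := norm_S3 ta hx'
    rw [← hS] at this
    exact this
  rw [mem_normalizer_iff]
  intro x
  refine ⟨key x, fun hx => ?_⟩
  have h1 := key _ hx
  rw [hui] at h1
  have h2 : el [.a] * (el [.a] * x * el [.a]) * el [.a] = (el [.a] * el [.a]) * x * (el [.a] * el [.a]) := by
    group
  rw [h2, hu2, one_mul, mul_one] at h1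
  exact h1

theorem innP : InnP 3 Cfsg.Spor.Th := by
  rintro α -
  have h3 : Cfsg.Inn Cfsg.Spor.Th = ⊤ := Subgroup.index_eq_one.1 S2083.result
  have h4 : α ∈ Cfsg.Inn Cfsg.Spor.Th := h3 ▸ Subgroup.mem_top α
  obtain ⟨s, hs⟩ := h4
  exact ⟨s, hs.symm⟩

/-- **the Thompson group at the prime 3** -/
theorem ev_th : Ev 3 Cfsg.Spor.Th := by
  have h3 : Fact (Nat.Prime 3) := ⟨Nat.prime_three⟩
  have hs : IsSimpleGroup Cfsg.Spor.Th := Main1700.isTh.1
  have hf : Finite Cfsg.Spor.Th := Main1700.final.1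
  have hc := Main1700.final.2.1
  refine Ev.of_inner innP evIn_th (center_eq_bot_of_simple fun hcomm => ?_)
  have hcard : (Nat.card Cfsg.Spor.Th).Prime := by
    let _ : CommGroup Cfsg.Spor.Th := { (inferInstance : Group Cfsg.Spor.Th) with mul_comm := hcomm }
    exact IsSimpleGroup.prime_card
  rw [hc] at hcard
  revert hcard
  norm_num

theorem ev_th' {K : Type*} [Group K] (h : Spor.IsoTh K) : Ev 3 K := by
  have h3 : Fact (Nat.Prime 3) := ⟨Nat.prime_three⟩
  have hf : Finite Cfsg.Spor.Th := Main1700.final.1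
  obtain ⟨e⟩ := h
  exact ev_th.congr e.symm

end Cfsg.Agent.H663.EvTh
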