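import Cfsg.Agent.H543.PiBS.Gen
import Cfsg.Agent.Classification.TypeZ.Count

/-!
# General lemmas for the row `Ru` of S3876 (helper663)

* `card_frattini`, `sieve`, `fix_mod`, `comm_of_two`;
* `Heis` : `3^(1+2)` with an automorphism of order 4 inverting the quotient by the centre modulo squares.
-/

set_option autoImplicit false

namespace Cfsg.Agent.H663.PiBSRu

open Subgroup Cfsg Cfsg.Agent.H543.PiBS

section gen

variable {S : Type*} [Group S]

/-- `|G|` divides `|A| |N|` if `A ⊔ N = ⊤`, `N` normal -/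
theorem card_dvd_of_sup {A N : Subgroup S} [hN : N.Normal] (h : A ⊔ N = ⊤) : Nat.card S ∣ Nat.card A * Nat.card N := by
  have h1 : N.index = N.relIndex A := by
    rw [← relIndex_sup_right A N, h, relIndex_top_right]
  rw [← N.card_mul_index, h1, mul_comm]
  exact Nat.mul_dvd_mul_right (relIndex_dvd_card N A) _

/-- Frattini -/
theorem card_frattini [Finite S] {p : ℕ} [Fact p.Prime] {N : Subgroup S} [hN : N.Normal] (P : Sylow p N) :
    Nat.card S ∣ Nat.card (normalizer ((map N.subtype (P : Subgroup N) : Subgroup S) : Set S)) * Nat.card N :=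
  card_dvd_of_sup (Sylow.normalizer_sup_eq_top P)

/-- two Hall subgroups have the same index -/
theorem index_eq [Finite S] {π : Set ℕ} (hD : DC π S) {H K : Subgroup S} (hH : IsPiHall π H) (hK : IsPiHall π K) :
    K.index = H.index ∧ Nat.card K = Nat.card H := by
  obtain ⟨g, rfl⟩ := hD.c H K hH hK
  have h1 := card_map_conj H g
  refine ⟨?_, h1⟩
  have h2 := H.card_mul_index
  have h3 := (H.map (MulAut.conj g).toMonoidHom).card_mul_index
  rw [h1, ← h2] at h3
  exact Nat.eq_of_mul_eq_mul_left Nat.card_pos h3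

/-- **the sieve** -/
theorem sieve [Finite S] {π : Set ℕ} (hD : DC π S) {H : Subgroup S} (hH : IsPiHall π H) {p : ℕ} [Fact p.Prime]
    (P : Sylow p S) (hN : IsPiSubgroup π (normalizer ((P : Subgroup S) : Set S))) : H.index ≡ 1 [MOD p] := by
  obtain ⟨K, hK, hle⟩ := hD.d _ hN
  rw [← (index_eq hD hH hK).1]
  exact Cfsg.Agent.Classification.TypeZ.Count.index_modEq_one (le_normalizer.trans hle) P.2 P.not_dvd_index hle

/-- fixed points of a `p`-element normalising a subgroup -/
theorem fix_mod [Finite S] {p : ℕ} [Fact p.Prime] {x : S} (hx : x ^ p = 1) {A : Subgroup S}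
    (hxA : x ∈ normalizer (A : Set S)) :
    Nat.card A ≡ Nat.card (A ⊓ centralizer ({x} : Set S) : Subgroup S) [MOD p] := by
  have hle : zpowers x ≤ normalizer (A : Set S) := zpowers_le.2 hxA
  have hp : IsPGroup p (zpowers x) := by
    rintro ⟨y, hy⟩
    obtain ⟨k, rfl⟩ := mem_zpowers_iff.1 hy
    refine ⟨1, Subtype.ext ?_⟩
    change (x ^ k) ^ p ^ 1 = 1
    rw [pow_one, ← zpow_natCast, ← zpow_mul, mul_comm, zpow_mul, zpow_natCast, hx, one_zpow]
  let act : MulAction (zpowers x) A :=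
    { smul := fun y a => ⟨y * a * (y : S)⁻¹, (mem_normalizer_iff.1 (hle y.2) _).1 a.2⟩
      one_smul := fun a => Subtype.ext (by
        change ((1 : zpowers x) : S) * a * ((1 : zpowers x) : S)⁻¹ = a
        simp)
      mul_smul := fun y z a => Subtype.ext (by
        change ((y * z : zpowers x) : S) * a * ((y * z : zpowers x) : S)⁻¹ = y * (z * a * (z : S)⁻¹) * (y : S)⁻¹
        rw [Subgroup.coe_mul]; group) }
  have h1 := hp.card_modEq_card_fixedPoints A
  have h2 : Nat.card (MulAction.fixedPoints (zpowers x) A) =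
      Nat.card (A ⊓ centralizer ({x} : Set S) : Subgroup S) := by
    refine Nat.card_congr ⟨fun a => ⟨(a : A), (a : A).2, ?_⟩, fun a => ⟨⟨a, a.2.1⟩, ?_⟩, fun a => rfl, fun a => rfl⟩
    · have h3 := congrArg Subtype.val (a.2 ⟨x, mem_zpowers x⟩)
      have h4 : x * ((a : A) : S) * x⁻¹ = (a : A) := h3
      refine mem_centralizer_singleton_iff.2 ?_
      exact (mul_inv_eq_iff_eq_mul.1 h4).symm
    · rintro ⟨y, hy⟩
      apply Subtype.ext
      change y * (a : S) * y⁻¹ = a
      obtain ⟨k, rfl⟩ := mem_zpowers_iff.1 hy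
      have h3 : Commute (a : S) x := mem_centralizer_singleton_iff.1 a.2.2
      rw [← (h3.zpow_right k).eq, mul_inv_cancel_right]
  rw [h2] at h1
  exact h1

/-- an automorphism of a group of order 3 has order at most 2 -/
theorem sq_comm {u y : S} (h3 : u ^ 3 = 1) (hy : y * u * y⁻¹ ∈ zpowers u) : y * (y * u * y⁻¹) * y⁻¹ = u := by
  have hu3 : u * u * u = 1 := by rw [← h3]; simp only [pow_succ, pow_zero, one_mul]
  have hui : u⁻¹ = u * u := by rw [inv_eq_iff_mul_eq_one, ← mul_assoc]; exact hu3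
  obtain ⟨k, hk⟩ := mem_zpowers_iff.1 hy
  -- `k` mod 3
  have hk3 : u ^ k = u ^ (k % 3) := by
    conv_lhs => rw [← Int.emod_add_mul_ediv k 3]
    rw [zpow_add, zpow_mul]
    have : u ^ (3 : ℤ) = 1 := by exact_mod_cast h3
    rw [this, one_zpow, mul_one]
  have hr : k % 3 = 0 ∨ k % 3 = 1 ∨ k % 3 = 2 := by omega
  rcases hr with h | h | h
  · rw [h, zpow_zero] at hk3
    rw [hk3] at hk
    have h4 : u = 1 := by
      calc u = y⁻¹ * (y * u * y⁻¹) * y := by group
        _ = 1 := by rw [← hk]; group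
    rw [← hk, h4]; group
  · rw [h, zpow_one] at hk3
    rw [hk3] at hk
    rw [← hk, ← hk]
  · rw [h] at hk3
    have h5 : u ^ (2 : ℤ) = u⁻¹ := by
      rw [hui]; exact zpow_two u
    rw [hk3, h5] at hk
    calc y * (y * u * y⁻¹) * y⁻¹ = y * u⁻¹ * y⁻¹ := by rw [← hk]
      _ = (y * u * y⁻¹)⁻¹ := by group
      _ = u := by rw [← hk, inv_inv]

end gen

section heis

variable {S : Type*} [Group S]

/-- relations of `3^(1+2) : 4` -/
structure Hs (a b c g : S) : Prop where
  a3 : a ^ 3 = 1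
  c3 : c ^ 3 = 1
  c1 : c ≠ 1
  ga : g * a * g⁻¹ = b
  gb : g * b * g⁻¹ = a⁻¹
  ab : a * b = c * (b * a)
  ac : a * c = c * a
  bc : b * c = c * b

namespace Hs

variable {a b c g : S} (H : Hs a b c g)
include H

/-- `⟨a, b⟩` -/
theorem c_mem : c ∈ closure ({a, b} : Set S) := by
  have ha : a ∈ closure ({a, b} : Set S) := subset_closure (by simp)
  have hb : b ∈ closure ({a, b} : Set S) := subset_closure (by simp)
  have h1 : c = a * b * (b * a)⁻¹ := by rw [H.ab, mul_assoc c, mul_inv_cancel, mul_one]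
  rw [h1]
  exact mul_mem (mul_mem ha hb) (inv_mem (mul_mem hb ha))

theorem cent {u : S} (hu : u ∈ closure ({a, b} : Set S)) : Commute u c := by
  have h1 : closure ({a, b} : Set S) ≤ centralizer ({c} : Set S) := by
    rw [closure_le]
    rintro x (rfl | rfl)
    · exact mem_centralizer_singleton_iff.2 H.ac
    · exact mem_centralizer_singleton_iff.2 H.bc
  exact mem_centralizer_singleton_iff.1 (h1 hu)

theorem b3 : b ^ 3 = 1 := by
  rw [← H.ga, conj_pow, H.a3, mul_one, mul_inv_cancel]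

/-- commutators lie in `⟨c⟩` -/
theorem comm {u v : S} (hu : u ∈ closure ({a, b} : Set S)) (hv : v ∈ closure ({a, b} : Set S)) :
    ∃ m : ℤ, u * v = c ^ m * (v * u) := by
  have key : ∀ s ∈ ({a, b} : Set S), ∀ v ∈ closure ({a, b} : Set S), ∃ m : ℤ, s * v = c ^ m * (v * s) := by
    intro s hs v hv
    have hsc : Commute s c := H.cent (subset_closure hs)
    induction hv using closure_induction with
    | mem x hx =>
      rcases hs with rfl | rfl <;> rcases hx with rfl | rfl
      · exact ⟨0, by simp⟩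
      · exact ⟨1, by rw [zpow_one]; exact H.ab⟩
      · exact ⟨-1, by rw [H.ab, zpow_neg, zpow_one, inv_mul_cancel_left]⟩
      · exact ⟨0, by simp⟩
    | one => exact ⟨0, by simp⟩
    | mul x y hx hy h1 h2 =>
      obtain ⟨m, hm⟩ := h1
      obtain ⟨n, hn⟩ := h2
      refine ⟨m + n, ?_⟩
      have h3 : Commute x (c ^ n) := (H.cent hx).zpow_right n
      calc s * (x * y) = (s * x) * y := by group
        _ = c ^ m * x * (s * y) := by rw [hm]; group
        _ = c ^ m * (x * c ^ n) * y * s := by rw [hn]; group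
        _ = c ^ (m + n) * (x * y * s) := by rw [h3.eq, zpow_add]; group
    | inv x hx h1 =>
      obtain ⟨m, hm⟩ := h1
      refine ⟨-m, ?_⟩
      have h3 : Commute x⁻¹ (c ^ (-m)) := (H.cent (inv_mem hx)).zpow_right _
      have h4 : Commute s (c ^ (-m)) := hsc.zpow_right _
      calc s * x⁻¹ = x⁻¹ * (x * s) * x⁻¹ := by rw [inv_mul_cancel_left]
        _ = x⁻¹ * (c ^ (-m) * (s * x)) * x⁻¹ := by rw [hm, zpow_neg, inv_mul_cancel_left (c ^ m)]
        _ = (x⁻¹ * c ^ (-m)) * s := by group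
        _ = c ^ (-m) * (x⁻¹ * s) := by rw [h3.eq]; group
  induction hu using closure_induction with
  | mem x hx => exact key x hx v hv
  | one => exact ⟨0, by simp⟩
  | mul x y hx hy h1 h2 =>
    obtain ⟨m, hm⟩ := h1
    obtain ⟨n, hn⟩ := h2
    refine ⟨m + n, ?_⟩
    have h3 : Commute x (c ^ n) := (H.cent hx).zpow_right n
    calc (x * y) * v = x * (y * v) := by group
      _ = (x * c ^ n) * v * y := by rw [hn]; group
      _ = c ^ n * (x * v) * y := by rw [h3.eq]; group
      _ = c ^ (m + n) * (v * (x * y)) := by rw [hm, add_comm, zpow_add]; group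
  | inv x hx h1 =>
    obtain ⟨m, hm⟩ := h1
    refine ⟨-m, ?_⟩
    have h3 : Commute x⁻¹ (c ^ (-m)) := (H.cent (inv_mem hx)).zpow_right _
    calc x⁻¹ * v = x⁻¹ * (v * x) * x⁻¹ := by group
      _ = x⁻¹ * (c ^ (-m) * (x * v)) * x⁻¹ := by rw [hm, zpow_neg, inv_mul_cancel_left]
      _ = (x⁻¹ * c ^ (-m)) * x * v * x⁻¹ := by group
      _ = c ^ (-m) * (v * x⁻¹) := by rw [h3.eq]; group

/-- `g²` inverts `⟨a, b⟩` modulo `⟨c⟩` -/
theorem theta {u : S} (hu : u ∈ closure ({a, b} : Set S)) : ∃ k : ℤ, g * (g * u * g⁻¹) * g⁻¹ = c ^ k * u⁻¹ := by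
  induction hu using closure_induction with
  | mem x hx =>
    refine ⟨0, ?_⟩
    rw [zpow_zero, one_mul]
    rcases hx with rfl | rfl
    · rw [H.ga, H.gb]
    · rw [H.gb]
      have h1 := congrArg (·⁻¹) H.ga
      simp only [mul_inv_rev, inv_inv] at h1
      rw [← h1, mul_assoc]
  | one => exact ⟨0, by simp⟩
  | mul x y hx hy h1 h2 =>
    obtain ⟨m, hm⟩ := h1
    obtain ⟨n, hn⟩ := h2
    obtain ⟨l, hl⟩ := H.comm (inv_mem hx) (inv_mem hy)
    refine ⟨m + n + l, ?_⟩
    have h3 : Commute x⁻¹ (c ^ n) := (H.cent (inv_mem hx)).zpow_right n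
    calc g * (g * (x * y) * g⁻¹) * g⁻¹ = (g * (g * x * g⁻¹) * g⁻¹) * (g * (g * y * g⁻¹) * g⁻¹) := by group
      _ = c ^ m * (x⁻¹ * c ^ n) * y⁻¹ := by rw [hm, hn]; group
      _ = c ^ m * c ^ n * (x⁻¹ * y⁻¹) := by rw [h3.eq]; group
      _ = c ^ (m + n + l) * (x * y)⁻¹ := by rw [hl, zpow_add, zpow_add]; group
  | inv x hx h1 =>
    obtain ⟨m, hm⟩ := h1
    refine ⟨-m, ?_⟩
    have h3 : Commute x (c ^ (-m)) := (H.cent hx).zpow_right _
    calc g * (g * x⁻¹ * g⁻¹) * g⁻¹ = (g * (g * x * g⁻¹) * g⁻¹)⁻¹ := by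
          simp only [mul_inv_rev, inv_inv, mul_assoc]
      _ = x * c ^ (-m) := by rw [hm]; group
      _ = c ^ (-m) * x⁻¹⁻¹ := by rw [h3.eq, inv_inv]

theorem g_norm {u : S} (hu : u ∈ closure ({a, b} : Set S)) : g * u * g⁻¹ ∈ closure ({a, b} : Set S) := by
  have ha : a ∈ closure ({a, b} : Set S) := subset_closure (by simp)
  have hb : b ∈ closure ({a, b} : Set S) := subset_closure (by simp)
  have h1 : closure ({a, b} : Set S) ≤ (closure ({a, b} : Set S)).comap (MulAut.conj g).toMonoidHom := by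
    rw [closure_le]
    rintro x (hx | hx)
    · rw [hx]
      change g * a * g⁻¹ ∈ closure ({a, b} : Set S)
      rw [H.ga]; exact hb
    · rw [Set.mem_singleton_iff.1 hx]
      change g * b * g⁻¹ ∈ closure ({a, b} : Set S)
      rw [H.gb]; exact inv_mem ha
  exact h1 hu

/-- `⟨a, b⟩` is a 3-group -/
theorem isPGroup [Finite S] : IsPGroup 3 (closure ({a, b} : Set S)) := by
  have : Fact (Nat.Prime 3) := ⟨Nat.prime_three⟩
  have hz : ∀ x : S, x ^ 3 = 1 → IsPGroup 3 (zpowers x) := by
    intro x hx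
    have h1 := (Nat.dvd_prime Nat.prime_three).mp (orderOf_dvd_of_pow_eq_one hx)
    rcases h1 with h1 | h1
    · refine IsPGroup.of_card (n := 0) ?_
      rw [Nat.card_zpowers, h1, pow_zero]
    · refine IsPGroup.of_card (n := 1) ?_
      rw [Nat.card_zpowers, h1, pow_one]
  have hA : IsPGroup 3 ((zpowers b ⊔ zpowers c : Subgroup S)) := by
    refine (hz b H.b3).to_sup_of_normal_right' (hz c H.c3) ?_
    rw [zpowers_le]
    refine mem_normalizer_fintype ?_
    intro x hx
    obtain ⟨n, rfl⟩ := mem_zpowers_iff.1 hx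
    have h1 : Commute b (c ^ n) := Commute.zpow_right H.bc n
    rw [h1.eq, mul_inv_cancel_right]
    exact hx
  have hP : IsPGroup 3 ((zpowers a ⊔ (zpowers b ⊔ zpowers c) : Subgroup S)) := by
    refine (hz a H.a3).to_sup_of_normal_right' hA ?_
    rw [zpowers_le]
    refine mem_normalizer_fintype ?_
    have hle : (zpowers b ⊔ zpowers c : Subgroup S) ≤ (zpowers b ⊔ zpowers c : Subgroup S).comap (MulAut.conj a).toMonoidHom := by
      rw [sup_le_iff, zpowers_le, zpowers_le]
      constructor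
      · change a * b * a⁻¹ ∈ (zpowers b ⊔ zpowers c : Subgroup S)
        have h1 : a * b * a⁻¹ = c * b := by rw [H.ab, mul_assoc c, mul_assoc b, mul_inv_cancel, mul_one]
        rw [h1]
        exact mul_mem (mem_sup_right (mem_zpowers c)) (mem_sup_left (mem_zpowers b))
      · change a * c * a⁻¹ ∈ (zpowers b ⊔ zpowers c : Subgroup S)
        rw [H.ac, mul_inv_cancel_right]
        exact mem_sup_right (mem_zpowers c)
    intro n hn
    exact hle hn
  refine hP.to_le ?_
  rw [closure_le]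
  rintro x (rfl | rfl)
  · exact mem_sup_left (mem_zpowers _)
  · exact mem_sup_right (mem_sup_left (mem_zpowers _))

/-- `|⟨a, b⟩| = 27` -/
theorem card_eq [Finite S] (h81 : ¬ 3 ^ 4 ∣ Nat.card S) : Nat.card (closure ({a, b} : Set S)) = 27 := by
  have : Fact (Nat.Prime 3) := ⟨Nat.prime_three⟩
  obtain ⟨n, hn⟩ := IsPGroup.iff_card.1 H.isPGroup
  have ha : a ∈ closure ({a, b} : Set S) := subset_closure (by simp)
  have hb : b ∈ closure ({a, b} : Set S) := subset_closure (by simp)
  have hne : a * b ≠ b * a := fun h => H.c1 (by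
    have h1 := H.ab
    rw [h] at h1
    exact right_eq_mul.1 h1)
  have hn4 : n < 4 := by
    by_contra hcon
    apply h81
    exact (pow_dvd_pow 3 (not_lt.1 hcon)).trans (hn ▸ card_subgroup_dvd_card _)
  have hnc : ∀ hcomm : ∀ x y : closure ({a, b} : Set S), x * y = y * x, False := fun hcomm =>
    hne (congrArg Subtype.val (hcomm ⟨a, ha⟩ ⟨b, hb⟩))
  interval_cases n
  · exfalso
    rw [pow_zero] at hn
    have := (Nat.card_eq_one_iff_unique.1 hn).1
    exact hnc fun x y => Subsingleton.elim _ _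
  · exfalso
    rw [pow_one] at hn
    have hcyc : IsCyclic (closure ({a, b} : Set S)) := isCyclic_of_prime_card hn
    exact hnc fun x y => (IsCyclic.isMulCommutative (α := closure ({a, b} : Set S))).is_comm.comm x y
  · exfalso
    exact hnc fun x y => (IsPGroup.isMulCommutative_of_card_eq_prime_sq hn).is_comm.comm x y
  · rw [hn]; norm_num

end Hs

end heis

end Cfsg.Agent.H663.PiBSRu
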