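import Cfsg.Agent.H100.Ppd.Basic
import Cfsg.Agent.SporadicB.J1.Main
import Cfsg.Agent.S2039

/-!
# TEAM PPD (S5948): the row `J₁` in degrees 10 and 11 (helper663)

* `scott` : Scott's lemma for three linear maps with product 1;
* `card_modEq` : fixed vectors of an element of prime order;
* `J1.gen` : `J₁` is generated by two elements of order 19 with product of order 19;
* `j1_six` : no row with `k = 6`, `n ≤ 11`, `19 ∣ m` for `J₁`.
-/

set_option autoImplicit false
set_option linter.unusedSectionVars false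

namespace Cfsg.Agent.H663.Ppd

open Cfsg Cfsg.Geo Matrix
open Cfsg.Agent.H915.LD Cfsg.Agent.H100.Ppd

universe u v

/-! ### Scott's lemma -/

section scott

variable {F : Type u} [Field F] {V : Type v} [AddCommGroup V] [Module F V] [FiniteDimensional F V]

theorem scott (x y z : V →ₗ[F] V) (hxyz : ∀ v, x (y (z v)) = v)
    (hfix : ∀ v, x v = v → y v = v → z v = v → v = 0)
    (hspan : LinearMap.range (x - 1) ⊔ LinearMap.range (y - 1) ⊔ LinearMap.range (z - 1) = ⊤) :
    2 * Module.finrank F V ≤ Module.finrank F (LinearMap.range (x - 1)) +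
      Module.finrank F (LinearMap.range (y - 1)) + Module.finrank F (LinearMap.range (z - 1)) := by
  let A := LinearMap.range (x - 1)
  let B := LinearMap.range (y - 1)
  let C := LinearMap.range (z - 1)
  let φ : (A × B × C) →ₗ[F] V :=
    (A.subtype).coprod ((x.comp B.subtype).coprod ((x.comp y).comp C.subtype))
  have hφ : ∀ (a : A) (b : B) (c : C), φ (a, b, c) = a + (x b + x (y c)) := fun a b c => rfl
  let ψ : V →ₗ[F] (A × B × C) :=
    (LinearMap.rangeRestrict (x - 1)).prod
      ((LinearMap.rangeRestrict (y - 1)).prod (LinearMap.rangeRestrict (z - 1)))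
  have hψ : ∀ v, ψ v = (⟨(x - 1) v, v, rfl⟩, ⟨(y - 1) v, v, rfl⟩, ⟨(z - 1) v, v, rfl⟩) := fun v => rfl
  have hsurj : LinearMap.range φ = ⊤ := by
    rw [eq_top_iff]
    intro v _
    have hv : v ∈ LinearMap.range (x - 1) ⊔ LinearMap.range (y - 1) ⊔ LinearMap.range (z - 1) := by
      rw [hspan]; trivial
    obtain ⟨ab, hab, c, hc, h1⟩ := Submodule.mem_sup.1 hv
    obtain ⟨a, ha, b, hb, h2⟩ := Submodule.mem_sup.1 hab
    have hb' : b - (y - 1) c ∈ B := Submodule.sub_mem _ hb ⟨c, rfl⟩
    have ha' : a - (x - 1) (y c) - (x - 1) (b - (y - 1) c) ∈ A :=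
      Submodule.sub_mem _ (Submodule.sub_mem _ ha ⟨_, rfl⟩) ⟨_, rfl⟩
    refine ⟨(⟨_, ha'⟩, ⟨_, hb'⟩, ⟨c, hc⟩), ?_⟩
    rw [hφ]
    simp only [LinearMap.sub_apply, Module.End.one_apply, map_sub]
    rw [← h1, ← h2]
    abel
  have hinj : Function.Injective ψ := by
    rw [injective_iff_map_eq_zero]
    intro v hv
    rw [hψ] at hv
    have h1 := congrArg Subtype.val (congrArg Prod.fst hv)
    have h2 := congrArg Subtype.val (congrArg (fun t => t.2.1) hv)
    have h3 := congrArg Subtype.val (congrArg (fun t => t.2.2) hv)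
    simp only [LinearMap.sub_apply, Module.End.one_apply] at h1 h2 h3
    exact hfix v (sub_eq_zero.1 h1) (sub_eq_zero.1 h2) (sub_eq_zero.1 h3)
  have hle : LinearMap.range ψ ≤ LinearMap.ker φ := by
    rintro _ ⟨v, rfl⟩
    rw [LinearMap.mem_ker, hψ, hφ]
    simp only [LinearMap.sub_apply, Module.End.one_apply, map_sub]
    rw [hxyz]
    abel
  have h1 := LinearMap.finrank_range_add_finrank_ker φ
  rw [hsurj, finrank_top, Module.finrank_prod, Module.finrank_prod] at h1
  have h2 := Submodule.finrank_mono hle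
  rw [LinearMap.finrank_range_of_inj hinj] at h2
  change _ ≤ Module.finrank F A + Module.finrank F B + Module.finrank F C
  omega

end scott

/-! ### Fixed vectors -/

section fixed

variable {F : Type u} [Field F] [Finite F] {V : Type v} [AddCommGroup V] [Module F V] [FiniteDimensional F V]

theorem card_modEq {r : ℕ} (hr : r.Prime) (x : V →ₗ[F] V) (hx : x ^ r = 1) :
    Nat.card F ^ Module.finrank F V ≡ Nat.card F ^ Module.finrank F (LinearMap.ker (x - 1)) [MOD r] := by
  classical
  have : Fact r.Prime := ⟨hr⟩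
  have hfin : Finite V := Module.finite_of_finite F
  have := Fintype.ofFinite V
  have := Fintype.ofFinite F
  have h0 : x ^ (r - 1) * x = 1 := by rw [← pow_succ, Nat.sub_add_cancel hr.one_lt.le, hx]
  have h0' : x * x ^ (r - 1) = 1 := by rw [← pow_succ', Nat.sub_add_cancel hr.one_lt.le, hx]
  let σ : Equiv.Perm V := ⟨fun v => x v, fun v => (x ^ (r - 1)) v, fun v => LinearMap.congr_fun h0 v,
    fun v => LinearMap.congr_fun h0' v⟩
  have hpow : ∀ j : ℕ, ∀ v, (σ ^ j) v = (x ^ j) v := by
    intro j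
    induction j with
    | zero => intro v; rfl
    | succ j ih => intro v; rw [pow_succ, pow_succ, Equiv.Perm.mul_apply, ih]; rfl
  have hσ : σ ^ r ^ 1 = 1 := by
    rw [pow_one]
    ext v
    rw [hpow, hx]; rfl
  have h1 := (Equiv.Perm.card_compl_support_modEq hσ).symm
  have h2 : σ.supportᶜ.card = Nat.card (LinearMap.ker (x - 1)) := by
    refine (Nat.subtype_card _ fun v => ?_).symm
    rw [Finset.mem_compl, Equiv.Perm.mem_support, not_not, LinearMap.mem_ker, LinearMap.sub_apply,
      Module.End.one_apply, sub_eq_zero]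
    rfl
  rw [h2, ← Nat.card_eq_fintype_card, Module.natCard_eq_pow_finrank (K := F),
    Module.natCard_eq_pow_finrank (K := F) (V := LinearMap.ker (x - 1))] at h1
  exact h1

end fixed

/-! ### Matrices -/

section gl

variable {F : Type u} [Field F] {n : ℕ}

/-- `g - 1` as a linear map -/
noncomputable def lm (g : GL (Fin n) F) : (Fin n → F) →ₗ[F] (Fin n → F) := Matrix.toLin' (g : Matrix (Fin n) (Fin n) F)

theorem lm_mul (g h : GL (Fin n) F) (v : Fin n → F) : lm (g * h) v = lm g (lm h v) := by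
  rw [lm, Units.val_mul, Matrix.toLin'_mul]; rfl

theorem lm_one : lm (1 : GL (Fin n) F) = 1 := by
  rw [lm, Units.val_one, Matrix.toLin'_one]; rfl

theorem lm_pow (g : GL (Fin n) F) (j : ℕ) : lm (g ^ j) = lm g ^ j := by
  induction j with
  | zero => rw [pow_zero, pow_zero, lm_one]
  | succ j ih =>
    refine LinearMap.ext fun w => ?_
    rw [pow_succ, pow_succ, Module.End.mul_apply, ← ih, lm_mul]

theorem lm_injective : Function.Injective (lm : GL (Fin n) F → _) := fun _ _ hgh =>
  Units.ext (Matrix.toLin'.injective hgh)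

theorem mem_lm {P : Subgroup (GL (Fin n) F)} {W : Submodule F (Fin n → F)} (h : ∀ g ∈ P, ∀ w ∈ W, lm g w ∈ W) :
    ∀ s ∈ matrixSet P, W.map (Matrix.toLin' s) ≤ W := by
  rintro _ ⟨g, hg, rfl⟩ _ ⟨w, hw, rfl⟩
  exact h g hg w hw

/-- the dimension of `[V, g]` -/
noncomputable def dm (g : GL (Fin n) F) : ℕ := Module.finrank F (LinearMap.range (lm g - 1))

theorem scott_gl {P : Subgroup (GL (Fin n) F)} (hirr : ActsIrreducibly (matrixSet P)) {x y z : GL (Fin n) F}
    (hgen : P ≤ Subgroup.closure {x, y}) (hx1 : x ≠ 1) (hz : x * y * z = 1) : 2 * n ≤ dm x + dm y + dm z := by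
  have hzz : z = (x * y)⁻¹ := (inv_eq_of_mul_eq_one_right hz).symm
  have h1 := scott (lm x) (lm y) (lm z) (fun v => by rw [← lm_mul, ← lm_mul, hz, lm_one]; rfl) ?_ ?_
  · rwa [Module.finrank_fin_fun] at h1
  · -- fixed vectors
    let W : Submodule F (Fin n → F) := LinearMap.ker (lm x - 1) ⊓ LinearMap.ker (lm y - 1)
    have hW : ∀ w, w ∈ W ↔ lm x w = w ∧ lm y w = w := by
      intro w
      rw [Submodule.mem_inf, LinearMap.mem_ker, LinearMap.mem_ker, LinearMap.sub_apply, LinearMap.sub_apply,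
        Module.End.one_apply, sub_eq_zero, sub_eq_zero]
    have hfix : ∀ g ∈ P, ∀ w ∈ W, lm g w = w := by
      intro g hg w hw
      rw [hW] at hw
      refine Subgroup.closure_induction (p := fun g _ => lm g w = w) ?_ ?_ ?_ ?_ (hgen hg)
      · rintro a (rfl | rfl)
        · exact hw.1
        · exact hw.2
      · rw [lm_one]; rfl
      · intro a b _ _ ha hb
        rw [lm_mul, hb, ha]
      · intro a _ ha
        have h2 : lm a⁻¹ (lm a w) = w := by rw [← lm_mul, inv_mul_cancel, lm_one]; rfl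
        rwa [ha] at h2
    rcases hirr W (mem_lm fun g hg w hw => by rw [hfix g hg w hw]; exact hw) with h2 | h2
    · intro v hxv hyv _
      have h3 : v ∈ W := (hW v).2 ⟨hxv, hyv⟩
      rw [h2] at h3
      exact (Submodule.mem_bot F).1 h3
    · exfalso
      apply hx1
      apply lm_injective
      rw [lm_one]
      ext1 v
      refine LinearMap.ext fun w => ?_
      have h3 : (LinearMap.single F (fun _ => F) v) w ∈ W := by rw [h2]; trivial
      exact ((hW _).1 h3).1
  · -- commutators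
    set U := LinearMap.range (lm x - 1) ⊔ LinearMap.range (lm y - 1) ⊔ LinearMap.range (lm z - 1) with hU
    have hmem : ∀ g ∈ P, ∀ w, lm g w - w ∈ U := by
      intro g hg
      refine Subgroup.closure_induction (p := fun g _ => ∀ w, lm g w - w ∈ U) ?_ ?_ ?_ ?_ (hgen hg)
      · rintro a (rfl | rfl) w
        · exact Submodule.mem_sup_left (Submodule.mem_sup_left ⟨w, rfl⟩)
        · exact Submodule.mem_sup_left (Submodule.mem_sup_right ⟨w, rfl⟩)
      · intro w
        rw [lm_one, Module.End.one_apply, sub_self]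
        exact U.zero_mem
      · intro a b _ _ ha hb w
        have h2 : lm (a * b) w - w = (lm a (lm b w) - lm b w) + (lm b w - w) := by rw [lm_mul]; abel
        rw [h2]
        exact U.add_mem (ha _) (hb _)
      · intro a _ ha w
        have h2 : lm a (lm a⁻¹ w) = w := by rw [← lm_mul, mul_inv_cancel, lm_one]; rfl
        have h3 := ha (lm a⁻¹ w)
        rw [h2] at h3
        rw [← neg_sub]
        exact U.neg_mem h3
    rcases hirr U (mem_lm fun g hg w hw => by
      have h2 : lm g w = (lm g w - w) + w := by abel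
      rw [h2]
      exact U.add_mem (hmem g hg w) hw) with h2 | h2
    · exfalso
      apply hx1
      apply lm_injective
      rw [lm_one]
      refine LinearMap.ext fun w => ?_
      have h3 : (lm x - 1) w ∈ U := Submodule.mem_sup_left (Submodule.mem_sup_left ⟨w, rfl⟩)
      rw [h2, Submodule.mem_bot, LinearMap.sub_apply, sub_eq_zero] at h3
      exact h3
    · exact h2

theorem dvd_dm [Finite F] {k r : ℕ} (hr : r.Prime) (hk : ∀ i : ℕ, ((Nat.card F : ZMod r)) ^ i = 1 → k ∣ i)
    (hF : ¬ r ∣ Nat.card F) {g : GL (Fin n) F} (hg : g ^ r = 1) : k ∣ dm g := by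
  have : Fact r.Prime := ⟨hr⟩
  have h1 := card_modEq hr (lm g) (by rw [← lm_pow, hg, lm_one])
  have h2 := LinearMap.finrank_range_add_finrank_ker (lm g - 1)
  rw [Module.finrank_fin_fun] at h1 h2
  apply hk
  have h3 : ((Nat.card F : ZMod r)) ^ n = ((Nat.card F : ZMod r)) ^ Module.finrank F (LinearMap.ker (lm g - 1)) := by
    have := (ZMod.natCast_eq_natCast_iff _ _ _).2 h1
    rwa [Nat.cast_pow, Nat.cast_pow] at this
  have h4 : ((Nat.card F : ZMod r)) ≠ 0 := by
    rw [Ne, ZMod.natCast_eq_zero_iff]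
    exact hF
  have h6 : ((Nat.card F : ZMod r)) ^ n = ((Nat.card F : ZMod r)) ^ dm g *
      ((Nat.card F : ZMod r)) ^ Module.finrank F (LinearMap.ker (lm g - 1)) := by
    rw [← pow_add]
    exact congrArg _ h2.symm
  rw [h6] at h3
  have h5 := pow_ne_zero (Module.finrank F (LinearMap.ker (lm g - 1))) h4
  exact mul_right_cancel₀ h5 (by rw [one_mul]; exact h3)

theorem dm_le (g : GL (Fin n) F) : dm g ≤ n := by
  have h := Submodule.finrank_le (LinearMap.range (lm g - 1))
  rwa [Module.finrank_fin_fun] at h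

end gl

/-! ### Generators of `J₁` -/

namespace J1

open Cfsg.Agent.SporadicB.J1.Mat Cfsg.Agent.SporadicB.J1.Data Cfsg.Agent.SporadicB.J1.Main

/-- an element of order 19 -/
def x0 : Spor.J1 := ev [3, 0]

/-- an element of order 19 -/
def y0 : Spor.J1 := ev [0, 3, 3, 0, 1, 2]

def cx : Nat := evC [3, 0]
def cy : Nat := evC [0, 3, 3, 0, 1, 2]
def cxi : Nat := evC [2, 1]
def cyi : Nat := evC [0, 3, 2, 1, 1, 2]

theorem rep_x : Rep x0 cx := rep_ev _
theorem rep_y : Rep y0 cy := rep_ev _
theorem rep_xi : Rep x0⁻¹ cxi := rep_x.inv (by decide +kernel)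
theorem rep_yi : Rep y0⁻¹ cyi := rep_y.inv (by decide +kernel)

/-- words in `x0`, `y0` -/
def wd : List Nat → Spor.J1
  | [] => 1
  | 0 :: w => x0 * wd w
  | 1 :: w => y0 * wd w
  | 2 :: w => x0⁻¹ * wd w
  | _ :: w => y0⁻¹ * wd w

def wdC : List Nat → Nat
  | [] => cI
  | 0 :: w => mulC cx (wdC w)
  | 1 :: w => mulC cy (wdC w)
  | 2 :: w => mulC cxi (wdC w)
  | _ :: w => mulC cyi (wdC w)

theorem rep_wd : ∀ w : List Nat, Rep (wd w) (wdC w)
  | [] => Rep.one
  | 0 :: w => rep_x.mul (rep_wd w)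
  | 1 :: w => rep_y.mul (rep_wd w)
  | 2 :: w => rep_xi.mul (rep_wd w)
  | (_ + 3) :: w => rep_yi.mul (rep_wd w)

theorem wd_mem {H : Subgroup Spor.J1} (hx : x0 ∈ H) (hy : y0 ∈ H) : ∀ w : List Nat, wd w ∈ H
  | [] => H.one_mem
  | 0 :: w => H.mul_mem hx (wd_mem hx hy w)
  | 1 :: w => H.mul_mem hy (wd_mem hx hy w)
  | 2 :: w => H.mul_mem (H.inv_mem hx) (wd_mem hx hy w)
  | (_ + 3) :: w => H.mul_mem (H.inv_mem hy) (wd_mem hx hy w)

theorem x0_pow : x0 ^ 19 = 1 := (rep_x.pow 19).eq Rep.one (by decide +kernel)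
theorem y0_pow : y0 ^ 19 = 1 := (rep_y.pow 19).eq Rep.one (by decide +kernel)
theorem xy_pow : (x0 * y0) ^ 19 = 1 := ((rep_x.mul rep_y).pow 19).eq Rep.one (by decide +kernel)
theorem x0_ne : x0 ≠ 1 := rep_x.ne Rep.one (by decide +kernel)

theorem wd_X : wd [3, 3, 3, 2, 2, 1, 2, 2, 1, 2, 1] = X := (rep_wd _).eq repX (by decide +kernel)
theorem wd_Y : wd [1, 0, 0, 0, 1, 0, 3, 3, 3, 2, 3] = Y := (rep_wd _).eq repY (by decide +kernel)

theorem gen : Subgroup.closure ({x0, y0} : Set Spor.J1) = ⊤ := by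
  rw [eq_top_iff, ← data.hgen, Subgroup.closure_le]
  have hx : x0 ∈ Subgroup.closure ({x0, y0} : Set Spor.J1) := Subgroup.subset_closure (by simp)
  have hy : y0 ∈ Subgroup.closure ({x0, y0} : Set Spor.J1) := Subgroup.subset_closure (by simp)
  rintro a (rfl | rfl)
  · have h : X ∈ Subgroup.closure ({x0, y0} : Set Spor.J1) := by rw [← wd_X]; exact wd_mem hx hy _
    exact h
  · have h : Y ∈ Subgroup.closure ({x0, y0} : Set Spor.J1) := by rw [← wd_Y]; exact wd_mem hx hy _
    exact h

end J1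

/-- **The case `k = 6` of `J₁`.** -/
theorem j1_six {F : Type u} [Field F] [Finite F] {n m : ℕ} {P : Subgroup (GL (Fin n) F)} (h : Row 6 m P)
    (e : Soc P ≃* Spor.J1) (h19 : 19 ∣ m) : False := by
  have hp19 : (19 : ℕ).Prime := by norm_num
  have hten := h.num.ten
  have hn : n < 12 := by have := h.num.nlt; omega
  obtain ⟨e', -⟩ := h.core.equiv_of_coprime e Cfsg.Agent.S2039.result (by
    rw [Nat.card_congr Multiplicative.toAdd, Nat.card_zmod]
    exact Nat.coprime_one_left _)
  let x : P := e'.symm J1.x0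
  let y : P := e'.symm J1.y0
  have hgen : Subgroup.closure ({x, y} : Set P) = ⊤ := by
    have h1 : (Subgroup.closure ({J1.x0, J1.y0} : Set Spor.J1)).map e'.symm.toMonoidHom = ⊤ := by
      rw [J1.gen, ← MonoidHom.range_eq_map, MonoidHom.range_eq_top]
      exact e'.symm.surjective
    rw [MonoidHom.map_closure, Set.image_pair] at h1
    exact h1
  have hgen' : P ≤ Subgroup.closure {(x : GL (Fin n) F), (y : GL (Fin n) F)} := by
    have h1 : (Subgroup.closure ({x, y} : Set P)).map P.subtype = P := by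
      rw [hgen, ← MonoidHom.range_eq_map, Subgroup.range_subtype]
    rw [MonoidHom.map_closure, Set.image_pair] at h1
    exact h1.ge
  have hcoe : ∀ (a : P) (j : ℕ), a ^ j = 1 → (a : GL (Fin n) F) ^ j = 1 := fun a j ha => congrArg Subtype.val ha
  have hx : x ^ 19 = 1 := by rw [← map_pow, J1.x0_pow, map_one]
  have hy : y ^ 19 = 1 := by rw [← map_pow, J1.y0_pow, map_one]
  have hxy : (x * y) ^ 19 = 1 := by rw [← map_mul, ← map_pow, J1.xy_pow, map_one]
  have hz : ((x * y)⁻¹) ^ 19 = 1 := by rw [inv_pow, hxy, inv_one]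
  have hx1 : (x : GL (Fin n) F) ≠ 1 := by
    intro h1
    have h2 : x = 1 := Subtype.ext h1
    exact J1.x0_ne ((map_eq_one_iff _ e'.symm.injective).1 h2)
  have hs := scott_gl h.core.absIrred.1 (x := x) (y := y) (z := ((x * y)⁻¹ : P)) hgen' hx1 (by
    rw [← Subgroup.coe_mul, ← Subgroup.coe_mul, mul_inv_cancel]; rfl)
  have hd : ∀ g : GL (Fin n) F, g ^ 19 = 1 → dm g ≤ 6 := by
    intro g hg
    have h1 := dvd_dm hp19 (fun i hi => (h.num.pow_eq_one_iff hp19 h19 i).1 hi) (h.num.not_dvd_q hp19 h19) hg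
    have h2 := dm_le g
    omega
  have h1 := hd _ (hcoe _ _ hx)
  have h2 := hd _ (hcoe _ _ hy)
  have h3 := hd _ (hcoe _ _ hz)
  omega

end Cfsg.Agent.H663.Ppd
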